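/-
Transvections do not normalise groups of symplectic type.
-/
import Cfsg.Agent.Lib.Techniques.AschPrime.Cases
import Cfsg.Agent.Lib.Transvec.Basic

set_option autoImplicit false

namespace CfsgLib.Techniques.AschPrimeU

open Matrix CfsgLib.Transvec CfsgLib.Techniques.AschPrime
open scoped MatrixGroups

variable {ι : Type} [Fintype ι] [DecidableEq ι] {F : Type*} [Field F] [Finite F]

/-- Commutators in a group of order n³ with centre of order n are scalars. -/
theorem commutator_mem_scalars {n : ℕ} (hn : n.Prime) [Nonempty ι] {R : Subgroup (GL ι F)} (hR : AbsIrr R)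
    (hcard : Nat.card R = n ^ 3) (hcen : Nat.card (Subgroup.center R) = n) :
    ∀ x ∈ R, ∀ y ∈ R, x * y * x⁻¹ * y⁻¹ ∈ Cfsg.Geo.scalars ι F := by
  haveI : Fact n.Prime := ⟨hn⟩
  have hq : Nat.card (R ⧸ Subgroup.center R) = n ^ 2 := by
    have h := Subgroup.card_eq_card_quotient_mul_card_subgroup (Subgroup.center R)
    rw [hcard, hcen, pow_succ] at h
    exact (Nat.eq_of_mul_eq_mul_right hn.pos h).symm
  intro x hx y hy
  have h1 : (((⟨x, hx⟩ : R) * ⟨y, hy⟩ * (⟨x, hx⟩ : R)⁻¹ * (⟨y, hy⟩ : R)⁻¹ : R)) ∈ Subgroup.center R := by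
    rw [← QuotientGroup.eq_one_iff]
    simp only [QuotientGroup.mk_mul, QuotientGroup.mk_inv]
    rw [IsPGroup.commutative_of_card_eq_prime_sq hq ((⟨x, hx⟩ : R) : R ⧸ Subgroup.center R), mul_inv_cancel_right,
      mul_inv_cancel]
  exact hR.mem_scalars fun s hs => congrArg Subtype.val (Subgroup.mem_center_iff.mp h1 ⟨s, hs⟩).symm

omit [Finite F] in
theorem transv_ne_scalar [Nonempty ι] {v φ : ι → F} (hv : v ≠ 0) (hφ : φ ≠ 0) (hφv : φ ⬝ᵥ v = 0) :
    transv v φ ∉ Cfsg.Geo.scalars ι F := by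
  intro h
  obtain ⟨c, hc⟩ := (Cfsg.Geo.mem_scalars_iff _).mp h
  have h1 := transv_mulVec hφv v
  rw [hc, hφv, zero_smul, add_zero, smul_mulVec, one_mulVec] at h1
  have hc1 : (c : F) = 1 := smul_left_injective F hv (h1.trans (one_smul F v).symm)
  obtain ⟨i, hi⟩ := Function.ne_iff.mp hφ
  have h2 := transv_mulVec hφv (Pi.single i 1)
  rw [hc, hc1, one_smul, one_mulVec, dotProduct_single, mul_one, left_eq_add, smul_eq_zero] at h2
  exact h2.elim hi hv

/-- In degree at least five no transvection normalises such a group. -/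
theorem transv_not_mem_normalizer (h5 : 5 ≤ Fintype.card ι) {R : Subgroup (GL ι F)} (hR : AbsIrr R)
    (hcomm : ∀ x ∈ R, ∀ y ∈ R, x * y * x⁻¹ * y⁻¹ ∈ Cfsg.Geo.scalars ι F) {v φ : ι → F} (hv : v ≠ 0)
    (hφ : φ ≠ 0) (hφv : φ ⬝ᵥ v = 0) : transv v φ ∉ Cfsg.Geo.subgroupNormalizer R := by
  intro hmem
  haveI : Nonempty ι := Fintype.card_pos_iff.mp (by omega)
  set t := transv v φ with ht
  refine transv_ne_scalar hv hφ hφv (hR.mem_scalars fun r hr => ?_)
  change t * r = r * t
  set z := t * r * t⁻¹ * r⁻¹ with hz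
  have hzR : z ∈ R := R.mul_mem ((Subgroup.mem_normalizer_iff.mp hmem r).mp hr) (R.inv_mem hr)
  let L : (ι → F) →ₗ[F] F × F :=
    { toFun := fun w => (φ ⬝ᵥ w, φ ⬝ᵥ (((r⁻¹ : GL ι F) : Matrix ι ι F) *ᵥ w))
      map_add' := fun a b => by simp [dotProduct_add, mulVec_add]
      map_smul' := fun a b => by simp [dotProduct_smul, mulVec_smul] }
  set W := LinearMap.ker L with hW
  have hWdim : Fintype.card ι ≤ Module.finrank F W + 2 := by
    have h1 := LinearMap.finrank_range_add_finrank_ker L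
    have h2 := Submodule.finrank_le (LinearMap.range L)
    rw [Module.finrank_prod, Module.finrank_self] at h2
    rw [Module.finrank_fintype_fun_eq_card] at h1
    rw [hW]
    omega
  have hfix : ∀ w ∈ W, (z : Matrix ι ι F) *ᵥ w = w := by
    intro w hw
    rw [hW, LinearMap.mem_ker] at hw
    have hw1 : φ ⬝ᵥ w = 0 := congrArg Prod.fst hw
    have hw2 : φ ⬝ᵥ (((r⁻¹ : GL ι F) : Matrix ι ι F) *ᵥ w) = 0 := congrArg Prod.snd hw
    rw [hz, mul_mulVec, mul_mulVec, mul_mulVec, ht, transv_inv hφv,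
      transv_mulVec (by rw [neg_dotProduct, hφv, neg_zero] : (-φ) ⬝ᵥ v = 0), neg_dotProduct, hw2, neg_zero,
      zero_smul, add_zero, mulVec_inv_cancel, transv_mulVec hφv, hw1, zero_smul, add_zero]
  have hcen : ∀ s ∈ R, z * s = s * z := by
    intro s hs
    obtain ⟨c, hc⟩ := (Cfsg.Geo.mem_scalars_iff _).mp (hcomm z hzR s hs)
    by_contra hne
    have hc1 : (c : F) ≠ 1 := fun h => hne (by
      have : z * s * z⁻¹ * s⁻¹ = 1 := Units.ext (by rw [hc, h, one_smul, Units.val_one])
      rwa [mul_inv_eq_one, mul_inv_eq_iff_eq_mul] at this)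
    have hzs : ∀ w ∈ W, (z : Matrix ι ι F) *ᵥ ((s : Matrix ι ι F) *ᵥ w) = (c : F) • ((s : Matrix ι ι F) *ᵥ w) := by
      intro w hw
      have e : z * s = (z * s * z⁻¹ * s⁻¹) * (s * z) := by group
      rw [← mul_mulVec, e, mul_mulVec _ (s * z), mul_mulVec s z, hfix w hw, hc, smul_mulVec, one_mulVec]
    have hdisj : W ⊓ W.map (Matrix.toLin' (s : Matrix ι ι F)) = ⊥ := by
      rw [eq_bot_iff]
      rintro u ⟨hu, w, hw, rfl⟩
      rw [Submodule.mem_bot]
      have h1 := hfix _ hu
      rw [Matrix.toLin'_apply, hzs w hw] at h1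
      by_contra h0
      exact hc1 (smul_left_injective F (by simpa using h0) (h1.trans (one_smul F _).symm))
    have h1 := Submodule.finrank_sup_add_finrank_inf_eq W (W.map (Matrix.toLin' (s : Matrix ι ι F)))
    have h2 := Submodule.finrank_le (W ⊔ W.map (Matrix.toLin' (s : Matrix ι ι F)))
    rw [hdisj, finrank_bot, finrank_map_gl] at h1
    rw [Module.finrank_fintype_fun_eq_card] at h2
    omega
  obtain ⟨c, hc⟩ := (Cfsg.Geo.mem_scalars_iff _).mp (hR.mem_scalars hcen)
  obtain ⟨w, hw, hw0⟩ : ∃ w ∈ W, w ≠ 0 := Submodule.exists_mem_ne_zero_of_ne_bot fun h => by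
    rw [h, finrank_bot] at hWdim; omega
  have h1 := hfix w hw
  rw [hc, smul_mulVec, one_mulVec] at h1
  have hz1 : z = 1 := Units.ext (by
    rw [hc, smul_left_injective F hw0 (h1.trans (one_smul F w).symm), one_smul, Units.val_one])
  rwa [hz, mul_inv_eq_one, mul_inv_eq_iff_eq_mul] at hz1

/-- In degree three the same holds in characteristic at least five. -/
theorem transv_not_mem_normalizer_three (h3 : Fintype.card ι = 3) {p : ℕ} [CharP F p] (hp : p.Prime) (hp5 : 5 ≤ p)
    {R : Subgroup (GL ι F)} (hR : AbsIrr R) (hcard : Nat.card R = 27) (hcen : Nat.card (Subgroup.center R) = 3)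
    (hexp : ∀ s ∈ R, s ^ 3 = 1)
    {v φ : ι → F} (hv : v ≠ 0) (hφ : φ ≠ 0) (hφv : φ ⬝ᵥ v = 0) :
    transv v φ ∉ Cfsg.Geo.subgroupNormalizer R := by
  classical
  intro hmem
  haveI : Fact p.Prime := ⟨hp⟩
  haveI : Nonempty ι := Fintype.card_pos_iff.mp (by omega)
  haveI : Finite R := Nat.finite_of_card_ne_zero (by rw [hcard]; norm_num)
  haveI : Fintype R := Fintype.ofFinite R
  set t := transv v φ with ht
  have hpowt : ∀ k : ℕ, t ^ k = transv v ((k : F) • φ) := by
    intro k
    induction k with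
    | zero => simp
    | succ k ih =>
      rw [pow_succ, ih, ht, transv_mul (by rw [smul_dotProduct, hφv, smul_zero]) hφv, Nat.cast_succ, add_smul,
        one_smul]
  have htp : t ^ p = 1 := by rw [hpowt, CharP.cast_eq_zero, zero_smul, transv_zero]
  let e : Function.End R := fun r => ⟨t * r * t⁻¹, (Subgroup.mem_normalizer_iff.mp hmem r).mp r.2⟩
  have he : ∀ k (r : R), (((e ^ k) r : R) : GL ι F) = t ^ k * r * (t ^ k)⁻¹ := by
    intro k
    induction k with
    | zero =>
      intro r
      change (r : GL ι F) = _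
      simp
    | succ k ih =>
      intro r
      change (((e ^ k) (e r) : R) : GL ι F) = _
      rw [ih, pow_succ]
      simp only [e]
      group
  have hmod := Equiv.Perm.card_fixedPoints_modEq (f := e) (p := p) (n := 1)
    (funext fun r => Subtype.ext (by rw [he, pow_one, htp]; simp; rfl))
  by_cases hfix : ∀ r : R, e r = r → r ∈ Subgroup.center R
  · have hset : Nat.card (Function.fixedPoints e) = 3 := by
      rw [← hcen]
      refine Nat.card_congr (Equiv.subtypeEquivRight fun r => ⟨hfix r, fun hr => Subtype.ext ?_⟩)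
      have hs : (r : GL ι F) ∈ Cfsg.Geo.scalars ι F :=
        hR.mem_scalars fun s hs => congrArg Subtype.val (Subgroup.mem_center_iff.mp hr ⟨s, hs⟩).symm
      change t * r * t⁻¹ = r
      rw [← scalars_comm hs t, mul_inv_cancel_right]
    rw [← Nat.card_eq_fintype_card, ← Nat.card_eq_fintype_card, hcard, hset] at hmod
    have h24 : p ∣ 24 := (Nat.modEq_iff_dvd' (by norm_num : 3 ≤ 27)).mp hmod.symm
    have hle : p ≤ 24 := Nat.le_of_dvd (by norm_num) h24
    revert hp
    interval_cases p <;> revert h24 <;> norm_num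
  · push Not at hfix
    obtain ⟨⟨r, hrR⟩, hr, hrc⟩ := hfix
    have htr : t * r = r * t := mul_inv_eq_iff_eq_mul.mp (congrArg Subtype.val hr)
    obtain ⟨z, hz⟩ : ∃ z, φ ⬝ᵥ z = 1 := by
      obtain ⟨i, hi⟩ := Function.ne_iff.mp hφ
      exact ⟨Pi.single i (φ i)⁻¹, by rw [dotProduct_single, mul_inv_cancel₀ hi]⟩
    set a : F := φ ⬝ᵥ ((r : Matrix ι ι F) *ᵥ z) with ha
    have hra : (r : Matrix ι ι F) *ᵥ v = a • v := by
      have h1 := congrArg (fun g : GL ι F => (g : Matrix ι ι F) *ᵥ z) htr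
      simp only [mul_mulVec, ht, transv_mulVec hφv, hz, one_smul, mulVec_add, add_right_inj] at h1
      exact h1.symm
    obtain ⟨s, hsR, hrs⟩ : ∃ s ∈ R, r * s ≠ s * r := by
      by_contra hno
      push Not at hno
      exact hrc (Subgroup.mem_center_iff.mpr fun y => Subtype.ext (hno y y.2).symm)
    obtain ⟨c, hc⟩ := (Cfsg.Geo.mem_scalars_iff _).mp
      (commutator_mem_scalars (by norm_num : Nat.Prime 3) hR (hcard.trans (by norm_num)) hcen r hrR s hsR)
    have hc1 : (c : F) ≠ 1 := fun h => hrs (by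
      have : r * s * r⁻¹ * s⁻¹ = 1 := Units.ext (by rw [hc, h, one_smul, Units.val_one])
      rwa [mul_inv_eq_one, mul_inv_eq_iff_eq_mul] at this)
    have hstep : ∀ (b : F) (u : ι → F), (r : Matrix ι ι F) *ᵥ u = b • u →
        (r : Matrix ι ι F) *ᵥ ((s : Matrix ι ι F) *ᵥ u) = ((c : F) * b) • ((s : Matrix ι ι F) *ᵥ u) := by
      intro b u hu
      have e' : r * s = (r * s * r⁻¹ * s⁻¹) * (s * r) := by group
      rw [← mul_mulVec, e', mul_mulVec _ (s * r), mul_mulVec s r, hu, hc, smul_mulVec, one_mulVec, mulVec_smul, smul_smul]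
    set v1 := (s : Matrix ι ι F) *ᵥ v with hv1
    set v2 := (s : Matrix ι ι F) *ᵥ v1 with hv2
    have hr1 := hstep a v hra
    have hr2 := hstep _ v1 hr1
    have hv10 : v1 ≠ 0 := CfsgLib.Transvec.mulVec_ne_zero s hv
    have hv20 : v2 ≠ 0 := CfsgLib.Transvec.mulVec_ne_zero s hv10
    have ha0 : a ≠ 0 := fun h => CfsgLib.Transvec.mulVec_ne_zero r hv (by rw [hra, h, zero_smul])
    have hc3 : (c : F) ^ 3 = 1 := by
      have hv3 : (s : Matrix ι ι F) *ᵥ v2 = v := by
        rw [hv2, hv1, ← mul_mulVec, ← mul_mulVec, show s * s * s = s ^ 3 by rw [pow_succ, sq], hexp s hsR, Units.val_one,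
          one_mulVec]
      have hr3 := hstep _ v2 hr2
      rw [hv3, hra] at hr3
      have := smul_left_injective F hv hr3
      exact mul_left_cancel₀ ha0 (by linear_combination -this)
    have hc0 : (c : F) ≠ 0 := c.ne_zero
    have hc2 : (c : F) * c ≠ 1 := fun h => hc1 (by linear_combination hc3 - (c : F) * h)
    have hli : LinearIndependent F ![v, v1, v2] := by
      refine Module.End.eigenvectors_linearIndependent' (Matrix.toLin' (r : Matrix ι ι F))
        ![a, (c : F) * a, (c : F) * ((c : F) * a)] ?_ _ ?_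
      · have n01 : a ≠ (c : F) * a := fun h => hc1 (mul_right_cancel₀ ha0 (h.symm.trans (one_mul a).symm))
        have n02 : a ≠ (c : F) * ((c : F) * a) := fun h => hc2 (mul_right_cancel₀ ha0
          (by rw [mul_assoc, ← h, one_mul]))
        have n12 : (c : F) * a ≠ (c : F) * ((c : F) * a) := fun h => n01 (mul_left_cancel₀ hc0 h)
        intro i j hij
        fin_cases i <;> fin_cases j <;> simp_all
      · intro i
        fin_cases i <;> refine ⟨Module.End.mem_eigenspace_iff.mpr ?_, ?_⟩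
        · exact hra
        · exact hv
        · exact hr1
        · exact hv10
        · exact hr2
        · exact hv20
    have hker : ∀ (b : F) (u : ι → F), (r : Matrix ι ι F) *ᵥ u = b • u → b ≠ a → φ ⬝ᵥ u = 0 := by
      intro b u hu hb
      have h1 := congrArg (fun g : GL ι F => (g : Matrix ι ι F) *ᵥ u) htr
      simp only [mul_mulVec, ht, transv_mulVec hφv, hu, mulVec_add, mulVec_smul, hra, dotProduct_smul,
        smul_eq_mul, add_right_inj, smul_smul] at h1
      have h2 := smul_left_injective F hv h1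
      exact (mul_eq_zero.mp (show (φ ⬝ᵥ u) * (b - a) = 0 by linear_combination h2)).resolve_right
        (sub_ne_zero.mpr hb)
    have htop : ∀ i, φ ⬝ᵥ ![v, v1, v2] i = 0 := by
      intro i
      fin_cases i
      · exact hφv
      · exact hker _ _ hr1 fun h => hc1 (mul_right_cancel₀ ha0 (h.trans (one_mul a).symm))
      · exact hker _ _ hr2 fun h => hc2 (mul_right_cancel₀ ha0 (by rw [mul_assoc, h, one_mul]))
    apply hφ
    refine dotProduct_eq_zero _ fun u => ?_
    have hu : u ∈ Submodule.span F (Set.range ![v, v1, v2]) := by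
      rw [hli.span_eq_top_of_card_eq_finrank (by simp [h3])]
      trivial
    obtain ⟨k, rfl⟩ := (Submodule.mem_span_range_iff_exists_fun F).mp hu
    rw [dotProduct_sum]
    exact Finset.sum_eq_zero fun i _ => by rw [dotProduct_smul, htop, smul_zero]

end CfsgLib.Techniques.AschPrimeU
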