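/-
The line decomposition of an irreducible group of unitary isometries is orthogonal; centraliser algebras are closed
under adjoints.
-/
import Cfsg.Agent.Lib.Techniques.AschPrime.Field
import Cfsg.Agent.Lib.Techniques.AschPrime.Clifford
import Cfsg.Agent.Lib.Transvec.UnitarySub
import Cfsg.Agent.Lib.Transvec.HermForm

set_option autoImplicit false

namespace CfsgLib.Techniques.AschPrimeU

open Matrix CfsgLib.Transvec CfsgLib.Transvec.Unitary CfsgLib.Techniques.AschPrime
open scoped MatrixGroups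

variable {ι : Type} [Fintype ι] [DecidableEq ι] {F : Type*} [Field F] {σ : F ≃+* F}
  {f : (ι → F) → (ι → F) → F} (hf : Cfsg.Geo.IsUnitaryForm σ f)

include hf

theorem nondegenerateMDecomposition_of_chars [Finite F] {n : ℕ} (hn : n.Prime) (hodd : Odd n) {H A : Subgroup (GL ι F)}
    (hH : Irr H) (hiso : ∀ h ∈ H, Iso f h) (hAH : A ≤ H) (hAn : NormalisedBy H A)
    (hAs : ¬ A ≤ Cfsg.Geo.scalars ι F) {D : Fin n → Submodule F (ι → F)} (hD : Cfsg.Geo.IsMDecomposition 1 D)
    (hst : H ≤ Cfsg.Geo.decompositionStabilizer D) {χ : Fin n → A → F}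
    (hχ : ∀ i (x : A), ∀ v ∈ D i, ((x : GL ι F) : Matrix ι ι F) *ᵥ v = χ i x • v) :
    Cfsg.Geo.IsNondegenerateMDecomposition f 1 D := by
  classical
  haveI : Fact (Nat.Prime 2) := ⟨Nat.prime_two⟩
  haveI : Nonempty ι := by
    rcases isEmpty_or_nonempty ι with h | h
    · exfalso
      have h1 := hD.finrank_eq ⟨0, hn.pos⟩
      rw [show D ⟨0, hn.pos⟩ = ⊥ from Submodule.eq_bot_of_subsingleton] at h1
      rw [finrank_bot] at h1
      exact zero_ne_one h1
    · exact h
  have hpick : ∀ i, ∃ v ∈ D i, v ≠ (0 : ι → F) := fun i =>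
    Submodule.exists_mem_ne_zero_of_ne_bot fun h => by
      have h1 := hD.finrank_eq i
      rw [h, finrank_bot] at h1
      exact zero_ne_one h1
  choose b hb hb0 using hpick
  have hline : ∀ i, ∀ x ∈ D i, ∃ a : F, a • b i = x := fun i x hx => by
    obtain ⟨a, ha⟩ := (finrank_eq_one_iff_of_nonzero' (⟨b i, hb i⟩ : D i)
      (fun h => hb0 i (congrArg Subtype.val h))).mp (hD.finrank_eq i) ⟨x, hx⟩
    exact ⟨a, congrArg Subtype.val ha⟩
  have htrans : ∀ i j, ∃ h ∈ H, (D i).map (Matrix.toLin' (h : Matrix ι ι F)) = D j := by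
    intro i j
    let O : Set (Fin n) := {k | ∃ h ∈ H, (D i).map (Matrix.toLin' (h : Matrix ι ι F)) = D k}
    by_contra hj
    have hinv : Inv H (⨆ k ∈ O, D k) := by
      intro h hh w hw
      have hle : (⨆ k ∈ O, D k).map (Matrix.toLin' (h : Matrix ι ι F)) ≤ ⨆ k ∈ O, D k := by
        simp only [Submodule.map_iSup]
        refine iSup₂_le fun k hk => ?_
        obtain ⟨g, hg, hgk⟩ := hk
        obtain ⟨π, hπ⟩ := hst hh
        rw [hπ k]
        refine le_iSup₂ (f := fun l (_ : l ∈ O) => D l) (π k) ⟨h * g, H.mul_mem hh hg, ?_⟩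
        rw [Units.val_mul, Matrix.toLin'_mul, Submodule.map_comp, hgk, hπ k]
      have := hle (Submodule.mem_map_of_mem hw)
      rwa [Matrix.toLin'_apply] at this
    rcases (irr_iff H).mp hH _ hinv with h | h
    · apply hb0 i
      have hi : i ∈ O := ⟨1, H.one_mem, by simp⟩
      have := le_iSup₂ (f := fun l (_ : l ∈ O) => D l) i hi (hb i)
      rwa [h, Submodule.mem_bot] at this
    · have hdis : Disjoint (D j) (⨆ k ∈ O, D k) := hD.indep.disjoint_biSup hj
      rw [h, disjoint_top] at hdis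
      exact hb0 j (by simpa [hdis] using hb j)
  have hconj : ∀ h ∈ H, ∀ i j, (D i).map (Matrix.toLin' (h : Matrix ι ι F)) = D j →
      ∀ x : A, ∀ (y : A), (y : GL ι F) = h * x * h⁻¹ → χ j y = χ i x := by
    intro h hh i j hij x y hy
    have hm : (h : Matrix ι ι F) *ᵥ b i ∈ D j := by
      rw [← hij]; exact ⟨b i, hb i, Matrix.toLin'_apply _ _⟩
    have h1 := hχ j y _ hm
    rw [hy, mulVec_mulVec, ← Units.val_mul, inv_mul_cancel_right, AschPrime.mulVec_mul, hχ i x _ (hb i),
      mulVec_smul] at h1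
    exact (smul_left_injective F (CfsgLib.Transvec.mulVec_ne_zero h (hb0 i)) h1).symm
  -- the characters are distinct
  have hinj : Function.Injective χ := by
    let fib : Fin n → Finset (Fin n) := fun i => Finset.univ.filter fun k => χ k = χ i
    have hfib : ∀ i j, (fib i).card ≤ (fib j).card := by
      intro i j
      obtain ⟨h, hh, hij⟩ := htrans i j
      obtain ⟨π, hπ⟩ := hst hh
      refine Finset.card_le_card_of_injOn π (fun k hk => ?_) π.injective.injOn
      simp only [fib, Finset.coe_filter, Finset.mem_univ, true_and, Set.mem_ofPred_eq] at hk ⊢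
      funext y
      have hy : h⁻¹ * (y : GL ι F) * h ∈ A := hAn.inv_mem hh y.2
      have e : (y : GL ι F) = h * (h⁻¹ * (y : GL ι F) * h) * h⁻¹ := by group
      rw [hconj h hh k (π k) (hπ k) ⟨_, hy⟩ y e, hk, hconj h hh i j hij ⟨_, hy⟩ y e]
    intro i j hij
    by_contra hne
    have hsum := Finset.card_eq_sum_card_fiberwise (s := (Finset.univ : Finset (Fin n)))
      (t := Finset.univ.image χ) (f := χ) (fun k _ => by simp)
    rw [Finset.card_univ, Fintype.card_fin, Finset.sum_const_nat (m := (fib i).card) (fun c hc => by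
      obtain ⟨k, -, rfl⟩ := Finset.mem_image.mp hc
      exact le_antisymm (hfib k i) (hfib i k))] at hsum
    rcases (Nat.dvd_prime hn).mp ⟨_, hsum.trans (mul_comm _ _)⟩ with h1 | h1
    · exact hne (Finset.card_le_one.mp h1.le i (by simp [fib]) j (by simp [fib, hij]))
    · apply hAs
      intro a ha
      refine mem_scalars_of_eq_smul (c := χ i ⟨a, ha⟩) (Matrix.toLin'.injective (LinearMap.ext fun v => ?_))
      have hall : fib i = Finset.univ := Finset.eq_univ_of_card _ (by rw [h1, Fintype.card_fin])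
      rw [Matrix.toLin'_apply, Matrix.toLin'_apply, smul_mulVec, one_mulVec]
      have hv : v ∈ iSup D := by rw [hD.iSup_eq_top]; trivial
      refine Submodule.iSup_induction D (motive := fun v => (a : Matrix ι ι F) *ᵥ v = χ i ⟨a, ha⟩ • v) hv
        (fun k w hw => ?_) (by simp) (fun x y hx hy => by rw [mulVec_add, hx, hy, smul_add])
      have hk : k ∈ fib i := by rw [hall]; simp
      rw [hχ k ⟨a, ha⟩ w hw, (Finset.mem_filter.mp hk).2]
  -- the pairing
  have hpair : ∀ i j, f (b i) (b j) ≠ 0 → ∀ x : A, χ i x * σ (χ j x) = 1 := by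
    intro i j hij x
    have h1 := hiso _ (hAH x.2) (b i) (b j)
    rw [hχ i x _ (hb i), hχ j x _ (hb j), hf.smul_left, smul_right' hf, ← mul_assoc] at h1
    exact (mul_left_eq_self₀.mp h1).resolve_right hij
  have huniq : ∀ i j k, f (b i) (b j) ≠ 0 → f (b i) (b k) ≠ 0 → j = k := by
    intro i j k hj hk
    refine hinj (funext fun x => σ.injective ?_)
    have h1 := hpair i j hj x
    have h2 := hpair i k hk x
    exact mul_left_cancel₀ (left_ne_zero_of_mul_eq_one h1) (h1.trans h2.symm)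
  have hex : ∀ i, ∃ j, f (b i) (b j) ≠ 0 := by
    intro i
    by_contra hno
    push Not at hno
    obtain ⟨x, hx⟩ := (hf.nondegenerate (b i) (hb0 i)).2
    apply hx
    have hv : x ∈ iSup D := by rw [hD.iSup_eq_top]; trivial
    refine Submodule.iSup_induction D (motive := fun v => f (b i) v = 0) hv
      (fun k w hw => ?_) (zero_right' hf _) (fun x y hx hy => by rw [add_right' hf, hx, hy, add_zero])
    obtain ⟨a, rfl⟩ := hline k w hw
    rw [smul_right' hf, hno k, mul_zero]
  choose τ hτ using hex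
  have hττ : ∀ i, τ (τ i) = i := fun i =>
    huniq _ _ _ (hτ (τ i)) fun h => hτ i ((eq_zero_comm hf).mp h)
  obtain ⟨i₀, hi₀⟩ : ∃ i, τ i = i := by
    let P : Equiv.Perm (Fin n) := ⟨τ, τ, hττ, hττ⟩
    obtain ⟨i, hi⟩ := Equiv.Perm.exists_fixed_point_of_prime (p := 2) (n := 1) (σ := P)
      (by rw [Fintype.card_fin]; exact fun h => (Nat.not_even_iff_odd.mpr hodd) (even_iff_two_dvd.mpr h))
      (by ext i; simp [P, pow_succ, hττ])
    exact ⟨i, hi⟩
  have hself : ∀ j, τ j = j := by
    intro j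
    obtain ⟨h, hh, hij⟩ := htrans i₀ j
    have hm : (h : Matrix ι ι F) *ᵥ b i₀ ∈ D j := by
      rw [← hij]; exact ⟨b i₀, hb i₀, Matrix.toLin'_apply _ _⟩
    obtain ⟨a, ha⟩ := hline j _ hm
    have h0 : f (b i₀) (b i₀) ≠ 0 := by
      have := hτ i₀
      rwa [hi₀] at this
    rw [← hiso h hh, ← ha, hf.smul_left, smul_right' hf] at h0
    exact (huniq j j (τ j) (right_ne_zero_of_mul (right_ne_zero_of_mul h0)) (hτ j)).symm
  have hortho : ∀ i j, i ≠ j → f (b i) (b j) = 0 := fun i j hij => by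
    by_contra h
    exact hij ((hself i).symm.trans (huniq i (τ i) j (hτ i) h))
  refine ⟨hD, fun i w hw hw0 => ?_, fun i j hij u hu v hv => ?_⟩
  · obtain ⟨a, rfl⟩ := hline i w hw
    have ha : a ≠ 0 := fun h => hw0 (by rw [h, zero_smul])
    have h0 : f (b i) (b i) ≠ 0 := by
      have := hτ i
      rwa [hself i] at this
    exact ⟨⟨b i, hb i, by rw [smul_right' hf]; exact mul_ne_zero ((map_ne_zero_iff _ σ.injective).mpr ha) h0⟩,
      ⟨b i, hb i, by rw [hf.smul_left]; exact mul_ne_zero ha h0⟩⟩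
  · obtain ⟨a, rfl⟩ := hline i u hu
    obtain ⟨c, rfl⟩ := hline j v hv
    rw [hf.smul_left, smul_right' hf, hortho i j hij, mul_zero, mul_zero]

omit hf in
/-- Centraliser algebras of isometries of the standard unitary form are closed under adjoints. -/
theorem isAdjointClosedFor_cent {n q : ℕ} {F : Type*} [Field F] {σ : F ≃+* F} (hσ : ∀ x, σ x = x ^ q)
    (hinv : ∀ x, σ (σ x) = x) (hne : σ ≠ RingEquiv.refl F) {A : Subgroup (GL (Fin n) F)}
    (hA : ∀ a ∈ A, a ∈ Cfsg.GU n F q) : Cfsg.Geo.IsAdjointClosedFor (Cfsg.hermForm n F q) (cent A) := by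
  have hf := isUnitaryForm_hermForm (n := n) hσ hinv hne
  intro k hk
  have hadj : ∀ u v, Cfsg.hermForm n F q (k *ᵥ u) v = Cfsg.hermForm n F q u ((kᵀ.map σ) *ᵥ v) := by
    intro u v
    simp only [hermForm_eq hσ, Matrix.mulVec, dotProduct, Matrix.map_apply, Matrix.transpose_apply, map_sum, map_mul,
      hinv, Finset.sum_mul, Finset.mul_sum]
    rw [Finset.sum_comm]
    exact Finset.sum_congr rfl fun a _ => Finset.sum_congr rfl fun i _ => by ring
  refine ⟨kᵀ.map σ, mem_cent.mpr fun a ha => Matrix.ext_of_mulVec_single fun i => ?_, hadj⟩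
  set v : Fin n → F := Pi.single i 1
  rw [← mulVec_mulVec, ← mulVec_mulVec]
  by_contra hneq
  obtain ⟨x, hx⟩ := (hf.nondegenerate _ (sub_ne_zero.mpr hneq)).1
  apply hx
  have hiso : Iso (Cfsg.hermForm n F q) a := hA a ha
  have hcomm := mem_cent.mp hk _ (A.inv_mem ha)
  rw [sub_right' hf, sub_eq_zero, ← hadj x]
  conv_lhs => rw [← CfsgLib.Transvec.mulVec_inv_cancel a x]
  rw [hiso, ← hadj, mulVec_mulVec, ← hcomm, ← mulVec_mulVec, ← hiso, CfsgLib.Transvec.mulVec_inv_cancel]

end CfsgLib.Techniques.AschPrimeU
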