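/-
Isotropic vectors of unitary forms in any dimension at least two.
-/
import Cfsg.Agent.Lib.Transvec.UnitarySub

set_option autoImplicit false

namespace CfsgLib.Techniques.AschPrimeU

open Matrix CfsgLib.Transvec CfsgLib.Transvec.Unitary
open scoped MatrixGroups

variable {ι : Type} [Fintype ι] [DecidableEq ι] {F : Type*} [Field F] {σ : F ≃+* F}
  {f : (ι → F) → (ι → F) → F} (hf : Cfsg.Geo.IsUnitaryForm σ f)

include hf

theorem self_add_smul (x y : ι → F) (a : F) :
    f (x + a • y) (x + a • y) = f x x + σ a * f x y + a * f y x + a * σ a * f y y := by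
  rw [hf.add_left, add_right' hf, add_right' hf, hf.smul_left, hf.smul_left, smul_right' hf, smul_right' hf]
  ring

/-- A non-zero subspace on which the form is non-degenerate has an anisotropic vector. -/
theorem exists_aniso {W : Submodule F (ι → F)} (hW : W ≠ ⊥)
    (hnd : ∀ w ∈ W, w ≠ 0 → ∃ x ∈ W, f x w ≠ 0) : ∃ x ∈ W, f x x ≠ 0 := by
  by_contra hno
  push Not at hno
  obtain ⟨w, hw, hw0⟩ := W.exists_mem_ne_zero_of_ne_bot hW
  obtain ⟨x, hx, hxw⟩ := hnd w hw hw0
  obtain ⟨e, he⟩ := exists_trace_ne_zero (σ := σ) hf.ne_refl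
  set y : ι → F := (e / f x w) • x with hy
  have hyW : y ∈ W := W.smul_mem _ hx
  have hyw : f y w = e := by rw [hy, hf.smul_left, div_mul_cancel₀ e hxw]
  have h := hno (y + (1 : F) • w) (W.add_mem hyW (W.smul_mem _ hw))
  rw [self_add_smul hf, hno y hyW, hno w hw, hyw, map_one, hf.herm w y, hyw] at h
  exact he (by linear_combination h)

theorem top_nondeg : ∀ w ∈ (⊤ : Submodule F (ι → F)), w ≠ 0 → ∃ x ∈ (⊤ : Submodule F (ι → F)), f x w ≠ 0 :=
  fun w _ hw0 => let ⟨x, hx⟩ := (hf.nondegenerate w hw0).1; ⟨x, Submodule.mem_top, hx⟩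

theorem finrank_perpU_span_ge {k : ℕ} (v : Fin k → ι → F) :
    Fintype.card ι ≤ Module.finrank F (perpU hf (Submodule.span F (Set.range v))) + k := by
  have h1 := finrank_perpU_ge hf (Submodule.span F (Set.range v))
  have h2 : Module.finrank F (Submodule.span F (Set.range v)) ≤ k :=
    (finrank_range_le_card v).trans_eq (Fintype.card_fin k)
  omega

variable [Finite F]

theorem exists_norm_one : ∃ l : F, l ≠ 1 ∧ l * σ l = 1 := by
  obtain ⟨a, ha⟩ : ∃ a, σ a ≠ a := by
    by_contra h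
    simp only [not_exists, not_not] at h
    exact hf.ne_refl (RingEquiv.ext h)
  have h0 : a ≠ 0 := fun h => ha (by rw [h, map_zero])
  have hs : σ a ≠ 0 := fun h => h0 (σ.injective (by rw [h, map_zero]))
  refine ⟨σ a / a, fun h => ha ((div_eq_one_iff_eq h0).mp h), ?_⟩
  rw [map_div₀, hf.involutive]
  field_simp

/-- A hyperbolic pair. -/
theorem exists_hyperbolic (hn : 2 ≤ Fintype.card ι) :
    ∃ e g : ι → F, e ≠ 0 ∧ f e e = 0 ∧ f g g = 0 ∧ f e g = 1 := by
  haveI : Nonempty ι := Fintype.card_pos_iff.mp (by omega)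
  have htop : (⊤ : Submodule F (ι → F)) ≠ ⊥ := top_ne_bot
  obtain ⟨x, -, hx⟩ := exists_aniso hf htop (top_nondeg hf)
  obtain ⟨e, he0, he⟩ : ∃ e, e ≠ 0 ∧ f e e = 0 := by
    have h1 := finrank_perpU_span_ge hf (fun _ : Fin 1 => x)
    obtain ⟨y, hy, hy0⟩ : ∃ y ∈ perpU hf (Submodule.span F (Set.range fun _ : Fin 1 => x)), y ≠ 0 :=
      Submodule.exists_mem_ne_zero_of_ne_bot fun h => by rw [h, finrank_bot] at h1; omega
    have hyx : f y x = 0 := hy x (Submodule.subset_span ⟨0, rfl⟩)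
    by_cases hyy : f y y = 0
    · exact ⟨y, hy0, hyy⟩
    obtain ⟨a, ha⟩ := exists_norm_eq hf.ne_refl hf.involutive (b := -(f x x) / f y y)
      (by rw [map_div₀, map_neg, self_fixed hf, self_fixed hf])
    refine ⟨x + a • y, fun h0 => hx ?_, ?_⟩
    · have h2 : f (x + a • y) x = 0 := by rw [h0, zero_left' hf]
      rwa [hf.add_left, hf.smul_left, hyx, mul_zero, add_zero] at h2
    · rw [self_add_smul hf, hyx, (eq_zero_comm hf).mp hyx, ha, div_mul_cancel₀ _ hyy]
      ring
  obtain ⟨w, hw⟩ := (hf.nondegenerate e he0).2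
  set u : ι → F := (σ (f e w))⁻¹ • w with hu
  have heu : f e u = 1 := by rw [hu, smul_right' hf, map_inv₀, hf.involutive, inv_mul_cancel₀ hw]
  obtain ⟨a, ha⟩ := exists_trace_eq hf.ne_refl hf.involutive (b := -(f u u))
    (by rw [map_neg, self_fixed hf])
  refine ⟨e, u + a • e, he0, he, ?_, ?_⟩
  · rw [self_add_smul hf, he, heu, hf.herm u e, heu, map_one]
    linear_combination ha
  · rw [add_right' hf, smul_right' hf a e e, he, mul_zero, add_zero, heu]

/-- The isotropic vectors span. -/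
theorem mem_of_iso_mem (hn : 2 ≤ Fintype.card ι) {W : Submodule F (ι → F)}
    (hW : ∀ v, f v v = 0 → v ∈ W) (x : ι → F) : x ∈ W := by
  obtain ⟨e, g, -, he, hg, heg⟩ := exists_hyperbolic hf hn
  have hge : f g e = 1 := by rw [hf.herm, heg, map_one]
  set y : ι → F := x - f x g • e - f x e • g with hy
  have hye : f y e = 0 := by
    rw [hy, sub_left' hf, sub_left' hf, hf.smul_left, hf.smul_left, he, hge]; ring
  have hyg : f y g = 0 := by
    rw [hy, sub_left' hf, sub_left' hf, hf.smul_left, hf.smul_left, heg, hg]; ring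
  obtain ⟨a, ha⟩ := exists_trace_eq hf.ne_refl hf.involutive (b := -(f y y))
    (by rw [map_neg, self_fixed hf])
  have h1 : f (y + g + a • e) (y + g + a • e) = 0 := by
    rw [self_add_smul hf, hf.add_left y g e, add_right' hf e, hye, hge, (eq_zero_comm hf).mp hye, heg, he,
      hf.add_left y g, add_right' hf, add_right' hf, hyg, (eq_zero_comm hf).mp hyg, hg]
    linear_combination ha
  have e1 : y = (y + g + a • e) - g - a • e := by abel
  have hyW : y ∈ W := by
    rw [e1]
    exact W.sub_mem (W.sub_mem (hW _ h1) (hW g hg)) (W.smul_mem _ (hW e he))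
  have e2 : x = y + f x g • e + f x e • g := by rw [hy]; abel
  rw [e2]
  exact W.add_mem (W.add_mem hyW (W.smul_mem _ (hW e he))) (W.smul_mem _ (hW g hg))

/-- The isotropic vectors are not covered by two proper subspaces. -/
theorem exists_iso_not_mem (hn : 2 ≤ Fintype.card ι) {W W' : Submodule F (ι → F)} (hW : W ≠ ⊤) (hW' : W' ≠ ⊤) :
    ∃ v, f v v = 0 ∧ v ∉ W ∧ v ∉ W' := by
  by_contra hno
  push Not at hno
  have h1 : ∀ {U U' : Submodule F (ι → F)}, U ≠ ⊤ → (∀ v, f v v = 0 → v ∉ U → v ∈ U') →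
      ∃ v, f v v = 0 ∧ v ∉ U ∧ v ∈ U' := by
    intro U U' hU h
    by_contra hn'
    push Not at hn'
    refine hU (eq_top_iff.mpr fun x _ => mem_of_iso_mem hf hn (fun v hv => ?_) x)
    by_contra hvU
    exact hn' v hv hvU (h v hv hvU)
  obtain ⟨a, ha, haW, haW'⟩ := h1 hW hno
  obtain ⟨b, hb, hbW', hbW⟩ := h1 hW' fun v hv hvW' => by
    by_contra hvW
    exact hvW' (hno v hv hvW)
  obtain ⟨t, ht0, ht⟩ : ∃ t : F, t ≠ 0 ∧ σ t * f a b + t * f b a = 0 := by
    obtain ⟨c, hc0, hc⟩ := exists_skew hf.ne_refl hf.involutive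
    by_cases hab : f a b = 0
    · exact ⟨1, one_ne_zero, by rw [hab, (eq_zero_comm hf).mp hab, mul_zero, mul_zero, add_zero]⟩
    · have hba : f b a ≠ 0 := fun h => hab ((eq_zero_comm hf).mp h)
      refine ⟨c / f b a, div_ne_zero hc0 hba, ?_⟩
      rw [map_div₀, ← hf.herm, div_mul_cancel₀ _ hba, div_mul_cancel₀ _ hab]
      linear_combination hc
  have hiso : f (a + t • b) (a + t • b) = 0 := by
    rw [self_add_smul hf, ha, hb]
    linear_combination ht
  have hnW : a + t • b ∉ W := fun h => haW (by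
    have := W.sub_mem h (W.smul_mem t hbW); rwa [add_sub_cancel_right] at this)
  have hnW' : t • b ∉ W' := fun h => hbW' ((W'.smul_mem_iff ht0).mp h)
  exact hnW' (by
    have := W'.sub_mem (hno _ hiso hnW) haW'; rwa [add_sub_cancel_left] at this)

end CfsgLib.Techniques.AschPrimeU
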