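/-
The transvection group of a unitary form is not contained in the geometric members.
-/
import Cfsg.Agent.Lib.Techniques.AschPrimeU.Iso
import Cfsg.Agent.Lib.Techniques.AschPrime.Forms
import Cfsg.Agent.Lib.Techniques.AschPrime.Clifford

set_option autoImplicit false

namespace CfsgLib.Techniques.AschPrimeU

open Matrix CfsgLib.Transvec CfsgLib.Transvec.Unitary CfsgLib.Techniques.AschPrime
open scoped MatrixGroups

variable {ι : Type} [Fintype ι] [DecidableEq ι] {F : Type*} [Field F] {σ : F ≃+* F}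
  {f : (ι → F) → (ι → F) → F}

/-- A non-trivial transvection does not normalise a field of matrices. -/
theorem transv_not_mem_subalgebraNormalizer (h3 : 3 ≤ Fintype.card ι) {K : Subalgebra F (Matrix ι ι F)} {r : ℕ}
    (hK : Cfsg.Geo.IsFieldSubalgebra r K) (hr : 1 < r) {u φ : ι → F} (hu : u ≠ 0) (hφ0 : φ ≠ 0)
    (hφu : φ ⬝ᵥ u = 0) : transv u φ ∉ Cfsg.Geo.subalgebraNormalizer K := by
  intro hmem
  haveI : Nonempty ι := Fintype.card_pos_iff.mp (by omega)
  set t := transv u φ with ht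
  obtain ⟨z, hz⟩ : ∃ z, φ ⬝ᵥ z = 1 := by
    obtain ⟨i, hi⟩ := Function.ne_iff.mp hφ0
    exact ⟨Pi.single i (φ i)⁻¹, by rw [dotProduct_single, mul_inv_cancel₀ hi]⟩
  have hscal : ∀ k ∈ K, ∃ a : F, k = a • 1 := by
    intro k hk
    set D := (t : Matrix ι ι F) * k * ((t⁻¹ : GL ι F) : Matrix ι ι F) - k with hD
    have hd : D ∈ K := K.sub_mem ((hmem k).mp hk) hk
    let L : (ι → F) →ₗ[F] F × F :=
      { toFun := fun v => (φ ⬝ᵥ v, φ ⬝ᵥ (k *ᵥ v))
        map_add' := fun a b => by simp [dotProduct_add, mulVec_add]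
        map_smul' := fun a b => by simp [dotProduct_smul, mulVec_smul] }
    obtain ⟨v, hv, hv0⟩ := Submodule.exists_mem_ne_zero_of_ne_bot
      (LinearMap.ker_ne_bot_of_finrank_lt (f := L) (by simp [Module.finrank_prod, Module.finrank_pi]; omega))
    rw [LinearMap.mem_ker, Prod.ext_iff] at hv
    have hv1 : φ ⬝ᵥ v = 0 := hv.1
    have hv2 : φ ⬝ᵥ (k *ᵥ v) = 0 := hv.2
    have htv : ((t⁻¹ : GL ι F) : Matrix ι ι F) *ᵥ v = v := by
      rw [ht, transv_inv hφu, transv_mulVec (by rw [neg_dotProduct, hφu, neg_zero]), neg_dotProduct, hv1]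
      simp
    have hDv : D *ᵥ v = 0 := by
      rw [hD, sub_mulVec, ← mulVec_mulVec, htv, ← mulVec_mulVec, ht, transv_mulVec hφu, hv2, zero_smul, add_zero,
        sub_self]
    have hD0 : D = 0 := by
      by_contra hne
      obtain ⟨y, hyK, hy⟩ := hK.inv D hd hne
      apply hv0
      rw [hK.comm D hd y hyK] at hy
      rw [← one_mulVec v, ← hy, ← mulVec_mulVec, hDv, mulVec_zero]
    have hcomm : (t : Matrix ι ι F) * k = k * (t : Matrix ι ι F) := by
      have h := congrArg (· * (t : Matrix ι ι F)) (sub_eq_zero.mp hD0)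
      simpa [mul_assoc] using h
    have h1 := congrArg (· *ᵥ z) hcomm
    simp only [← mulVec_mulVec, ht, transv_mulVec hφu, hz, one_smul, mulVec_add, add_right_inj] at h1
    refine ⟨φ ⬝ᵥ (k *ᵥ z), ?_⟩
    by_contra hne
    obtain ⟨y, hyK, hy⟩ := hK.inv _ (K.sub_mem hk (K.smul_mem K.one_mem (φ ⬝ᵥ (k *ᵥ z)))) (sub_ne_zero.mpr hne)
    apply hu
    have e0 : (k - (φ ⬝ᵥ (k *ᵥ z)) • (1 : Matrix ι ι F)) *ᵥ u = 0 := by
      rw [sub_mulVec, smul_mulVec, one_mulVec, ← h1, sub_self]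
    rw [hK.comm _ (K.sub_mem hk (K.smul_mem K.one_mem _)) y hyK] at hy
    rw [← one_mulVec u, ← hy, ← mulVec_mulVec, e0, mulVec_zero]
  have hfin : Module.finrank F K ≤ 1 := by
    refine finrank_le_one (⟨1, K.one_mem⟩ : K) fun k => ?_
    obtain ⟨a, ha⟩ := hscal k.1 k.2
    exact ⟨a, Subtype.ext ha.symm⟩
  rw [hK.finrank_eq] at hfin
  omega

variable [Finite F] (hf : Cfsg.Geo.IsUnitaryForm σ f) {G : Subgroup (GL ι F)}
  (hT : ∀ v, f v v = 0 → ∀ c, c + σ c = 0 → uT f v c ∈ G)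

include hf hT

theorem not_le_subspaceStabilizer (hn : 2 ≤ Fintype.card ι) {W : Submodule F (ι → F)} (h0 : W ≠ ⊥) (h1 : W ≠ ⊤) :
    ¬ G ≤ Cfsg.Geo.subspaceStabilizer W := by
  intro hle
  have hperp : perpU hf W ≠ ⊤ := by
    intro h
    obtain ⟨w, hw, hw0⟩ := W.exists_mem_ne_zero_of_ne_bot h0
    obtain ⟨x, hx⟩ := (hf.nondegenerate w hw0).1
    exact hx ((h ▸ Submodule.mem_top : x ∈ perpU hf W) w hw)
  obtain ⟨v, hv, hvW, hvP⟩ := exists_iso_not_mem hf hn h1 hperp
  obtain ⟨c, hc0, hc⟩ := exists_skew hf.ne_refl hf.involutive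
  obtain ⟨w, hw, hvw⟩ : ∃ w ∈ W, f v w ≠ 0 := by
    by_contra h
    push Not at h
    exact hvP h
  have hm : (uT f v c : Matrix ι ι F) *ᵥ w ∈ W := mulVec_mem_of_mem_subspaceStabilizer (hle (hT v hv c hc)) hw
  rw [uT_mulVec hf hv] at hm
  have h2 := W.sub_mem hm hw
  rw [add_sub_cancel_left, W.smul_mem_iff (mul_ne_zero hc0 fun h => hvw ((eq_zero_comm hf).mp h))] at h2
  exact hvW h2

theorem not_le_subalgebraNormalizer (h3 : 3 ≤ Fintype.card ι) {K : Subalgebra F (Matrix ι ι F)} {r : ℕ}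
    (hK : Cfsg.Geo.IsFieldSubalgebra r K) (hr : 1 < r) : ¬ G ≤ Cfsg.Geo.subalgebraNormalizer K := by
  intro hle
  obtain ⟨e, g, he0, he, -, heg⟩ := exists_hyperbolic hf (by omega : 2 ≤ Fintype.card ι)
  obtain ⟨c, hc0, hc⟩ := exists_skew hf.ne_refl hf.involutive
  refine transv_not_mem_subalgebraNormalizer h3 hK hr he0 (fun h => ?_) (uT_dot hf he c) (hle (hT e he c hc))
  have h1 : (c • uvec f e) ⬝ᵥ g = 0 := by rw [h, zero_dotProduct]
  rw [smul_dotProduct, uvec_dot hf, hf.herm, heg, map_one, smul_eq_mul, mul_one] at h1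
  exact hc0 h1

theorem not_le_decompositionStabilizer {m : ℕ} {D : Fin m → Submodule F (ι → F)}
    (hD : Cfsg.Geo.IsNondegenerateMDecomposition f 1 D) (h3 : 3 ≤ Fintype.card ι)
    (hbig : (∃ u : F, σ u = u ∧ u ≠ 0 ∧ u ≠ -1) ∨ 4 ≤ Fintype.card ι) :
    ¬ G ≤ Cfsg.Geo.decompositionStabilizer D := by
  classical
  intro hle
  have hm : m = Fintype.card ι := by
    have h := finrank_iSup_eq_sum D hD.decomp.indep hD.decomp.iSup_eq_top
    simpa [hD.decomp.finrank_eq] using h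
  have hpick : ∀ i, ∃ v ∈ D i, f v v = 1 := by
    intro i
    obtain ⟨x, hx, hxx⟩ := exists_aniso hf (W := D i) (fun h => by
      have h1 := hD.decomp.finrank_eq i
      rw [h, finrank_bot] at h1
      exact zero_ne_one h1) fun w hw hw0 => (hD.nondegenerate i w hw hw0).1
    obtain ⟨a, ha⟩ := exists_norm_eq hf.ne_refl hf.involutive (b := (f x x)⁻¹) (by rw [map_inv₀, self_fixed hf])
    exact ⟨a • x, (D i).smul_mem a hx, by
      rw [hf.smul_left, smul_right' hf, ← mul_assoc, ha, inv_mul_cancel₀ hxx]⟩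
  choose b hb hb1 using hpick
  have hbb : ∀ i j, i ≠ j → f (b i) (b j) = 0 := fun i j hij => hD.orthogonal i j hij _ (hb i) _ (hb j)
  obtain ⟨a, hasum, j0, j1, j2, h01, h02, h12, ha0, ha1, ha2⟩ : ∃ a : Fin m → F, (∑ i, a i * σ (a i) = 0) ∧
      ∃ j0 j1 j2, j0 ≠ j1 ∧ j0 ≠ j2 ∧ j1 ≠ j2 ∧ a j0 ≠ 0 ∧ a j1 ≠ 0 ∧ a j2 ≠ 0 := by
    let i0 : Fin m := ⟨0, by omega⟩
    let i1 : Fin m := ⟨1, by omega⟩
    let i2 : Fin m := ⟨2, by omega⟩
    have h01 : i0 ≠ i1 := by simp [i0, i1]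
    have h02 : i0 ≠ i2 := by simp [i0, i2]
    have h12 : i1 ≠ i2 := by simp [i1, i2]
    by_cases hu : ∃ u : F, σ u = u ∧ u ≠ 0 ∧ u ≠ -1
    · obtain ⟨u, hu, hu0, hu1⟩ := hu
      obtain ⟨x, hx⟩ := exists_norm_eq hf.ne_refl hf.involutive hu
      obtain ⟨y, hy⟩ := exists_norm_eq hf.ne_refl hf.involutive (b := -(1 + u))
        (by rw [map_neg, map_add, map_one, hu])
      refine ⟨fun i => if i = i0 then 1 else if i = i1 then x else if i = i2 then y else 0, ?_,
        i0, i1, i2, h01, h02, h12, by simp, ?_, ?_⟩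
      · rw [← Finset.sum_subset (Finset.subset_univ {i0, i1, i2}) (fun i _ hi => by
          simp only [Finset.mem_insert, Finset.mem_singleton, not_or] at hi
          simp [hi.1, hi.2.1, hi.2.2])]
        simp [h01, h02, h12, h01.symm, h02.symm, h12.symm, hx, hy]
      · simp [h01.symm]
        rintro rfl
        exact hu0 (by rw [← hx, zero_mul])
      · simp [h02.symm, h12.symm]
        rintro rfl
        exact hu1 (by rw [zero_mul] at hy; linear_combination hy)
    · have h4 := hbig.resolve_left hu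
      let i3 : Fin m := ⟨3, by omega⟩
      have h03 : i0 ≠ i3 := by simp [i0, i3]
      have h13 : i1 ≠ i3 := by simp [i1, i3]
      have h23 : i2 ≠ i3 := by simp [i2, i3]
      push Not at hu
      have hchar : (1 : F) = -1 := hu 1 (map_one σ) one_ne_zero
      refine ⟨fun i => if i = i0 ∨ i = i1 ∨ i = i2 ∨ i = i3 then 1 else 0, ?_,
        i0, i1, i2, h01, h02, h12, by simp, by simp, by simp⟩
      rw [← Finset.sum_subset (Finset.subset_univ {i0, i1, i2, i3}) (fun i _ hi => by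
        simp only [Finset.mem_insert, Finset.mem_singleton, not_or] at hi
        simp [hi.1, hi.2.1, hi.2.2.1, hi.2.2.2])]
      simp [h01, h02, h03, h12, h13, h23]
      linear_combination 2 * hchar
  set v : ι → F := ∑ i, a i • b i with hv
  have hvb : ∀ k, f v (b k) = a k := fun k => by
    rw [← uvec_dot hf, hv, dotProduct_sum, Finset.sum_eq_single k]
    · rw [dotProduct_smul, uvec_dot hf, hb1, smul_eq_mul, mul_one]
    · intro i _ hik
      rw [dotProduct_smul, uvec_dot hf, hbb i k hik, smul_zero]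
    · simp
  have hvv : f v v = 0 := by
    rw [← uvec_dot hf v v]
    nth_rewrite 2 [hv]
    rw [dotProduct_sum, ← hasum]
    refine Finset.sum_congr rfl fun i _ => ?_
    rw [dotProduct_smul, uvec_dot hf, hf.herm, hvb, smul_eq_mul]
  obtain ⟨c, hc0, hc⟩ := exists_skew hf.ne_refl hf.involutive
  obtain ⟨π, hπ⟩ := hle (hT v hvv c hc)
  have hmem : (uT f v c : Matrix ι ι F) *ᵥ b j0 ∈ D (π j0) := by
    rw [← hπ j0]
    exact ⟨b j0, hb j0, Matrix.toLin'_apply _ _⟩
  rw [uT_mulVec hf hvv] at hmem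
  have key : ∀ k, k ≠ j0 → a k ≠ 0 → π j0 = k := by
    intro k hk hak
    by_contra hne
    have h := hD.orthogonal _ _ hne _ hmem _ (hb k)
    rw [hf.add_left, hf.smul_left, hbb _ _ (Ne.symm hk), hvb, zero_add] at h
    rw [hf.herm (b j0) v, hvb] at h
    exact mul_ne_zero (mul_ne_zero hc0 ((map_ne_zero_iff _ σ.injective).mpr ha0)) hak h
  exact h12 ((key j1 h01.symm ha1).symm.trans (key j2 h02.symm ha2))

end CfsgLib.Techniques.AschPrimeU
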