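/-
The transvection group of a unitary form is not contained in a subfield group, and does not normalise a group of
symplectic type.
-/
import Cfsg.Agent.Lib.Techniques.AschPrimeU.Proper

set_option autoImplicit false

namespace CfsgLib.Techniques.AschPrimeU

open Matrix CfsgLib.Transvec CfsgLib.Transvec.Unitary CfsgLib.Techniques.AschPrime
open scoped MatrixGroups

variable {ι : Type} [Fintype ι] [DecidableEq ι] {F : Type*} [Field F]

/-- A transvection which is a multiple of a matrix over a subfield has its entries there. -/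
theorem rat_of_transv (h3 : 3 ≤ Fintype.card ι) {F₀ : Subfield F} {w ψ : ι → F} {c : F} (hc : c ≠ 0)
    (h : ∀ i j, c * ((1 : Matrix ι ι F) + vecMulVec w ψ) i j ∈ F₀) : ∀ i j, w i * ψ j ∈ F₀ := by
  have hoff : ∀ i j, i ≠ j → c * (w i * ψ j) ∈ F₀ := fun i j hij => by
    simpa [vecMulVec_apply, hij] using h i j
  have hdiag : ∀ i, c * (1 + w i * ψ i) ∈ F₀ := fun i => by simpa [vecMulVec_apply] using h i i
  have hcF : c ∈ F₀ := by
    by_cases hz : ∃ i, w i * ψ i = 0
    · obtain ⟨i, hi⟩ := hz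
      simpa [hi] using hdiag i
    push Not at hz
    obtain ⟨i, j, k, hij, hik, hjk⟩ := Fintype.two_lt_card_iff.mp (show 2 < Fintype.card ι by omega)
    have hj : ψ j ≠ 0 := fun h0 => hz j (by rw [h0, mul_zero])
    have hk : w k ≠ 0 := fun h0 => hz k (by rw [h0, zero_mul])
    have e : c * (w i * ψ i) = c * (w i * ψ j) * (c * (w k * ψ i)) / (c * (w k * ψ j)) := by
      field_simp
    have hmem : c * (w i * ψ i) ∈ F₀ := e ▸ F₀.div_mem (F₀.mul_mem (hoff i j hij) (hoff k i hik.symm))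
      (hoff k j hjk.symm)
    have := F₀.sub_mem (hdiag i) hmem
    rwa [show c * (1 + w i * ψ i) - c * (w i * ψ i) = c by ring] at this
  intro i j
  have hd : ∀ a ∈ F₀, c⁻¹ * a ∈ F₀ := fun a ha => F₀.mul_mem (F₀.inv_mem hcF) ha
  by_cases hij : i = j
  · subst hij
    have := F₀.sub_mem (hd _ (hdiag i)) F₀.one_mem
    rwa [inv_mul_cancel_left₀ hc, add_sub_cancel_left] at this
  · have := hd _ (hoff i j hij)
    rwa [inv_mul_cancel_left₀ hc] at this

/-- Coefficients of a rational vector with respect to independent rational vectors are rational. -/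
theorem fixed_coeff {σ : F ≃+* F} {m : ℕ} {u : Fin m → ι → F} (hu : LinearIndependent F u)
    (hfix : ∀ k i, σ (u k i) = u k i) {u' : ι → F} (hfix' : ∀ i, σ (u' i) = u' i) {δ : F} (hδ : δ ≠ 0) {a : Fin m → F}
    (h : ∑ k, a k • u k = δ • u') : ∀ k, σ (a k / δ) = a k / δ := by
  have h1 : ∑ k, (σ (a k / δ) - a k / δ) • u k = 0 := by
    funext i
    have h2 := congrFun h i
    simp only [Finset.sum_apply, Pi.smul_apply, smul_eq_mul] at h2 ⊢
    have h3 : ∑ k, (a k / δ) * u k i = u' i := by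
      simp only [div_mul_eq_mul_div, ← Finset.sum_div]
      rw [h2, mul_div_cancel_left₀ _ hδ]
    have h4 := congrArg σ h3
    simp only [map_sum, map_mul, hfix, hfix'] at h4
    simp only [sub_mul, Finset.sum_sub_distrib, Pi.zero_apply]
    rw [h4, h3, sub_self]
  exact fun k => sub_eq_zero.mp (Fintype.linearIndependent_iff.mp hu _ h1 k)

variable [Finite F] {σ : F ≃+* F} {f : (ι → F) → (ι → F) → F} (hf : Cfsg.Geo.IsUnitaryForm σ f)
  {G : Subgroup (GL ι F)} (hT : ∀ v, f v v = 0 → ∀ c, c + σ c = 0 → uT f v c ∈ G)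

include hf hT

theorem not_le_subfieldSubgroup (h3 : 3 ≤ Fintype.card ι) {F₀ : Subfield F} (hF₀ : F₀ ≠ ⊤) (P : GL ι F) :
    ¬ G ≤ Cfsg.Geo.subfieldSubgroup F₀ P := by
  classical
  intro hle
  -- the transvection matrices are rational
  have hrat : ∀ v, f v v = 0 → ∀ c, c + σ c = 0 →
      ∀ i j, (((P⁻¹ : GL ι F) : Matrix ι ι F) *ᵥ v) i * (c * (uvec f v ᵥ* (P : Matrix ι ι F)) j) ∈ F₀ := by
    intro v hv c hc
    obtain ⟨x, hx, hxe⟩ := hle (hT v hv c hc)
    obtain ⟨_, ⟨y, rfl⟩, z, hz, e⟩ := Subgroup.mem_sup_of_normal_right.mp hx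
    obtain ⟨d, hd⟩ := (Cfsg.Geo.mem_scalars_iff z).mp hz
    have hxe' : P * x * P⁻¹ = transv v (c • uvec f v) := hxe
    have e2 : x = P⁻¹ * transv v (c • uvec f v) * P⁻¹⁻¹ := by rw [← hxe']; group
    rw [conj_transv _ (uT_dot hf hv c), inv_inv, smul_vecMul] at e2
    rw [e2] at e
    have hdot : (c • (uvec f v ᵥ* (P : Matrix ι ι F))) ⬝ᵥ (((P⁻¹ : GL ι F) : Matrix ι ι F) *ᵥ v) = 0 := by
      rw [smul_dotProduct, dotProduct_mulVec, vecMul_vecMul, ← Units.val_mul, mul_inv_cancel, Units.val_one,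
        vecMul_one, uvec_dot hf, hv, smul_zero]
    have h := congrArg (fun g : GL ι F => (g : Matrix ι ι F)) e
    simp only [Units.val_mul, hd, transv_val hdot, Matrix.mul_smul, Matrix.mul_one] at h
    refine rat_of_transv h3 (inv_ne_zero d.ne_zero) (ψ := c • (uvec f v ᵥ* (P : Matrix ι ι F))) fun i j => ?_
    have h' := congrArg ((d : F)⁻¹ • ·) h
    simp only [inv_smul_smul₀ d.ne_zero] at h'
    have h'' := congrFun (congrFun h' i) j
    rw [Matrix.smul_apply, smul_eq_mul] at h''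
    rw [← h'']
    exact (y.1 i j).2
  -- every isotropic vector spans a rational line
  obtain ⟨c0, hc00, hc0⟩ := exists_skew hf.ne_refl hf.involutive
  have hψ : ∀ v, v ≠ 0 → ∃ j, (uvec f v ᵥ* (P : Matrix ι ι F)) j ≠ 0 := fun v hv => by
    refine Function.ne_iff.mp fun h => ?_
    obtain ⟨x, hx⟩ := (hf.nondegenerate v hv).1
    apply hx
    rw [← uvec_dot hf, ← CfsgLib.Transvec.mulVec_inv_cancel P x, dotProduct_mulVec, h]
    simp
  have hline : ∀ v, v ≠ 0 → f v v = 0 → ∃ (a : F) (u : ι → F), a ≠ 0 ∧ (∀ i, u i ∈ F₀) ∧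
      ((P⁻¹ : GL ι F) : Matrix ι ι F) *ᵥ v = a • u := by
    intro v hv0 hv
    obtain ⟨j, hj⟩ := hψ v hv0
    set γ := c0 * (uvec f v ᵥ* (P : Matrix ι ι F)) j
    have hγ : γ ≠ 0 := mul_ne_zero hc00 hj
    refine ⟨γ⁻¹, fun i => (((P⁻¹ : GL ι F) : Matrix ι ι F) *ᵥ v) i * γ, inv_ne_zero hγ,
      fun i => hrat v hv c0 hc0 i j, funext fun i => ?_⟩
    rw [Pi.smul_apply, smul_eq_mul]
    field_simp
  obtain ⟨e, g, he0, he, hg, heg⟩ := exists_hyperbolic hf (show 2 ≤ Fintype.card ι by omega)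
  have hge : f g e = 1 := by rw [hf.herm, heg, map_one]
  have hg0 : g ≠ 0 := fun h => one_ne_zero (α := F) (by rw [← heg, h, zero_right' hf])
  -- the subfield is the fixed field
  have hfixsub : ∀ b, σ b = b → b ∈ F₀ := by
    intro b hb
    obtain ⟨j, hj⟩ := hψ e he0
    obtain ⟨i, hi⟩ := Function.ne_iff.mp (CfsgLib.Transvec.mulVec_ne_zero P⁻¹ he0)
    have h1 := hrat e he c0 hc0 i j
    have h2 := hrat e he (b * c0) (by rw [map_mul, hb]; linear_combination b * hc0) i j
    have := F₀.div_mem h2 h1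
    rwa [mul_assoc b, mul_left_comm _ b, mul_div_cancel_right₀ _
      (mul_ne_zero hi (mul_ne_zero hc00 hj))] at this
  have hF₀fix : ∀ a ∈ F₀, σ a = a := by
    intro a ha
    by_contra hne
    refine hF₀ (eq_top_iff.mpr fun x _ => ?_)
    have hd : a - σ a ≠ 0 := sub_ne_zero.mpr (Ne.symm hne)
    set β := (x - σ x) / (a - σ a) with hβ
    have hβf : σ β = β := by
      rw [hβ, map_div₀, map_sub, map_sub, hf.involutive, hf.involutive, ← neg_sub x, ← neg_sub a, neg_div_neg_eq]
    have hαf : σ (x - β * a) = x - β * a := by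
      rw [map_sub, map_mul, hβf]
      have : β * (a - σ a) = x - σ x := div_mul_cancel₀ _ hd
      linear_combination this
    have h := F₀.add_mem (hfixsub _ hαf) (F₀.mul_mem (hfixsub _ hβf) ha)
    rwa [sub_add_cancel] at h
  have hline' : ∀ v, v ≠ 0 → f v v = 0 → ∃ (a : F) (u : ι → F), a ≠ 0 ∧ (∀ i, σ (u i) = u i) ∧
      ((P⁻¹ : GL ι F) : Matrix ι ι F) *ᵥ v = a • u := fun v h1 h2 => by
    obtain ⟨a, u, ha, hu, h⟩ := hline v h1 h2
    exact ⟨a, u, ha, fun i => hF₀fix _ (hu i), h⟩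
  -- a third vector
  obtain ⟨x, hxp, hxx⟩ : ∃ x ∈ perpU hf (Submodule.span F (Set.range ![e, g])), f x x ≠ 0 := by
    have hnd : ∀ w ∈ Submodule.span F (Set.range ![e, g]), w ≠ 0 →
        ∃ y ∈ Submodule.span F (Set.range ![e, g]), f y w ≠ 0 := by
      intro w hw hw0
      obtain ⟨k, rfl⟩ := (Submodule.mem_span_range_iff_exists_fun F).mp hw
      simp only [Fin.sum_univ_two, Matrix.cons_val_zero, Matrix.cons_val_one] at hw0 ⊢
      by_cases hk : k 1 = 0
      · refine ⟨g, Submodule.subset_span ⟨1, rfl⟩, fun h => hw0 ?_⟩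
        rw [add_right' hf, smul_right' hf, smul_right' hf, hge, hg, mul_one, mul_zero, add_zero,
          map_eq_zero_iff _ σ.injective] at h
        rw [h, hk, zero_smul, zero_smul, add_zero]
      · refine ⟨e, Submodule.subset_span ⟨0, rfl⟩, fun h => hk ?_⟩
        rwa [add_right' hf, smul_right' hf, smul_right' hf, he, heg, mul_one, mul_zero, zero_add,
          map_eq_zero_iff _ σ.injective] at h
    refine exists_aniso hf (fun h => ?_) (perpU_nondegenerate hf hnd)
    have h1 := finrank_perpU_span_ge hf ![e, g]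
    rw [h, finrank_bot] at h1
    omega
  have hxe : f x e = 0 := hxp e (Submodule.subset_span ⟨0, rfl⟩)
  have hxg : f x g = 0 := hxp g (Submodule.subset_span ⟨1, rfl⟩)
  obtain ⟨a, ha⟩ := exists_trace_eq hf.ne_refl hf.involutive (b := -(f x x)) (by rw [map_neg, self_fixed hf])
  obtain ⟨l, hl1, hl⟩ := exists_norm_one hf
  have hiso : ∀ m : F, m * σ m = 1 → f (m • x + g + a • e) (m • x + g + a • e) = 0 := by
    intro m hm
    rw [self_add_smul hf, hf.add_left (m • x) g e, add_right' hf e, hf.smul_left, smul_right' hf m e x, hxe,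
      (eq_zero_comm hf).mp hxe, hge, heg, he, hf.add_left (m • x) g, add_right' hf, add_right' hf,
      hf.smul_left, hf.smul_left, smul_right' hf m x x, smul_right' hf m g x, hxg, (eq_zero_comm hf).mp hxg, hg]
    linear_combination ha + f x x * hm
  have hne : ∀ m : F, m • x + g + a • e ≠ 0 := by
    intro m h
    have h1 : f (m • x + g + a • e) e = 0 := by rw [h, zero_left' hf]
    rw [hf.add_left, hf.add_left, hf.smul_left, hf.smul_left, hxe, hge, he] at h1
    exact one_ne_zero (by linear_combination h1)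
  obtain ⟨α, u1, hα, hu1, h1⟩ := hline' e he0 he
  obtain ⟨β, u2, hβ, hu2, h2⟩ := hline' g hg0 hg
  have hsk : f (e + c0 • g) (e + c0 • g) = 0 := by
    rw [self_add_smul hf, he, hg, heg, hge]; linear_combination hc0
  obtain ⟨γ, u, hγ, hu, h4⟩ := hline' _ (fun h => he0 (by
    have hh : f (e + c0 • g) g = 0 := by rw [h, zero_left' hf]
    rw [hf.add_left, hf.smul_left, heg, hg, mul_zero, add_zero] at hh
    exact absurd hh one_ne_zero)) hsk
  obtain ⟨γ1, u3, hγ1, hu3, h3'⟩ := hline' _ (hne 1) (hiso 1 (by rw [map_one, mul_one]))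
  obtain ⟨γ2, u4, hγ2, hu4, h5⟩ := hline' _ (hne l) (hiso l hl)
  rw [mulVec_add, mulVec_smul, h1, h2] at h4
  rw [mulVec_add, mulVec_add, mulVec_smul, mulVec_smul, h1, h2, one_smul] at h3'
  rw [mulVec_add, mulVec_add, mulVec_smul, mulVec_smul, h1, h2] at h5
  have hli : LinearIndependent F ![u1, u2, u3] := by
    rw [Fintype.linearIndependent_iff]
    intro k hk
    simp only [Fin.sum_univ_three, Matrix.cons_val_zero, Matrix.cons_val_one, Matrix.cons_val_two,
      Matrix.tail_cons, Matrix.head_cons] at hk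
    have hP : (k 0 / α + k 2 / γ1 * a) • e + (k 1 / β + k 2 / γ1) • g + (k 2 / γ1) • x = 0 := by
      apply CfsgLib.Transvec.mulVec_injective P⁻¹
      simp only [mulVec_add, mulVec_smul, h1, h2, mulVec_zero]
      have e3 : (k 2 / γ1) • (((P⁻¹ : GL ι F) : Matrix ι ι F) *ᵥ x) =
          k 2 • u3 - (k 2 / γ1) • (β • u2 + a • α • u1) := by
        have hx' : ((P⁻¹ : GL ι F) : Matrix ι ι F) *ᵥ x = γ1 • u3 - (β • u2 + a • α • u1) := by
          rw [← h3']; abel
        rw [hx', smul_sub, smul_smul, div_mul_cancel₀ _ hγ1]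
      rw [e3]
      simp only [smul_add, smul_smul, add_mul, div_mul_cancel₀ _ hα, div_mul_cancel₀ _ hβ]
      rw [← hk]
      simp only [mul_assoc, add_smul]
      abel
    have hx0 : k 2 / γ1 = 0 := by
      have := congrArg (f · x) hP
      simp only [hf.add_left, hf.smul_left, zero_left' hf, (eq_zero_comm hf).mp hxe, (eq_zero_comm hf).mp hxg,
        mul_zero, zero_add] at this
      exact (mul_eq_zero.mp this).resolve_right hxx
    rw [hx0, zero_smul, add_zero, zero_mul, add_zero, add_zero] at hP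
    have he1 := congrArg (f · g) hP
    have hg1 := congrArg (f · e) hP
    simp only [hf.add_left, hf.smul_left, zero_left' hf, heg, hge, he, hg, mul_zero, mul_one, zero_add,
      add_zero] at he1 hg1
    intro i
    fin_cases i
    · exact (div_eq_zero_iff.mp he1).resolve_right hα
    · exact (div_eq_zero_iff.mp hg1).resolve_right hβ
    · exact (div_eq_zero_iff.mp hx0).resolve_right hγ1
  have hfix3 : ∀ (k : Fin 3) i, σ (![u1, u2, u3] k i) = ![u1, u2, u3] k i := by
    intro k i; fin_cases k <;> simp [hu1, hu2, hu3]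
  have r1 := fixed_coeff hli hfix3 hu hγ (a := ![α, c0 * β, 0]) (by
    rw [Fin.sum_univ_three]; simpa [smul_smul] using h4)
  have r2 := fixed_coeff hli hfix3 hu4 hγ2 (a := ![(1 - l) * (a * α), (1 - l) * β, l * γ1]) (by
    rw [Fin.sum_univ_three, ← h5]
    simp only [Matrix.cons_val_zero, Matrix.cons_val_one, Matrix.cons_val_two, Matrix.tail_cons, Matrix.head_cons]
    rw [show (l * γ1) • u3 = l • (((P⁻¹ : GL ι F) : Matrix ι ι F) *ᵥ x + β • u2 + a • α • u1) by
      rw [h3', smul_smul]]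
    simp only [sub_mul, one_mul, sub_smul, smul_add, smul_smul]
    abel)
  have q0 := r1 0
  have q1 := r1 1
  have q2 := r2 0
  have q3 := r2 1
  simp only [Matrix.cons_val_zero, Matrix.cons_val_one] at q0 q1 q2 q3
  have hl0 : 1 - l ≠ 0 := sub_ne_zero.mpr (Ne.symm hl1)
  have key : σ (a * c0) = a * c0 := by
    have e6 : a * c0 = ((1 - l) * (a * α) / γ2) / ((1 - l) * β / γ2) * ((c0 * β / γ) / (α / γ)) := by
      field_simp
    rw [e6, map_mul, map_div₀ σ ((1 - l) * (a * α) / γ2), map_div₀ σ (c0 * β / γ), q2, q3, q1, q0]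
  rw [map_mul, show σ c0 = -c0 by linear_combination hc0] at key
  apply hxx
  have h7 : a + σ a = 0 := by
    have : c0 * (a + σ a) = 0 := by linear_combination -key
    exact (mul_eq_zero.mp this).resolve_left hc00
  rw [ha] at h7
  exact neg_eq_zero.mp h7

end CfsgLib.Techniques.AschPrimeU
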