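/-
Absolutely irreducible unitary subgroups over subfields: rational forms, and descent from a fixed bilinear form.
-/
import Cfsg.Agent.Lib.Techniques.AschPrime.Forms
import Cfsg.Agent.Lib.Techniques.AschPrime.Subfield
import Cfsg.Agent.Lib.Transvec.Unitary

set_option autoImplicit false

namespace CfsgLib.Techniques.AschPrimeU

open Matrix CfsgLib.Transvec CfsgLib.Transvec.Unitary CfsgLib.Techniques.AschPrime
open scoped MatrixGroups

variable {ι : Type} [Fintype ι] [DecidableEq ι] {F : Type*} [Field F] [Fintype F] {σ : F ≃+* F}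
  {f : (ι → F) → (ι → F) → F} {q : ℕ}

theorem exists_not_fixed_mem (hF : Fintype.card F = q ^ 2) (hσ : ∀ x, σ x = x ^ q) {F₁ : Subfield F} {r : ℕ}
    (hrodd : Odd r) (hcard : Fintype.card F = Nat.card F₁ ^ r) : ∃ e ∈ F₁, σ e ≠ e := by
  classical
  by_contra hno
  push Not at hno
  obtain ⟨p, _⟩ := CharP.exists F
  haveI : Fintype F₁ := Fintype.ofFinite _
  haveI : CharP F₁ p := (RingHom.charP_iff_charP F₁.subtype p).2 inferInstance
  obtain ⟨a, hp, ha⟩ := FiniteField.card F₁ p
  obtain ⟨e, -, he⟩ := FiniteField.card F p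
  haveI : Fact p.Prime := ⟨hp⟩
  obtain ⟨b, -, rfl⟩ := (Nat.dvd_prime_pow hp).1
    (show q ∣ p ^ (e : ℕ) by rw [← he, hF]; exact dvd_pow_self q two_ne_zero)
  rw [Nat.card_eq_fintype_card, hF, ha, ← pow_mul, ← pow_mul] at hcard
  have hab : b * 2 = (a : ℕ) * r := Nat.pow_right_injective hp.two_le hcard
  obtain ⟨g, hg⟩ := IsCyclic.exists_generator (α := F₁ˣ)
  have hord : orderOf g = p ^ (a : ℕ) - 1 := by
    rw [orderOf_eq_card_of_forall_mem_zpowers hg, Nat.card_eq_fintype_card, Fintype.card_units, ha]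
  have h1 : ((g : F₁) : F) ^ (p ^ b) = ((g : F₁) : F) := by rw [← hσ]; exact hno _ (g : F₁).2
  have hb1 : 1 ≤ p ^ b := Nat.one_le_pow _ _ hp.pos
  have h2 : g ^ (p ^ b - 1) = 1 := by
    have hu : g ^ (p ^ b) = g := Units.ext (Subtype.ext (by push_cast; exact h1))
    apply mul_right_cancel (b := g)
    rw [← pow_succ, Nat.sub_add_cancel hb1, one_mul, hu]
  have hdvd : p ^ (a : ℕ) - 1 ∣ p ^ b - 1 := hord ▸ orderOf_dvd_of_pow_eq_one h2
  have hgcd : Nat.gcd (a : ℕ) b = a := by
    have h3 := Nat.pow_sub_one_gcd_pow_sub_one p (a : ℕ) b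
    rw [Nat.gcd_eq_left hdvd] at h3
    have h4 : p ^ (a : ℕ) = p ^ Nat.gcd (a : ℕ) b := by
      have := Nat.one_le_pow (a : ℕ) p hp.pos
      have := Nat.one_le_pow (Nat.gcd (a : ℕ) b) p hp.pos
      omega
    exact (Nat.pow_right_injective hp.two_le h4).symm
  obtain ⟨k, hk⟩ := Nat.gcd_eq_left_iff_dvd.mp hgcd
  obtain ⟨m, rfl⟩ := hrodd
  rw [hk, mul_assoc] at hab
  have := Nat.eq_of_mul_eq_mul_left a.pos hab
  omega

theorem fixed_of_mem_index_two (hF : Fintype.card F = q ^ 2) (hσ : ∀ x, σ x = x ^ q) {F₁ : Subfield F}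
    (hcard : Fintype.card F = Nat.card F₁ ^ 2) {x : F} (hx : x ∈ F₁) : σ x = x := by
  haveI : Fintype F₁ := Fintype.ofFinite _
  rw [hF, Nat.card_eq_fintype_card] at hcard
  rw [hσ, Nat.pow_left_injective two_ne_zero hcard]
  have h := congrArg Subtype.val (FiniteField.pow_card (⟨x, hx⟩ : F₁))
  simpa using h

variable (hf : Cfsg.Geo.IsUnitaryForm σ f)

include hf

/-- The Gram matrix of the form in the coordinates given by `B` and its invariance. -/
theorem conj_gram_inv {S : Subgroup (GL ι F)} (hfix : ∀ s ∈ S, Iso f s) (B : GL ι F) {s : GL ι F} (hs : s ∈ S) :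
    ((B * s * B⁻¹ : GL ι F) : Matrix ι ι F)ᵀ *
      Cfsg.Geo.gramMatrix (fun u v => f (((B⁻¹ : GL ι F) : Matrix ι ι F) *ᵥ u) (((B⁻¹ : GL ι F) : Matrix ι ι F) *ᵥ v)) *
      ((B * s * B⁻¹ : GL ι F) : Matrix ι ι F).map σ =
    Cfsg.Geo.gramMatrix (fun u v => f (((B⁻¹ : GL ι F) : Matrix ι ι F) *ᵥ u) (((B⁻¹ : GL ι F) : Matrix ι ι F) *ᵥ v)) := by
  have h' : IsSesq σ fun u v => f (((B⁻¹ : GL ι F) : Matrix ι ι F) *ᵥ u) (((B⁻¹ : GL ι F) : Matrix ι ι F) *ᵥ v) :=
    ⟨fun x y v => by simp only [mulVec_add, hf.add_left],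
     fun a x v => by simp only [mulVec_smul, hf.smul_left],
     fun v x y => by simp only [mulVec_add, add_right' hf],
     fun a v x => by simp only [mulVec_smul, smul_right' hf]⟩
  rw [← h'.gram_comp]
  refine congrArg Cfsg.Geo.gramMatrix (funext fun u => funext fun v => ?_)
  simp only [mulVec_mulVec, ← Units.val_mul]
  simp only [show B⁻¹ * (B * s * B⁻¹) = s * B⁻¹ by group, Units.val_mul, ← mulVec_mulVec]
  exact hfix s hs _ _

/-- An absolutely irreducible subgroup of isometries written over a subfield of prime index: either the index is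
odd, or it is two and the characteristic is odd; and the subfield structure can be chosen to carry the form. -/
theorem exists_formRational (hF : Fintype.card F = q ^ 2) (hσ : ∀ x, σ x = x ^ q) (hodd : Odd (Fintype.card ι))
    (h2 : 2 ≤ Fintype.card ι) {S : Subgroup (GL ι F)} (hS : AbsIrr S) (hfix : ∀ s ∈ S, Iso f s) {F₁ : Subfield F}
    {r : ℕ} (hr : r.Prime) (hcard : Fintype.card F = Nat.card F₁ ^ r) {B : GL ι F}
    (hB : ∀ s ∈ S, ∀ i j, ((B : Matrix ι ι F) * (s : Matrix ι ι F) * ((B⁻¹ : GL ι F) : Matrix ι ι F)) i j ∈ F₁) :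
    (Odd r ∨ (r = 2 ∧ Odd q)) ∧ ∃ B' : GL ι F,
      (∀ s ∈ S, ∀ i j, ((B' : Matrix ι ι F) * (s : Matrix ι ι F) * ((B'⁻¹ : GL ι F) : Matrix ι ι F)) i j ∈ F₁) ∧
      Cfsg.Geo.IsFormRationalStructure f F₁ 1 B'⁻¹ := by
  classical
  haveI : Nonempty ι := Fintype.card_pos_iff.mp (by omega)
  set Bi : Matrix ι ι F := ((B⁻¹ : GL ι F) : Matrix ι ι F) with hBi
  set f' : (ι → F) → (ι → F) → F := fun u v => f (Bi *ᵥ u) (Bi *ᵥ v) with hf'def
  have hf' : IsSesq σ f' :=
    ⟨fun x y v => by simp only [f', mulVec_add, hf.add_left],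
     fun a x v => by simp only [f', mulVec_smul, hf.smul_left],
     fun v x y => by simp only [f', mulVec_add, add_right' hf],
     fun a v x => by simp only [f', mulVec_smul, smul_right' hf]⟩
  have hnd' : Cfsg.Geo.IsNondegenerateForm f' := by
    intro v hv
    obtain ⟨⟨x, hx⟩, ⟨y, hy⟩⟩ := hf.nondegenerate _ (CfsgLib.Transvec.mulVec_ne_zero B⁻¹ hv)
    refine ⟨⟨(B : Matrix ι ι F) *ᵥ x, ?_⟩, ⟨(B : Matrix ι ι F) *ᵥ y, ?_⟩⟩
    · simp only [f', hBi, CfsgLib.Transvec.inv_mulVec_cancel]; exact hx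
    · simp only [f', hBi, CfsgLib.Transvec.inv_mulVec_cancel]; exact hy
  set G := Cfsg.Geo.gramMatrix f' with hG
  have hGu : IsUnit G.det := isUnit_iff_ne_zero.mpr (hf'.gram_det_ne_zero hnd')
  have hherm : ∀ a b, G b a = σ (G a b) := fun a b => hf.herm _ _
  have hinv : ∀ s : S, ((B * s * B⁻¹ : GL ι F) : Matrix ι ι F)ᵀ * G *
      ((B * s * B⁻¹ : GL ι F) : Matrix ι ι F).map σ = G := fun s => conj_gram_inv hf hfix B s.2
  have hstep : ∀ s : S, G * ((B * s * B⁻¹ : GL ι F) : Matrix ι ι F).map σ =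
      ((B * (s⁻¹ : S) * B⁻¹ : GL ι F) : Matrix ι ι F)ᵀ * G := by
    intro s
    conv_rhs => rw [← hinv s]
    rw [← mul_assoc, ← mul_assoc, ← Matrix.transpose_mul, ← Units.val_mul,
      show B * (s : GL ι F) * B⁻¹ * (B * ((s⁻¹ : S) : GL ι F) * B⁻¹) = 1 by rw [Subgroup.coe_inv]; group,
      Units.val_one, Matrix.transpose_one, one_mul]
  have huniq : ∀ D : Matrix ι ι F, (∀ s : S, D * ((B * s * B⁻¹ : GL ι F) : Matrix ι ι F).map σ =
      ((B * (s⁻¹ : S) * B⁻¹ : GL ι F) : Matrix ι ι F)ᵀ * D) → ∃ c : F, D = c • G := by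
    intro D hD
    have hcomm : ∀ s : S, ((B * (s⁻¹ : S) * B⁻¹ : GL ι F) : Matrix ι ι F)ᵀ * (D * G⁻¹) =
        (D * G⁻¹) * ((B * (s⁻¹ : S) * B⁻¹ : GL ι F) : Matrix ι ι F)ᵀ := by
      intro s
      rw [← mul_assoc, ← hD s]
      have h := congrArg (fun X => G⁻¹ * X * G⁻¹) (hstep s)
      simp only [mul_assoc, mul_nonsing_inv G hGu, mul_one] at h
      rw [← mul_assoc G⁻¹ G, nonsing_inv_mul G hGu, one_mul] at h
      simp only [mul_assoc] at h ⊢
      rw [h]
    obtain ⟨c, hc⟩ := hS.scalar (M := Bi * (D * G⁻¹)ᵀ * (B : Matrix ι ι F)) fun s hs => by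
      have h := congrArg Matrix.transpose (hcomm ⟨s⁻¹, S.inv_mem hs⟩)
      simp only [Matrix.transpose_mul, Matrix.transpose_transpose, Subgroup.coe_inv, inv_inv, Units.val_mul] at h
      have h' := congrArg (fun X => Bi * X * (B : Matrix ι ι F)) h
      simp only [hBi, Matrix.transpose_mul, mul_assoc, Units.inv_mul, mul_one, Units.inv_mul_cancel_left] at h' ⊢
      exact h'
    refine ⟨c, ?_⟩
    have h := congrArg (fun X => ((B : Matrix ι ι F) * X * Bi)ᵀ * G) hc
    simpa [hBi, mul_assoc, nonsing_inv_mul G hGu] using h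
  have hσmem : ∀ x ∈ F₁, σ x ∈ F₁ := fun x hx => by rw [hσ]; exact F₁.pow_mem hx q
  have hB' : ∀ (s : S) i j, ((B * (s : GL ι F) * B⁻¹ : GL ι F) : Matrix ι ι F) i j ∈ F₁ := fun s i j => by
    simpa only [Units.val_mul] using hB s s.2 i j
  obtain ⟨c, D, hc0, hD, hGD⟩ := exists_rat_intertwiner
    (A := fun s : S => ((B * s * B⁻¹ : GL ι F) : Matrix ι ι F).map σ)
    (A' := fun s : S => ((B * (s⁻¹ : S) * B⁻¹ : GL ι F) : Matrix ι ι F)ᵀ)
    (fun s i j => hσmem _ (hB' s i j)) (fun s i j => hB' s⁻¹ j i) (C := G)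
    (fun h => hGu.ne_zero (by rw [h, det_zero])) hstep huniq
  have hrel : ∀ a b, c * D b a = σ c * σ (D a b) := fun a b => by
    have := hherm a b
    rwa [hGD, Matrix.smul_apply, Matrix.smul_apply, smul_eq_mul, smul_eq_mul, map_mul] at this
  -- a scalar for which the Gram matrix becomes rational
  suffices key : (Odd r ∨ (r = 2 ∧ Odd q)) ∧ ∃ u : F, σ u = u ∧ u ≠ 0 ∧ u⁻¹ * c ∈ F₁ by
    obtain ⟨h1, u, hu, hu0, humem⟩ := key
    refine ⟨h1, ?_⟩
    obtain ⟨μ, hμ⟩ := exists_norm_eq hf.ne_refl hf.involutive hu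
    have hμ0 : μ ≠ 0 := fun h => hu0 (by rw [← hμ, h, zero_mul])
    set Z : GL ι F := Units.map (Matrix.scalar ι : F →+* Matrix ι ι F).toMonoidHom (Units.mk0 μ hμ0) with hZ
    have hZs : Z ∈ Cfsg.Geo.scalars ι F := ⟨_, rfl⟩
    have hZi : ((Z⁻¹ : GL ι F) : Matrix ι ι F) = μ⁻¹ • 1 := by
      rw [hZ, ← map_inv]
      simp [Matrix.smul_one_eq_diagonal]
    refine ⟨Z * B, fun s hs i j => ?_, fun u' v' hu' hv' => ?_⟩
    · have e : Z * B * s * (Z * B)⁻¹ = B * s * B⁻¹ := by
        rw [mul_assoc Z, _root_.mul_inv_rev, show Z * (B * s) * (B⁻¹ * Z⁻¹) = Z * (B * s * B⁻¹) * Z⁻¹ by group,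
          scalars_comm hZs, mul_inv_cancel_right]
      rw [← Units.val_mul, ← Units.val_mul, e]
      exact hB' ⟨s, hs⟩ i j
    · have e : ∀ w : ι → F, (((Z * B)⁻¹ : GL ι F) : Matrix ι ι F) *ᵥ w = μ⁻¹ • (Bi *ᵥ w) := fun w => by
        rw [_root_.mul_inv_rev, Units.val_mul, hZi, ← hBi, Matrix.mul_smul, mul_one, smul_mulVec]
      rw [one_mul, e, e, hf.smul_left, smul_right' hf]
      have hval : f (Bi *ᵥ u') (Bi *ᵥ v') = c * (u' ⬝ᵥ (D *ᵥ (σ ∘ v'))) := by
        change f' u' v' = _
        rw [hf'.eq_gram, ← hG, hGD, smul_mulVec, dotProduct_smul, smul_eq_mul]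
      rw [hval, ← mul_assoc, ← mul_assoc, map_inv₀, ← mul_inv, hμ]
      refine F₁.mul_mem humem (F₁.sum_mem fun i _ => F₁.mul_mem (hu' i) (F₁.sum_mem fun j _ => ?_))
      exact F₁.mul_mem (hD i j) (hσmem _ (hv' j))
  obtain ⟨i, j, hij⟩ : ∃ i j, D i j ≠ 0 := by
    by_contra h
    push Not at h
    exact hGu.ne_zero (by rw [hGD, show D = 0 from Matrix.ext h, smul_zero, det_zero])
  have hσc : σ c ≠ 0 := (map_ne_zero_iff _ σ.injective).mpr hc0
  have hσD : σ (D i j) ≠ 0 := (map_ne_zero_iff _ σ.injective).mpr hij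
  have hji : D j i ≠ 0 := fun h => mul_ne_zero hσc hσD (by rw [← hrel, h, mul_zero])
  rcases hr.eq_two_or_odd' with hr2 | hrodd
  · subst hr2
    have hfix1 : ∀ a b, σ (D a b) = D a b := fun a b => fixed_of_mem_index_two hF hσ hcard (hD a b)
    set t := σ c / c with ht
    have hrel' : ∀ a b, D b a = t * D a b := fun a b => by
      rw [ht, div_mul_eq_mul_div, eq_div_iff hc0, mul_comm, hrel, hfix1]
    have ht2 : t * t = 1 := by
      have h1 := hrel' i j
      rw [hrel' j i, ← mul_assoc] at h1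
      exact mul_right_cancel₀ hji (h1.symm.trans (one_mul _).symm)
    have hfull : G.det ≠ 0 := hGu.ne_zero
    by_cases h20 : (2 : F) = 0
    · exfalso
      have ht1 : t = 1 := by
        have : (t - 1) * (t - 1) = 0 := by linear_combination ht2 + (1 - t) * h20
        exact sub_eq_zero.mp ((mul_self_eq_zero).mp this)
      have hsym : ∀ a b, D b a = D a b := fun a b => by rw [hrel', ht1, one_mul]
      -- the diagonal is a semilinear functional with invariant kernel
      let b0 : (ι → F) → (ι → F) → F := fun u v => u ⬝ᵥ (D *ᵥ v)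
      have hb0 : Cfsg.Geo.IsBilinearForm b0 :=
        ⟨fun x y v => add_dotProduct x y _, fun c x v => by simp [b0, smul_dotProduct],
         fun v x y => by simp [b0, mulVec_add, dotProduct_add],
         fun c v x => by simp [b0, mulVec_smul, dotProduct_smul]⟩
      have hb0s : ∀ u v, b0 u v = b0 v u := fun u v => by
        simp only [b0]
        rw [dotProduct_mulVec, dotProduct_comm]
        congr 1
        funext k
        simp only [vecMul, mulVec, dotProduct]
        exact Finset.sum_congr rfl fun l _ => by rw [mul_comm, hsym]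
      have hadd : ∀ u v, b0 (u + v) (u + v) = b0 u u + b0 v v := fun u v => by
        rw [hb0.add_left, hb0.add_right, hb0.add_right, hb0s v u]
        linear_combination (b0 u v) * h20
      let W : Submodule F (ι → F) :=
        { carrier := {v | b0 v v = 0}
          zero_mem' := by simp [b0]
          add_mem' := fun {u v} hu hv => by
            rw [Set.mem_ofPred_eq] at hu hv ⊢
            rw [hadd, hu, hv, add_zero]
          smul_mem' := fun a v hv => by
            rw [Set.mem_ofPred_eq] at hv ⊢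
            rw [hb0.smul_left, hb0.smul_right, hv, mul_zero, mul_zero] }
      have hW : Inv S (W.map (Matrix.toLin' Bi)) := by
        rintro s hs _ ⟨w, hw, rfl⟩
        refine ⟨((B * s * B⁻¹ : GL ι F) : Matrix ι ι F) *ᵥ w, ?_, ?_⟩
        · have hfixσ : ((B * s * B⁻¹ : GL ι F) : Matrix ι ι F).map σ = ((B * s * B⁻¹ : GL ι F) : Matrix ι ι F) :=
            Matrix.ext fun a b => fixed_of_mem_index_two hF hσ hcard (hB' ⟨s, hs⟩ a b)
          have h := hinv ⟨s, hs⟩
          rw [hfixσ, hGD, Matrix.mul_smul, Matrix.smul_mul] at h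
          have h' := smul_right_injective _ hc0 h
          change b0 _ _ = 0
          have hw' : b0 w w = 0 := hw
          simp only [b0] at hw' ⊢
          rw [mulVec_mulVec, dotProduct_comm, dotProduct_mulVec, ← mulVec_transpose, mulVec_mulVec, ← mul_assoc, h',
            dotProduct_comm]
          exact hw'
        · simp only [Matrix.toLin'_apply, hBi, mulVec_mulVec, ← Units.val_mul]
          congr 2
          group
      rcases (irr_iff S).mp hS.1 _ hW with h | h
      · have hWbot : W = ⊥ := by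
          rw [← LinearMap.le_ker_iff_map] at h
          rw [eq_bot_iff]
          exact h.trans (LinearMap.ker_eq_bot.mpr (toLin'_injective_of_gl B⁻¹)).le
        have hinj : Function.Injective fun v : ι → F => b0 v v := by
          intro u v huv
          have huv' : b0 u u = b0 v v := huv
          have h1 : u - v ∈ W := by
            change b0 (u - v) (u - v) = 0
            have h3 := hadd (u - v) v
            rw [sub_add_cancel] at h3
            linear_combination huv' - h3
          rw [hWbot, Submodule.mem_bot, sub_eq_zero] at h1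
          exact h1
        have := Fintype.card_le_of_injective _ hinj
        rw [Fintype.card_fun] at this
        have h4 : Fintype.card F < Fintype.card F ^ Fintype.card ι := by
          conv_lhs => rw [← pow_one (Fintype.card F)]
          exact Nat.pow_lt_pow_right Fintype.one_lt_card (by omega)
        omega
      · have hWtop : W = ⊤ := by
          rw [eq_top_iff]
          intro v _
          have h1 : Bi *ᵥ v ∈ W.map (Matrix.toLin' Bi) := h ▸ Submodule.mem_top
          obtain ⟨w, hw, hwv⟩ := h1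
          rw [Matrix.toLin'_apply] at hwv
          exact CfsgLib.Transvec.mulVec_injective B⁻¹ hwv ▸ hw
        refine not_alternating_of_odd hodd hb0 (fun v => (hWtop ▸ Submodule.mem_top : v ∈ W)) (fun v w => ?_) ?_
        · rw [hb0s v w, eq_neg_iff_add_eq_zero]
          linear_combination (b0 w v) * h20
        · intro v hv
          have hDu : IsUnit D.det := isUnit_iff_ne_zero.mpr fun h0 => hfull (by rw [hGD, det_smul, h0, mul_zero])
          have hDv : D *ᵥ v ≠ 0 := fun h0 => hv ((Matrix.mulVec_injective_iff_isUnit.mpr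
            ((Matrix.isUnit_iff_isUnit_det D).mpr hDu)) (by rw [h0, mulVec_zero]))
          obtain ⟨k, hk⟩ := Function.ne_iff.mp hDv
          have hx : b0 (Pi.single k 1) v ≠ 0 := by simpa [b0] using hk
          exact ⟨⟨_, hx⟩, ⟨Pi.single k 1, by rwa [hb0s]⟩⟩
    · have hqodd : Odd q := by
        have h := FiniteField.odd_card_of_char_ne_two (F := F) fun h => h20 (by
          haveI := ringChar.charP F
          rw [h] at this
          exact CharP.cast_eq_zero F 2)
        rw [hF, ← Nat.odd_iff, Nat.odd_pow_iff two_ne_zero] at h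
        exact h
      rcases mul_self_eq_one_iff.mp ht2 with ht1 | ht1
      · refine ⟨Or.inr ⟨rfl, hqodd⟩, c, ?_, hc0, by rw [inv_mul_cancel₀ hc0]; exact F₁.one_mem⟩
        rw [← div_eq_one_iff_eq hc0]; exact ht1
      · exfalso
        apply hfull
        have hT : Dᵀ = (-1 : F) • D := Matrix.ext fun a b => by rw [Matrix.transpose_apply, hrel', ht1]; rfl
        have h1 := congrArg Matrix.det hT
        rw [det_transpose, det_smul, hodd.neg_one_pow, neg_one_mul] at h1
        rw [hGD, det_smul, (mul_eq_zero.mp (show (2 : F) * D.det = 0 by linear_combination h1)).resolve_left h20,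
          mul_zero]
  · set t := σ (D i j) / D j i with ht
    have hct : c = t * σ c := by
      rw [ht, div_mul_eq_mul_div, eq_div_iff hji, hrel, mul_comm]
    have htF : t ∈ F₁ := F₁.div_mem (hσmem _ (hD i j)) (hD j i)
    have htn : t * σ t = 1 := by
      have h1 := congrArg σ hct
      rw [map_mul, hf.involutive] at h1
      refine mul_right_cancel₀ hc0 ?_
      rw [mul_assoc, ← h1, ← hct, one_mul]
    obtain ⟨d, hdF, hd0, hd⟩ : ∃ d ∈ F₁, d ≠ 0 ∧ d = t * σ d := by
      by_cases h1 : 1 + t = 0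
      · obtain ⟨e, heF, he⟩ := exists_not_fixed_mem hF hσ hrodd hcard
        refine ⟨e - σ e, F₁.sub_mem heF (hσmem e heF), sub_ne_zero.mpr (Ne.symm he), ?_⟩
        rw [map_sub, hf.involutive]
        linear_combination (e - σ e) * h1
      · refine ⟨1 + t, F₁.add_mem F₁.one_mem htF, h1, ?_⟩
        rw [map_add, map_one]
        linear_combination -htn
    refine ⟨Or.inl hrodd, c / d, ?_, div_ne_zero hc0 hd0, by rw [inv_div, div_mul_cancel₀ _ hc0]; exact hdF⟩
    have hσd : σ d ≠ 0 := (map_ne_zero_iff _ σ.injective).mpr hd0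
    rw [map_div₀, div_eq_div_iff hσd hd0]
    linear_combination σ c * hd - σ d * hct

/-- An absolutely irreducible subgroup of isometries which also fixes a non-degenerate bilinear form can be written
over the fixed field. -/
theorem realisable_of_bilinear {S : Subgroup (GL ι F)} (hS : AbsIrr S) (hfix : ∀ s ∈ S, Iso f s)
    {b : (ι → F) → (ι → F) → F} (hb : Cfsg.Geo.IsBilinearForm b) (hnd : Cfsg.Geo.IsNondegenerateForm b)
    (hbfix : Cfsg.Geo.FixesForm (Cfsg.Geo.matrixSet S) b) [Nonempty ι] :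
    ∃ F₀ : Subfield F, F₀ ≠ ⊤ ∧ Cfsg.Geo.RealisableOver F₀ (Cfsg.Geo.matrixSet S) := by
  classical
  set Gb := Cfsg.Geo.gramMatrix b with hGb
  set Gf := Cfsg.Geo.gramMatrix f with hGf
  have hb' := IsSesq.of_bilinear hb
  have hf' := IsSesq.of_unitary hf
  have hbu : IsUnit Gb.det := isUnit_iff_ne_zero.mpr (hb'.gram_det_ne_zero hnd)
  have hfu : Gf.det ≠ 0 := hf'.gram_det_ne_zero hf.nondegenerate
  have hb1 : ∀ s ∈ S, (s : Matrix ι ι F)ᵀ * Gb * (s : Matrix ι ι F) = Gb := fun s hs => by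
    have h := hb'.gram_comp (s : Matrix ι ι F)
    rw [RingEquiv.coe_refl, Matrix.map_id] at h
    rw [hGb, ← h]
    exact congrArg Cfsg.Geo.gramMatrix (funext fun u => funext fun v => hbfix _ ⟨s, hs, rfl⟩ u v)
  have hf1 : ∀ s ∈ S, (s : Matrix ι ι F)ᵀ * Gf * (s : Matrix ι ι F).map σ = Gf := fun s hs => by
    rw [hGf, ← hf'.gram_comp]
    exact congrArg Cfsg.Geo.gramMatrix (funext fun u => funext fun v => hfix s hs u v)
  have hM : ∀ s ∈ S, (s : Matrix ι ι F) * (Gb⁻¹ * Gf) = (Gb⁻¹ * Gf) * (s : Matrix ι ι F).map σ := fun s hs => by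
    have h1 : (s : Matrix ι ι F) * (Gb⁻¹ * ((s : Matrix ι ι F)ᵀ * Gb)) = 1 := by
      refine mul_eq_one_comm.mp ?_
      rw [mul_assoc, hb1 s hs, nonsing_inv_mul Gb hbu]
    have h2 : (s : Matrix ι ι F) * Gb⁻¹ * (s : Matrix ι ι F)ᵀ = Gb⁻¹ := by
      have h := congrArg (· * Gb⁻¹) h1
      simpa [mul_assoc, mul_nonsing_inv Gb hbu] using h
    calc (s : Matrix ι ι F) * (Gb⁻¹ * Gf)
        = (s : Matrix ι ι F) * Gb⁻¹ * ((s : Matrix ι ι F)ᵀ * Gf * (s : Matrix ι ι F).map σ) := by
          rw [hf1 s hs, mul_assoc]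
      _ = ((s : Matrix ι ι F) * Gb⁻¹ * (s : Matrix ι ι F)ᵀ) * (Gf * (s : Matrix ι ι F).map σ) := by
          simp only [mul_assoc]
      _ = _ := by rw [h2, mul_assoc]
  set M := Gb⁻¹ * Gf with hMdef
  have hMu : IsUnit M.det := by
    rw [hMdef, det_mul]
    exact ((Gb.isUnit_nonsing_inv_det_iff).mpr hbu).mul (isUnit_iff_ne_zero.mpr hfu)
  have hmm : ∀ X : Matrix ι ι F, (X.map σ).map σ = X := fun X => Matrix.ext fun a b => hf.involutive _
  obtain ⟨l, hl⟩ := hS.scalar (M := M * M.map σ) fun s hs => by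
    have h1 := congrArg (·.map σ) (hM s hs)
    simp only [Matrix.map_mul, hmm] at h1
    calc M * M.map σ * (s : Matrix ι ι F) = M * ((s : Matrix ι ι F).map σ * M.map σ) := by rw [h1]; exact mul_assoc _ _ _
      _ = (M * (s : Matrix ι ι F).map σ) * M.map σ := (mul_assoc _ _ _).symm
      _ = (s : Matrix ι ι F) * (M * M.map σ) := by rw [← hM s hs]; exact mul_assoc _ _ _
  have hl0 : l ≠ 0 := by
    intro h
    rw [h, zero_smul] at hl
    have h1 := congrArg Matrix.det hl
    rw [det_mul, show (M.map σ).det = σ M.det from (σ.toRingHom.map_det _).symm, det_zero] at h1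
    exact mul_ne_zero hMu.ne_zero ((map_ne_zero_iff _ σ.injective).mpr hMu.ne_zero) h1
  have hlfix : σ l = l := by
    have h1 := congrArg (·.map σ) hl
    simp only [Matrix.map_mul, hmm] at h1
    have h2 : (l • (1 : Matrix ι ι F)).map σ = σ l • 1 := Matrix.ext fun a b => by
      simp [Matrix.one_apply, apply_ite σ]
    rw [h2] at h1
    have h3 : l • M = σ l • M := by
      calc l • M = M * M.map σ * M := by rw [hl, Matrix.smul_mul, one_mul]
        _ = M * (σ l • 1) := by rw [mul_assoc, h1]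
        _ = σ l • M := by rw [Matrix.mul_smul, mul_one]
    have hM0 : M ≠ 0 := fun h => hMu.ne_zero (by rw [h, det_zero])
    exact (smul_left_injective F hM0 h3).symm
  obtain ⟨μ, hμ⟩ := exists_norm_eq hf.ne_refl hf.involutive (b := l⁻¹) (by rw [map_inv₀, hlfix])
  set N := μ • M with hN
  have hNN : N * N.map σ = 1 := by
    have h2 : N.map σ = σ μ • M.map σ := Matrix.ext fun a b => by simp [hN]
    rw [h2, hN, Matrix.smul_mul, Matrix.mul_smul, smul_smul, hμ, hl, inv_smul_smul₀ hl0]
  have hNs : ∀ s ∈ S, (s : Matrix ι ι F) * N = N * (s : Matrix ι ι F).map σ := fun s hs => by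
    rw [hN, Matrix.mul_smul, Matrix.smul_mul, hM s hs]
  -- the fixed vectors of the semilinear involution span
  let J : (ι → F) → (ι → F) := fun v => N *ᵥ (σ ∘ v)
  have hσmv : ∀ (X : Matrix ι ι F) (v : ι → F), σ ∘ (X *ᵥ v) = X.map σ *ᵥ (σ ∘ v) := fun X v => by
    funext a; simp [Matrix.mulVec, dotProduct]
  have hσσ : ∀ v : ι → F, σ ∘ σ ∘ v = v := fun v => funext fun a => hf.involutive _
  have hJJ : ∀ v, J (J v) = v := fun v => by
    simp only [J, hσmv, hσσ, mulVec_mulVec, hNN, one_mulVec]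
  have hJadd : ∀ u v, J (u + v) = J u + J v := fun u v => by
    simp only [J, ← mulVec_add]; congr 1; funext a; simp
  have hJsmul : ∀ (a : F) v, J (a • v) = σ a • J v := fun a v => by
    simp only [J, ← mulVec_smul]; congr 1; funext k; simp
  have hspan : Submodule.span F {v | J v = v} = ⊤ := by
    rw [eq_top_iff]
    intro v _
    obtain ⟨e, he⟩ : ∃ e, σ e ≠ e := by
      by_contra h
      simp only [not_exists, not_not] at h
      exact hf.ne_refl (RingEquiv.ext h)
    have h1 : v + J v ∈ Submodule.span F {v | J v = v} :=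
      Submodule.subset_span (by rw [Set.mem_ofPred_eq, hJadd, hJJ, add_comm])
    have h2 : e • v + σ e • J v ∈ Submodule.span F {v | J v = v} :=
      Submodule.subset_span (by rw [Set.mem_ofPred_eq, hJadd, hJsmul, hJsmul, hJJ, hf.involutive, add_comm])
    have h3 := Submodule.smul_mem _ (σ e - e)⁻¹ (Submodule.sub_mem _ (Submodule.smul_mem _ (σ e) h1) h2)
    rwa [show σ e • (v + J v) - (e • v + σ e • J v) = (σ e - e) • v by rw [smul_add, sub_smul]; abel,
      inv_smul_smul₀ (sub_ne_zero.mpr he)] at h3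
  obtain ⟨bs, hbs, hbspan, hbli⟩ := exists_linearIndependent F {v : ι → F | J v = v}
  rw [hspan] at hbspan
  let bas : Module.Basis bs F (ι → F) :=
    Module.Basis.mk hbli (by rw [Subtype.range_coe]; exact hbspan.ge)
  haveI : Fintype bs := Fintype.ofFinite _
  let ei : ι ≃ bs := Fintype.equivOfCardEq (by
    rw [← Module.finrank_eq_card_basis bas, Module.finrank_fintype_fun_eq_card])
  let bas' : Module.Basis ι F (ι → F) := bas.reindex ei.symm
  let X : Matrix ι ι F := Matrix.of fun a i => bas' i a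
  have hX : ∀ i, X *ᵥ Pi.single i 1 = bas' i := fun i => by funext a; simp [X]
  have hXdet : IsUnit X.det := by
    rw [← Matrix.isUnit_iff_isUnit_det, ← Matrix.linearIndependent_cols_iff_isUnit]
    exact bas'.linearIndependent
  have hNX : N * X.map σ = X := by
    refine Matrix.ext_of_mulVec_single fun i => ?_
    have hfx : J (bas' i) = bas' i := by
      have : (bas' i : ι → F) = ((ei i : bs) : ι → F) := by simp [bas', bas]
      rw [this]
      exact hbs (ei i).2
    rw [← mulVec_mulVec, hX]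
    refine Eq.trans ?_ hfx
    congr 1
    funext a
    simp [X]
  refine ⟨RingHom.eqLocusField (σ : F →+* F) (RingHom.id F), fun htop => hf.ne_refl (RingEquiv.ext fun a =>
    (show a ∈ RingHom.eqLocusField (σ : F →+* F) (RingHom.id F) by rw [htop]; trivial)),
    (Matrix.GeneralLinearGroup.mk'' X hXdet)⁻¹, ?_⟩
  rintro _ ⟨s, hs, rfl⟩ i j
  set Xu := Matrix.GeneralLinearGroup.mk'' X hXdet with hXu
  rw [inv_inv]
  set s' := ((Xu⁻¹ : GL ι F) : Matrix ι ι F) * (s : Matrix ι ι F) * (Xu : Matrix ι ι F) with hs'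
  change σ (s' i j) = s' i j
  have hXs : X * s' = (s : Matrix ι ι F) * X := by
    rw [hs', ← mul_assoc, ← mul_assoc, show X = (Xu : Matrix ι ι F) from rfl, Units.mul_inv, one_mul]
  clear_value s'
  have h : X * s'.map σ = X * s' := by
    calc X * s'.map σ = N * (X * s').map σ := by rw [Matrix.map_mul, ← mul_assoc, hNX]
      _ = (s : Matrix ι ι F) * (N * X.map σ) := by rw [hXs, Matrix.map_mul, ← mul_assoc, ← hNs s hs, mul_assoc]
      _ = X * s' := by rw [hNX, hXs]
  have h' := congrArg (fun Y => ((Xu⁻¹ : GL ι F) : Matrix ι ι F) * Y) h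
  simp only [show X = (Xu : Matrix ι ι F) from rfl, Units.inv_mul_cancel_left] at h'
  exact congrFun (congrFun h' i) j

end CfsgLib.Techniques.AschPrimeU
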