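/-
Maximal subgroups of the special unitary groups of odd prime degree.
-/
import Cfsg.Agent.Lib.Techniques.AschPrime.Cases
import Cfsg.Agent.Lib.Techniques.AschPrime.Mono
import Cfsg.Agent.Lib.Techniques.AschPrimeU.Decomp
import Cfsg.Agent.Lib.Techniques.AschPrimeU.UDescent
import Cfsg.Agent.Lib.Techniques.AschPrimeU.ProperSub

set_option autoImplicit false

namespace CfsgLib.Techniques.AschPrimeU

open Matrix CfsgLib.Transvec CfsgLib.Transvec.Unitary CfsgLib.Techniques.AschPrime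
open scoped MatrixGroups

variable {F : Type*} [Field F] [Fintype F]

theorem one_lt_of_card_sq {q : ℕ} (hF : Fintype.card F = q ^ 2) : 1 < q := by
  have h1 := Fintype.one_lt_card (α := F)
  by_contra h
  have h2 : q ^ 2 ≤ 1 ^ 2 := Nat.pow_le_pow_left (not_lt.mp h) 2
  omega

/-- For q at least three the fixed field has an element other than zero and minus one. -/
theorem exists_fixed_elem {q : ℕ} (hF : Fintype.card F = q ^ 2) (hq : 3 ≤ q) {σ : F ≃+* F}
    (hσ : ∀ x, σ x = x ^ q) (hinv : ∀ x, σ (σ x) = x) : ∃ u : F, σ u = u ∧ u ≠ 0 ∧ u ≠ -1 := by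
  by_contra hno
  push Not at hno
  have h1 : (1 : F) = -1 := hno 1 (map_one σ) one_ne_zero
  have hall : ∀ x : Fˣ, x ^ (q + 1) = 1 := by
    intro x
    have hfix : σ ((x : F) * σ x) = (x : F) * σ x := by rw [map_mul, hinv, mul_comm]
    have hne : (x : F) * σ x ≠ 0 := mul_ne_zero x.ne_zero ((map_ne_zero_iff _ σ.injective).mpr x.ne_zero)
    refine Units.ext ?_
    rw [Units.val_pow_eq_pow_val, Units.val_one, h1, pow_succ', ← hσ, hno _ hfix hne]
  have hdiv := (FiniteField.forall_pow_eq_one_iff F (q + 1)).mp hall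
  rw [hF] at hdiv
  have hle := Nat.le_of_dvd (Nat.succ_pos q) hdiv
  have : 3 * q ≤ q ^ 2 := by rw [sq]; exact Nat.mul_le_mul_right q hq
  omega

/-- The orthogonal of an invariant subspace is invariant. -/
theorem inv_perpU {n : ℕ} {σ : F ≃+* F} {f : (Fin n → F) → (Fin n → F) → F} (hf : Cfsg.Geo.IsUnitaryForm σ f)
    {H : Subgroup (GL (Fin n) F)} (hiso : ∀ h ∈ H, Iso f h) {W : Submodule F (Fin n → F)} (hW : Inv H W) :
    Inv H (perpU hf W) := by
  intro h hh x hx w hw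
  rw [← CfsgLib.Transvec.mulVec_inv_cancel h w, hiso h hh]
  exact hx _ (hW _ (H.inv_mem hh) w hw)

/-- The general form of the maximal subgroup theorem for the special unitary group in odd prime degree. -/
theorem su_max {n q : ℕ} (hn : n.Prime) (hodd : Odd n) (hbig : 3 ≤ q ∨ 4 ≤ n) (hF : Fintype.card F = q ^ 2)
    {H : Subgroup (GL (Fin n) F)}
    (hH : Cfsg.Geo.IsMaximalIn (Cfsg.GU n F q ⊓ Cfsg.Geo.specialLinear (Fin n) F) H) :
    (∃ W : Submodule F (Fin n → F), W ≠ ⊥ ∧ Cfsg.Geo.IsTotallySingularFor (Cfsg.hermForm n F q) W ∧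
      H = Cfsg.Geo.subspaceStabilizer W ⊓ (Cfsg.GU n F q ⊓ Cfsg.Geo.specialLinear (Fin n) F)) ∨
    (∃ W : Submodule F (Fin n → F), W ≠ ⊥ ∧ Cfsg.Geo.IsNondegenerateOn (Cfsg.hermForm n F q) W ∧
      2 * Module.finrank F W < n ∧
      H = Cfsg.Geo.subspaceStabilizer W ⊓ (Cfsg.GU n F q ⊓ Cfsg.Geo.specialLinear (Fin n) F)) ∨
    (∃ D : Fin n → Submodule F (Fin n → F), Cfsg.Geo.IsNondegenerateMDecomposition (Cfsg.hermForm n F q) 1 D ∧
      H = Cfsg.Geo.decompositionStabilizer D ⊓ (Cfsg.GU n F q ⊓ Cfsg.Geo.specialLinear (Fin n) F)) ∨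
    (∃ K : Subalgebra F (Matrix (Fin n) (Fin n) F), Cfsg.Geo.IsFieldSubalgebra n K ∧
      Cfsg.Geo.IsAdjointClosedFor (Cfsg.hermForm n F q) K ∧
      H = Cfsg.Geo.subalgebraNormalizer K ⊓ (Cfsg.GU n F q ⊓ Cfsg.Geo.specialLinear (Fin n) F)) ∨
    (∃ (F₀ : Subfield F) (r : ℕ) (P : GL (Fin n) F), r.Prime ∧ Odd r ∧ Fintype.card F = Nat.card F₀ ^ r ∧
      Cfsg.Geo.IsFormRationalStructure (Cfsg.hermForm n F q) F₀ 1 P ∧
      H = Cfsg.Geo.subfieldSubgroup F₀ P ⊓ (Cfsg.GU n F q ⊓ Cfsg.Geo.specialLinear (Fin n) F)) ∨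
    (Odd q ∧ ∃ (F₀ : Subfield F) (P : GL (Fin n) F), Fintype.card F = Nat.card F₀ ^ 2 ∧
      Cfsg.Geo.IsFormRationalStructure (Cfsg.hermForm n F q) F₀ 1 P ∧
      H = Cfsg.Geo.subfieldSubgroup F₀ P ⊓ (Cfsg.GU n F q ⊓ Cfsg.Geo.specialLinear (Fin n) F) ∧
      ∃ S, CoreData H S ∧ ∀ s ∈ S, ∀ i j, (((P⁻¹ : GL (Fin n) F) : Matrix (Fin n) (Fin n) F) *
        (s : Matrix (Fin n) (Fin n) F) * (P : Matrix (Fin n) (Fin n) F)) i j ∈ F₀) ∨
    (∃ (p d : ℕ) (R : Subgroup (GL (Fin n) F)), p.Prime ∧ CharP F p ∧ q = p ^ d ∧ 0 < d ∧ 2 * d ∣ n - 1 ∧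
      n ≠ p ∧ n ∣ p ^ d + 1 ∧ (∀ d' : ℕ, 0 < d' → d' < 2 * d → ¬ n ∣ p ^ d' - 1) ∧
      Cfsg.Geo.IsSymplecticTypeGroup n R ∧ AbsIrr R ∧ R ≤ Cfsg.GU n F q ∧ Nat.card R = n ^ 3 ∧
      Nat.card (Subgroup.center R) = n ∧ (∀ s ∈ R, s ^ n = 1) ∧ H ≤ Cfsg.Geo.subgroupNormalizer R) ∨
    Cfsg.Geo.InUnitaryResidualClass H := by
  classical
  obtain ⟨σ, hσ, hinv, hne⟩ := exists_frob hF
  set f := Cfsg.hermForm n F q with hfdef
  set G := Cfsg.GU n F q ⊓ Cfsg.Geo.specialLinear (Fin n) F with hGdef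
  have hf : Cfsg.Geo.IsUnitaryForm σ f := isUnitaryForm_hermForm hσ hinv hne
  have hT : ∀ v, f v v = 0 → ∀ c, c + σ c = 0 → uT f v c ∈ G := fun v hv c hc => uT_mem_SU hσ hinv hne hv hc
  have hn3 : 3 ≤ n := by
    have h2 := hn.two_le
    obtain ⟨k, hk⟩ := hodd
    omega
  haveI : Nonempty (Fin n) := ⟨⟨0, by omega⟩⟩
  have hcard3 : 3 ≤ Fintype.card (Fin n) := by rwa [Fintype.card_fin]
  have hiso : ∀ h ∈ H, Iso f h := fun h hh => (hH.1.le hh).1
  have hdet : H ≤ Cfsg.Geo.specialLinear (Fin n) F := fun h hh => (hH.1.le hh).2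
  have hbig' : (∃ u : F, σ u = u ∧ u ≠ 0 ∧ u ≠ -1) ∨ 4 ≤ Fintype.card (Fin n) := by
    rw [Fintype.card_fin]
    exact hbig.imp_left fun h => exists_fixed_elem hF h hσ hinv
  -- the reducible case
  by_cases hirr : Irr H
  swap
  · rw [irr_iff] at hirr
    push Not at hirr
    obtain ⟨W, hW, hW0, hW1⟩ := hirr
    have hmk : ∀ U : Submodule F (Fin n → F), Inv H U → U ≠ ⊥ → U ≠ ⊤ →
        H = Cfsg.Geo.subspaceStabilizer U ⊓ G := by
      intro U hU h0 h1
      rcases hH.2 (Cfsg.Geo.subspaceStabilizer U ⊓ G)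
        (le_inf (fun h hh => mem_subspaceStabilizer_of_maps (hU h hh)) hH.1.le) inf_le_right with h | h
      · exact h.symm
      · exact absurd (inf_eq_right.mp h) (not_le_subspaceStabilizer hf hT (by omega) h0 h1)
    by_cases hI : W ⊓ perpU hf W = ⊥
    swap
    · refine Or.inl ⟨_, hI, fun u hu v hv => hu.2 v hv.1, hmk _
        (fun h hh x hx => ⟨hW h hh x hx.1, inv_perpU hf hiso hW h hh x hx.2⟩) hI fun htop => hW1 ?_⟩
      exact eq_top_iff.mpr (htop ▸ inf_le_left)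
    have hnd : ∀ w ∈ W, w ≠ 0 → ∃ x ∈ W, f x w ≠ 0 := by
      intro w hw hw0
      by_contra hno
      push Not at hno
      have hmem : w ∈ W ⊓ perpU hf W := ⟨hw, fun x hx => (eq_zero_comm hf).mp (hno x hx)⟩
      rw [hI, Submodule.mem_bot] at hmem
      exact hw0 hmem
    have hndon : ∀ U : Submodule F (Fin n → F), (∀ w ∈ U, w ≠ 0 → ∃ x ∈ U, f x w ≠ 0) →
        Cfsg.Geo.IsNondegenerateOn f U := fun U hU w hw hw0 => by
      obtain ⟨x, hx, hxw⟩ := hU w hw hw0
      exact ⟨⟨x, hx, hxw⟩, ⟨x, hx, fun h => hxw ((eq_zero_comm hf).mp h)⟩⟩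
    have hsum : Module.finrank F W + Module.finrank F (perpU hf W) = n := by
      have h1 := Submodule.finrank_sup_add_finrank_inf_eq W (perpU hf W)
      rw [hI, finrank_bot, add_zero] at h1
      have h2 := Submodule.finrank_le (W ⊔ perpU hf W)
      have h3 := finrank_perpU_ge hf W
      rw [Module.finrank_fintype_fun_eq_card, Fintype.card_fin] at h2
      rw [Fintype.card_fin] at h3
      omega
    have hlt : Module.finrank F W < n := by
      have := Submodule.finrank_lt hW1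
      rwa [Module.finrank_fintype_fun_eq_card, Fintype.card_fin] at this
    by_cases hsmall : 2 * Module.finrank F W < n
    · exact Or.inr (Or.inl ⟨W, hW0, hndon W hnd, hsmall, hmk W hW hW0 hW1⟩)
    · have hP0 : perpU hf W ≠ ⊥ := fun h => by rw [h, finrank_bot] at hsum; omega
      have hP1 : perpU hf W ≠ ⊤ := fun h => by
        rw [h, finrank_top, Module.finrank_fintype_fun_eq_card, Fintype.card_fin] at hsum
        exact hW0 (Submodule.finrank_eq_zero.mp (by omega))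
      refine Or.inr (Or.inl ⟨perpU hf W, hP0, hndon _ (perpU_nondegenerate hf hnd), ?_,
        hmk _ (inv_perpU hf hiso hW) hP0 hP1⟩)
      obtain ⟨k, hk⟩ := hodd
      omega
  have hnp : (Fintype.card (Fin n)).Prime := by rwa [Fintype.card_fin]
  have hno : Odd (Fintype.card (Fin n)) := by rwa [Fintype.card_fin]
  have mkSub : ∀ (F₀ : Subfield F) (r : ℕ) (B : GL (Fin n) F), r.Prime → Fintype.card F = Nat.card F₀ ^ r →
      ∀ S : Subgroup (GL (Fin n) F), AbsIrr S → NormalisedBy H S →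
      (∀ s ∈ S, ∀ i j, ((B : Matrix (Fin n) (Fin n) F) * (s : Matrix (Fin n) (Fin n) F) *
        ((B⁻¹ : GL (Fin n) F) : Matrix (Fin n) (Fin n) F)) i j ∈ F₀) →
      H = Cfsg.Geo.subfieldSubgroup F₀ B⁻¹ ⊓ G := by
    intro F₀ r B hr hcard S hS hSn hrat
    have hne : F₀ ≠ ⊤ := fun htop => by
      rw [htop, Nat.card_congr (Equiv.subtypeUnivEquiv fun x => Subfield.mem_top x), Nat.card_eq_fintype_card] at hcard
      exact hr.one_lt.ne' ((Nat.pow_eq_self_iff Fintype.one_lt_card).mp hcard.symm)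
    rcases hH.2 (Cfsg.Geo.subfieldSubgroup F₀ B⁻¹ ⊓ G)
      (le_inf (fun h hh => mem_subfieldSubgroup_of_normalises hS hrat (hSn h hh)) hH.1.le) inf_le_right with h | h
    · exact h.symm
    · exact absurd (inf_eq_right.mp h) (not_le_subfieldSubgroup hf hT hcard3 hne _)
  rcases cases_prime hnp hno hirr hdet with ⟨A, D, hAH, hAn, hAs, hD, hst, χ, hχ⟩ |
    ⟨A, hAH, -, -, hK, hle⟩ | ⟨R, hR⟩ | ⟨P, hP⟩
  · -- a decomposition into lines
    set e : Fin n ≃ Fin (Fintype.card (Fin n)) := finCongr (Fintype.card_fin n).symm with he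
    have hD' : Cfsg.Geo.IsMDecomposition 1 (fun i => D (e i)) :=
      ⟨by omega, Nat.one_pos, fun i => hD.finrank_eq _, hD.indep.comp e.injective,
        by rw [← hD.iSup_eq_top]; exact e.iSup_comp (g := D)⟩
    have hst' : H ≤ Cfsg.Geo.decompositionStabilizer (fun i => D (e i)) := fun h hh => by
      obtain ⟨π, hπ⟩ := hst hh
      exact ⟨e.trans (π.trans e.symm), fun i => by simp [hπ]⟩
    have hnd := nondegenerateMDecomposition_of_chars hf hn hodd hirr hiso hAH hAn hAs hD' hst'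
      (χ := fun i => χ (e i)) fun i x v hv => hχ _ x v hv
    refine Or.inr (Or.inr (Or.inl ⟨_, hnd, ?_⟩))
    rcases hH.2 (Cfsg.Geo.decompositionStabilizer (fun i => D (e i)) ⊓ G) (le_inf hst' hH.1.le) inf_le_right with h | h
    · exact h.symm
    · exact absurd (inf_eq_right.mp h) (not_le_decompositionStabilizer hf hT hnd hcard3 hbig')
  · -- a field
    refine Or.inr (Or.inr (Or.inr (Or.inl ⟨cent A, ?_, isAdjointClosedFor_cent hσ hinv hne
      (fun a ha => (hH.1.le (hAH ha)).1), ?_⟩)))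
    · rwa [Fintype.card_fin] at hK
    · rcases hH.2 (Cfsg.Geo.subalgebraNormalizer (cent A) ⊓ G) (le_inf hle hH.1.le) inf_le_right with h | h
      · exact h.symm
      · exact absurd (inf_eq_right.mp h) (not_le_subalgebraNormalizer hf hT hcard3 hK hnp.one_lt)
  · -- symplectic type
    obtain ⟨ζ, hζ⟩ := hR.root
    obtain ⟨B, -, hmono⟩ := hR.basis
    have hmono' : ∀ s ∈ R, MonoB B (fun a => a ^ Fintype.card (Fin n) = 1) s := hmono
    have hcard : Nat.card R = n ^ 3 := by rw [hR.card_eq, Fintype.card_fin]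
    have hcen : Nat.card (Subgroup.center R) = n := by rw [hR.card_center, Fintype.card_fin]
    have hexp : ∀ s ∈ R, s ^ n = 1 := fun s hs => by
      have := hR.pow_eq_one s hs
      rwa [Fintype.card_fin] at this
    rw [Fintype.card_fin] at hζ
    haveI : NeZero n := ⟨hn.ne_zero⟩
    -- a non-trivial commutator
    obtain ⟨x, hx, y, hy, hxy⟩ : ∃ x ∈ R, ∃ y ∈ R, x * y ≠ y * x := by
      by_contra h
      push Not at h
      have : (Subgroup.center R) = ⊤ := eq_top_iff.mpr fun a _ => Subgroup.mem_center_iff.mpr fun b =>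
        Subtype.ext (h b b.2 a a.2)
      rw [this, Nat.card_congr Subgroup.topEquiv.toEquiv, hcard] at hcen
      have h31 := Nat.pow_right_injective hn.two_le (show n ^ 3 = n ^ 1 by rw [hcen, pow_one])
      omega
    have hsplit : ∀ x ∈ R, ∃ h ∈ H, ∃ a ∈ Cfsg.Geo.scalars (Fin n) F, h * a = x := fun x hx =>
      Subgroup.mem_sup_of_normal_right.mp (hR.le hx)
    obtain ⟨z0, hz0⟩ := (Cfsg.Geo.mem_scalars_iff _).mp
      (show x * y * x⁻¹ * y⁻¹ ∈ Cfsg.Geo.scalars (Fin n) F from by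
        haveI : Fact n.Prime := ⟨hn⟩
        have hq : Nat.card (R ⧸ Subgroup.center R) = n ^ 2 := by
          have h := Subgroup.card_eq_card_quotient_mul_card_subgroup (Subgroup.center R)
          rw [hcard, hcen, pow_succ] at h
          exact (Nat.eq_of_mul_eq_mul_right hn.pos h).symm
        have h1 : (((⟨x, hx⟩ : R) * ⟨y, hy⟩ * (⟨x, hx⟩ : R)⁻¹ * (⟨y, hy⟩ : R)⁻¹ : R)) ∈ Subgroup.center R := by
          rw [← QuotientGroup.eq_one_iff]
          simp only [QuotientGroup.mk_mul, QuotientGroup.mk_inv]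
          rw [IsPGroup.commutative_of_card_eq_prime_sq hq ((⟨x, hx⟩ : R) : R ⧸ Subgroup.center R),
            mul_inv_cancel_right, mul_inv_cancel]
        exact hR.absIrr.mem_scalars fun s hs =>
          congrArg Subtype.val (Subgroup.mem_center_iff.mp h1 ⟨s, hs⟩).symm)
    obtain ⟨e0, g0, -, -, -, heg⟩ := exists_hyperbolic hf (show 2 ≤ Fintype.card (Fin n) by omega)
    have hz1 : (z0 : F) * σ z0 = 1 := by
      obtain ⟨h, hh, a, ha, rfl⟩ := hsplit x hx
      obtain ⟨k, hk, b, hb, rfl⟩ := hsplit y hy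
      have e : h * a * (k * b) * (h * a)⁻¹ * (k * b)⁻¹ = h * k * h⁻¹ * k⁻¹ := by
        rw [show h * a * (k * b) * (h * a)⁻¹ * (k * b)⁻¹ = h * (a * k) * (b * (a⁻¹ * h⁻¹)) * (b⁻¹ * k⁻¹) by group,
          scalars_comm ha k, scalars_comm hb (a⁻¹ * h⁻¹)]
        group
      have hi : Iso f (h * k * h⁻¹ * k⁻¹) :=
        hiso _ (H.mul_mem (H.mul_mem (H.mul_mem hh hk) (H.inv_mem hh)) (H.inv_mem hk))
      rw [← e] at hi
      have h1 := hi e0 g0
      rw [hz0, smul_mulVec, smul_mulVec, one_mulVec, one_mulVec, hf.smul_left, smul_right' hf, heg, mul_one] at h1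
      exact h1
    have hz1n : (z0 : F) ^ n = 1 := by
      have h1 := congrArg (fun g : GL (Fin n) F => (g : Matrix (Fin n) (Fin n) F))
        (hexp _ (R.mul_mem (R.mul_mem (R.mul_mem hx hy) (R.inv_mem hx)) (R.inv_mem hy)))
      simp only [Units.val_pow_eq_pow_val, hz0, smul_pow, one_pow, Units.val_one] at h1
      exact smul_left_injective F (one_ne_zero (α := Matrix (Fin n) (Fin n) F)) (h1.trans (one_smul F _).symm)
    have hz0ne : (z0 : F) ≠ 1 := fun h => hxy (by
      have : x * y * x⁻¹ * y⁻¹ = 1 := Units.ext (by rw [hz0, h, one_smul, Units.val_one])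
      rwa [mul_inv_eq_one, mul_inv_eq_iff_eq_mul] at this)
    have hzprim : IsPrimitiveRoot (z0 : F) n := by
      haveI : Fact n.Prime := ⟨hn⟩
      have := IsPrimitiveRoot.orderOf (z0 : F)
      rwa [orderOf_eq_prime hz1n hz0ne] at this
    have hgood : ∀ a : F, a ^ n = 1 → a * σ a = 1 := fun a ha => by
      obtain ⟨i, -, rfl⟩ := hzprim.eq_pow_of_pow_eq_one ha
      rw [map_pow, ← mul_pow, hz1, one_pow]
    have hRGU : R ≤ Cfsg.GU n F q := by
      intro w hw
      rw [mem_GU_iff]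
      obtain ⟨h, hh, a, ha, rfl⟩ := hsplit w hw
      obtain ⟨α, hα⟩ := (Cfsg.Geo.mem_scalars_iff a).mp ha
      set ρ := (α : F) * σ α with hρ
      have hmul : ∀ u v, f (((h * a : GL (Fin n) F) : Matrix _ _ F) *ᵥ u)
          (((h * a : GL (Fin n) F) : Matrix _ _ F) *ᵥ v) = ρ * f u v := fun u v => by
        simp only [Units.val_mul, hα, Matrix.mul_smul, Matrix.mul_one, smul_mulVec, hf.smul_left, smul_right' hf]
        rw [hiso h hh, hρ, mul_assoc]
      have hpow : ∀ k : ℕ, ∀ u v, f ((((h * a) ^ k : GL (Fin n) F) : Matrix _ _ F) *ᵥ u)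
          ((((h * a) ^ k : GL (Fin n) F) : Matrix _ _ F) *ᵥ v) = ρ ^ k * f u v := by
        intro k
        induction k with
        | zero => intro u v; simp [hfdef]
        | succ k ih =>
          intro u v
          rw [pow_succ', Units.val_mul, ← mulVec_mulVec, ← mulVec_mulVec, hmul, ih, pow_succ', hρ]
          ring
      have h1 := hpow n e0 g0
      rw [hexp _ hw, Units.val_one, one_mulVec, one_mulVec, heg, mul_one] at h1
      have h2 : σ ρ = ρ := by rw [hρ, map_mul, hinv, mul_comm]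
      have h3 := hgood ρ h1.symm
      rw [h2, ← sq] at h3
      have h4 : ρ = 1 := by
        obtain ⟨k, hk⟩ := hodd
        have h5 : ρ ^ n = 1 := h1.symm
        rwa [hk, pow_succ, pow_mul, h3, one_pow, one_mul] at h5
      intro u v
      change f _ _ = f u v
      rw [hmul, h4, one_mul]
    rcases root_dichotomy hn hζ with ⟨S, r, hr, hScard, hmem⟩ |
      ⟨p, e, hp, hchar, hpcard, hnep, hdiv, hdvd, hmin⟩
    · obtain ⟨hr', B', hB', hform⟩ := exists_formRational hf hF hσ hno (by omega) hR.absIrr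
        (fun s hs => hRGU hs) hr hScard (B := B)
        (fun s hs => (hmono' s hs).entry_mem fun a ha => hmem a (by rwa [Fintype.card_fin] at ha))
      rcases hr' with hrodd | ⟨hr2, -⟩
      · exact Or.inr (Or.inr (Or.inr (Or.inr (Or.inl ⟨S, r, B'⁻¹, hr, hrodd, hScard, hform,
          mkSub S r B' hr hScard R hR.absIrr hR.normalised hB'⟩))))
      · exfalso
        subst hr2
        have h2 := fixed_of_mem_index_two hF hσ hScard (hmem _ hz1n)
        rw [h2, ← sq] at hz1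
        obtain ⟨k, hk⟩ := hodd
        rw [hk, pow_succ, pow_mul, hz1, one_pow, one_mul] at hz1n
        exact hz0ne hz1n
    · have hq : ∃ d, q = p ^ d ∧ e = 2 * d := by
        obtain ⟨d, -, hd⟩ := (Nat.dvd_prime_pow hp).1
          (show q ∣ p ^ e by rw [← hpcard, hF]; exact dvd_pow_self q two_ne_zero)
        refine ⟨d, hd, Nat.pow_right_injective hp.two_le ?_⟩
        change p ^ e = p ^ (2 * d)
        rw [← hpcard, hF, hd, ← pow_mul, mul_comm]
      obtain ⟨d, hqd, rfl⟩ := hq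
      have hd0 : 0 < d := by
        rcases Nat.eq_zero_or_pos d with rfl | h
        · have := one_lt_of_card_sq hF
          rw [hqd, pow_zero] at this
          omega
        · exact h
      have hdq : n ∣ p ^ d + 1 := by
        rw [← hqd]
        refine hzprim.dvd_of_pow_eq_one _ ?_
        rw [pow_succ', ← hσ]
        exact hz1
      refine Or.inr (Or.inr (Or.inr (Or.inr (Or.inr (Or.inr (Or.inl ⟨p, d, R, hp, hchar, hqd, hd0, hdvd, hnep,
        hdq, hmin, ?_, hR.absIrr, hRGU, hcard, hcen, hexp, le_normalizer_of hR.normalised⟩))))))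
      have := hR.symplecticType
      rwa [Fintype.card_fin] at this
  · -- a simple socle
    have hPiso : ∀ s ∈ P, Iso f s := fun s hs => hiso s (hP.le hs)
    by_cases hsub : ∃ F₀ : Subfield F, F₀ ≠ ⊤ ∧ Cfsg.Geo.RealisableOver F₀ (Cfsg.Geo.matrixSet P)
    · obtain ⟨F₀, hF₀, B, hB⟩ := hsub
      obtain ⟨F₁, r, hr, hcard, hle⟩ := exists_prime_index F₀ hF₀
      obtain ⟨hr', B', hB', hform⟩ := exists_formRational hf hF hσ hno (by omega) hP.absIrred hPiso hr hcard (B := B)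
        (fun s hs i j => hle (hB _ ⟨s, hs, rfl⟩ i j))
      have heq := mkSub F₁ r B' hr hcard P hP.absIrred hP.normal hB'
      rcases hr' with hrodd | ⟨rfl, hqodd⟩
      · exact Or.inr (Or.inr (Or.inr (Or.inr (Or.inl ⟨F₁, r, B'⁻¹, hr, hrodd, hcard, hform, heq⟩))))
      · exact Or.inr (Or.inr (Or.inr (Or.inr (Or.inr (Or.inl ⟨hqodd, F₁, B'⁻¹, hcard, hform, heq, P, hP,
          fun s hs i j => by rw [inv_inv]; exact hB' s hs i j⟩)))))
    push Not at hsub
    refine Or.inr (Or.inr (Or.inr (Or.inr (Or.inr (Or.inr (Or.inr ⟨P,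
      ⟨hP.le, hP.normal, hP.perfect, hP.simple, hP.nonabelian, hP.centralizer_scalar, hP.absIrred, hsub⟩,
      ?_, fun ⟨g, hg, _⟩ => not_symplectic_of_odd hno hg⟩))))))
    rintro ⟨Q, hQ, hQfix⟩
    obtain ⟨F₀, hF₀, hreal⟩ := realisable_of_bilinear hf hP.absIrred hPiso hQ.polar_bilinear hQ.nondegenerate
      (fun s hs u v => by simp only [QuadraticMap.polar, ← mulVec_add, hQfix s hs])
    exact hsub F₀ hF₀ hreal

end CfsgLib.Techniques.AschPrimeU
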