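/-
A subgroup of type L2(11) in the special unitary group of degree five over four elements: matrices, the orbit
and the permutations they induce, with field elements coded as 0, 1, 2, 3.
-/
import Mathlib.Data.Fin.VecNotation

set_option autoImplicit false

namespace CfsgLib.Techniques.AschPrimeU.FiveTwo

def tMat : Fin 5 → Fin 5 → Fin 4 := ![![1, 2, 0, 1, 0], ![3, 1, 3, 0, 0], ![3, 2, 2, 2, 2], ![3, 1, 0, 0, 3], ![3, 3, 1, 1, 1]]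

def sMat : Fin 5 → Fin 5 → Fin 4 := ![![2, 3, 2, 1, 1], ![1, 3, 3, 1, 1], ![3, 0, 1, 1, 0], ![3, 0, 1, 0, 1], ![2, 2, 3, 0, 0]]

def uMat : Fin 5 → Fin 5 → Fin 4 := ![![0, 0, 2, 0, 0], ![0, 0, 0, 1, 0], ![3, 0, 0, 0, 0], ![0, 1, 0, 0, 0], ![0, 0, 0, 0, 1]]

def wMat : Fin 5 → Fin 5 → Fin 4 := ![![1, 0, 0, 0, 0], ![0, 1, 0, 0, 0], ![0, 0, 1, 0, 0], ![0, 0, 0, 0, 1], ![0, 0, 0, 1, 0]]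

/-- The powers of the element of order eleven. -/
def tPow : Fin 11 → Fin 5 → Fin 5 → Fin 4 :=
  ![![![1, 0, 0, 0, 0], ![0, 1, 0, 0, 0], ![0, 0, 1, 0, 0], ![0, 0, 0, 1, 0], ![0, 0, 0, 0, 1]],
    ![![1, 2, 0, 1, 0], ![3, 1, 3, 0, 0], ![3, 2, 2, 2, 2], ![3, 1, 0, 0, 3], ![3, 3, 1, 1, 1]],
    ![![3, 1, 1, 1, 3], ![2, 1, 2, 2, 1], ![3, 3, 0, 2, 0], ![2, 2, 0, 0, 3], ![2, 2, 1, 0, 0]],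
    ![![2, 1, 2, 2, 2], ![2, 0, 1, 0, 3], ![0, 0, 2, 3, 1], ![1, 3, 2, 1, 3], ![0, 3, 3, 0, 2]],
    ![![0, 2, 2, 3, 0], ![3, 3, 1, 3, 1], ![0, 3, 2, 2, 0], ![3, 1, 2, 1, 3], ![1, 3, 1, 3, 3]],
    ![![2, 2, 2, 3, 1], ![3, 0, 1, 0, 1], ![2, 2, 1, 3, 2], ![0, 0, 3, 3, 3], ![0, 2, 3, 0, 3]],
    ![![3, 2, 3, 0, 0], ![3, 0, 3, 0, 3], ![3, 1, 1, 2, 2], ![2, 0, 2, 2, 0], ![1, 1, 3, 2, 2]],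
    ![![0, 2, 0, 2, 1], ![3, 2, 2, 1, 2], ![3, 1, 3, 3, 1], ![2, 2, 3, 1, 2], ![0, 1, 0, 2, 2]],
    ![![3, 3, 0, 1, 0], ![1, 0, 0, 2, 2], ![3, 1, 3, 3, 2], ![3, 0, 2, 1, 0], ![3, 2, 1, 2, 3]],
    ![![2, 3, 2, 3, 3], ![1, 1, 2, 3, 3], ![1, 3, 0, 0, 1], ![1, 3, 3, 0, 0], ![2, 1, 0, 2, 0]],
    ![![1, 2, 2, 2, 2], ![3, 1, 3, 1, 2], ![0, 2, 3, 0, 1], ![1, 0, 3, 0, 1], ![0, 0, 3, 2, 1]]]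

/-- The powers of the element of order five. -/
def sPow : Fin 5 → Fin 5 → Fin 5 → Fin 4 :=
  ![![![1, 0, 0, 0, 0], ![0, 1, 0, 0, 0], ![0, 0, 1, 0, 0], ![0, 0, 0, 1, 0], ![0, 0, 0, 0, 1]],
    ![![2, 3, 2, 1, 1], ![1, 3, 3, 1, 1], ![3, 0, 1, 1, 0], ![3, 0, 1, 0, 1], ![2, 2, 3, 0, 0]],
    ![![0, 1, 1, 3, 0], ![2, 3, 1, 1, 3], ![1, 2, 1, 2, 2], ![0, 0, 3, 2, 3], ![3, 0, 1, 3, 0]],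
    ![![0, 3, 1, 0, 2], ![1, 2, 3, 0, 0], ![1, 1, 1, 2, 1], ![2, 1, 3, 3, 2], ![0, 2, 3, 2, 0]],
    ![![3, 1, 2, 2, 3], ![2, 2, 0, 0, 3], ![3, 2, 1, 1, 2], ![1, 1, 1, 0, 0], ![1, 1, 0, 1, 0]]]

/-- An orbit of isotropic points. -/
def pts : Fin 55 → Fin 5 → Fin 4 :=
  ![![0, 1, 3, 2, 2], ![1, 2, 0, 1, 2], ![1, 0, 0, 3, 0], ![1, 0, 1, 3, 3], ![0, 1, 1, 0, 0],
    ![1, 1, 2, 1, 0], ![1, 2, 2, 0, 2], ![1, 3, 3, 0, 1], ![0, 1, 1, 2, 2], ![1, 2, 1, 2, 0],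
    ![0, 0, 1, 0, 2], ![1, 0, 3, 3, 1], ![1, 1, 0, 3, 1], ![0, 0, 0, 1, 1], ![1, 3, 0, 1, 3],
    ![1, 0, 0, 0, 1], ![1, 3, 0, 2, 2], ![1, 2, 0, 3, 3], ![0, 1, 0, 0, 1], ![0, 1, 3, 3, 3],
    ![1, 1, 2, 0, 2], ![1, 0, 2, 2, 1], ![0, 1, 2, 2, 1], ![0, 1, 1, 3, 1], ![0, 1, 1, 2, 3],
    ![0, 1, 3, 3, 1], ![1, 3, 3, 3, 0], ![1, 0, 1, 2, 3], ![1, 3, 1, 0, 2], ![1, 0, 1, 1, 1],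
    ![1, 2, 3, 2, 0], ![1, 1, 0, 3, 2], ![1, 3, 0, 1, 1], ![1, 0, 3, 3, 2], ![1, 1, 2, 0, 3],
    ![1, 3, 2, 0, 3], ![1, 2, 0, 1, 1], ![1, 3, 0, 2, 1], ![1, 1, 1, 0, 2], ![1, 3, 3, 0, 2],
    ![1, 0, 1, 2, 1], ![1, 0, 2, 3, 1], ![0, 1, 0, 3, 0], ![0, 1, 3, 2, 1], ![0, 1, 2, 2, 3],
    ![0, 1, 0, 2, 0], ![0, 0, 1, 0, 3], ![1, 1, 3, 1, 0], ![1, 3, 0, 0, 0], ![1, 3, 0, 3, 3],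
    ![1, 0, 0, 0, 2], ![1, 2, 0, 3, 2], ![0, 0, 1, 1, 0], ![0, 1, 1, 1, 1], ![0, 1, 1, 3, 3]]

def tPerm : Fin 55 → Fin 55 := ![4, 6, 9, 11, 12, 1, 15, 0, 18, 19, 22, 7, 23, 2, 27, 28, 3, 31, 32, 26, 5, 35, 13, 30, 8, 16, 39, 40, 24, 10, 43, 44, 41, 14, 38, 45, 17, 21, 36, 42, 50, 20, 47, 25, 52, 53, 54, 29, 46, 33, 37, 34, 48, 49, 51]

def tMult : Fin 55 → Fin 4 := ![3, 3, 2, 2, 2, 2, 2, 2, 2, 2, 3, 2, 2, 1, 1, 1, 2, 1, 2, 1, 3, 3, 2, 1, 2, 1, 3, 3, 3, 1, 3, 2, 1, 2, 3, 1, 3, 2, 3, 2, 3, 2, 1, 3, 3, 1, 3, 2, 2, 3, 1, 1, 1, 3, 1]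

def sPerm : Fin 55 → Fin 55 := ![26, 0, 51, 19, 29, 16, 30, 13, 11, 17, 54, 47, 2, 52, 28, 3, 22, 50, 12, 48, 23, 6, 36, 39, 43, 42, 34, 32, 4, 44, 10, 45, 25, 5, 40, 8, 33, 41, 35, 31, 1, 7, 46, 9, 14, 20, 27, 38, 53, 18, 24, 49, 37, 15, 21]

def sMult : Fin 55 → Fin 4 := ![2, 3, 1, 2, 1, 3, 2, 1, 1, 3, 1, 1, 3, 1, 2, 3, 3, 3, 2, 2, 1, 2, 3, 3, 1, 3, 2, 1, 2, 2, 2, 3, 3, 2, 1, 1, 3, 3, 1, 3, 3, 3, 3, 1, 1, 1, 1, 1, 3, 3, 3, 2, 3, 1, 1]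

def uPerm : Fin 55 → Fin 55 := ![1, 0, 4, 6, 2, 9, 3, 11, 12, 5, 15, 7, 8, 18, 19, 10, 22, 23, 13, 14, 27, 28, 16, 17, 31, 32, 26, 20, 21, 35, 30, 24, 25, 39, 40, 29, 43, 44, 41, 33, 34, 38, 45, 36, 37, 42, 50, 47, 52, 53, 46, 54, 48, 49, 51]

def uMult : Fin 55 → Fin 4 := ![1, 1, 3, 2, 2, 3, 3, 1, 2, 2, 2, 1, 3, 1, 1, 3, 2, 3, 1, 1, 3, 3, 3, 2, 2, 1, 1, 2, 2, 2, 1, 3, 1, 1, 3, 3, 1, 2, 2, 1, 2, 3, 3, 1, 3, 2, 2, 1, 3, 3, 3, 3, 2, 2, 2]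

def wWit : Fin 55 := 1

end CfsgLib.Techniques.AschPrimeU.FiveTwo
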