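/-
The stabiliser of a finite family of lines.
-/
import Cfsg.Agent.Lib.Techniques.AschPrime.Basic

set_option autoImplicit false

namespace CfsgLib.Techniques.AschPrimeU

open Matrix
open scoped MatrixGroups

variable {ι : Type} [Fintype ι] [DecidableEq ι] {F : Type*} [Field F] [Finite F]

/-- The matrices mapping each line of the family into a line of the family. -/
def lineSubmonoid {κ : Type*} (v : κ → ι → F) : Submonoid (GL ι F) where
  carrier := {g | ∀ k, ∃ j, ∃ c : F, (g : Matrix ι ι F) *ᵥ v k = c • v j}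
  one_mem' k := ⟨k, 1, by rw [Units.val_one, one_mulVec, one_smul]⟩
  mul_mem' {a b} ha hb k := by
    obtain ⟨j, c, hc⟩ := hb k
    obtain ⟨l, d, hd⟩ := ha j
    exact ⟨l, c * d, by rw [Units.val_mul, ← mulVec_mulVec, hc, mulVec_smul, hd, smul_smul]⟩

/-- The stabiliser of a family of lines. -/
def lineStab {κ : Type*} (v : κ → ι → F) : Subgroup (GL ι F) where
  toSubmonoid := lineSubmonoid v
  inv_mem' {g} hg := by
    have hfin : Finite (GL ι F) := inferInstance
    rw [← pow_sub_one_mul (orderOf_pos g).ne' g |>.trans (pow_orderOf_eq_one g) |> eq_inv_of_mul_eq_one_left]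
    exact (lineSubmonoid v).pow_mem hg _

theorem mem_lineStab {κ : Type*} {v : κ → ι → F} {g : GL ι F} :
    g ∈ lineStab v ↔ ∀ k, ∃ j, ∃ c : F, (g : Matrix ι ι F) *ᵥ v k = c • v j := Iff.rfl

end CfsgLib.Techniques.AschPrimeU
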