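/-
Elements of prime order in the normaliser of an adjoint-closed field of matrices of full degree.
-/
import Cfsg.Agent.Lib.Techniques.AschPrimeU.Main

set_option autoImplicit false

namespace CfsgLib.Techniques.AschPrimeU

open Matrix CfsgLib.Transvec CfsgLib.Transvec.Unitary CfsgLib.Techniques.AschPrime
open scoped MatrixGroups Pointwise

variable {F : Type*} [Field F] {n q : ℕ} {σ : F ≃+* F}

theorem herm_mulVec (hσ : ∀ x, σ x = x ^ q) (hinv : ∀ x, σ (σ x) = x) (k : Matrix (Fin n) (Fin n) F) (u v : Fin n → F) :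
    Cfsg.hermForm n F q (k *ᵥ u) v = Cfsg.hermForm n F q u ((kᵀ.map σ) *ᵥ v) := by
  simp only [hermForm_eq hσ, Matrix.mulVec, dotProduct, Matrix.map_apply, Matrix.transpose_apply, map_sum, map_mul,
    hinv, Finset.sum_mul, Finset.mul_sum]
  rw [Finset.sum_comm]
  exact Finset.sum_congr rfl fun a _ => Finset.sum_congr rfl fun i _ => by ring

theorem eq_of_herm (hσ : ∀ x, σ x = x ^ q) {A B : Matrix (Fin n) (Fin n) F}
    (h : ∀ u v, Cfsg.hermForm n F q u (A *ᵥ v) = Cfsg.hermForm n F q u (B *ᵥ v)) : A = B := by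
  refine Matrix.ext_of_mulVec_single fun j => funext fun i => σ.injective ?_
  rw [← hermForm_single hσ i (A *ᵥ Pi.single j 1), ← hermForm_single hσ i (B *ᵥ Pi.single j 1), h]

theorem mem_GU_iff (hσ : ∀ x, σ x = x ^ q) (hinv : ∀ x, σ (σ x) = x) (g : GL (Fin n) F) :
    g ∈ Cfsg.GU n F q ↔ ((g : Matrix (Fin n) (Fin n) F)ᵀ.map σ) * (g : Matrix (Fin n) (Fin n) F) = 1 := by
  constructor
  · intro h
    refine eq_of_herm hσ fun u v => ?_
    rw [← mulVec_mulVec, ← herm_mulVec hσ hinv, one_mulVec]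
    exact h u v
  · intro h u v
    change Cfsg.hermForm n F q ((g : Matrix (Fin n) (Fin n) F) *ᵥ u) ((g : Matrix (Fin n) (Fin n) F) *ᵥ v) = _
    rw [herm_mulVec hσ hinv, mulVec_mulVec, h, one_mulVec]

/-- An element of prime order `ℓ` dividing `q ^ n + 1` in the field, and what the field normaliser does to it. -/
theorem exists_singer [Fintype F] {ℓ : ℕ} (hn : n.Prime) (hodd : Odd n) (hF : Fintype.card F = q ^ 2)
    {K : Subalgebra F (Matrix (Fin n) (Fin n) F)} (hK : Cfsg.Geo.IsFieldSubalgebra n K)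
    (hadj : Cfsg.Geo.IsAdjointClosedFor (Cfsg.hermForm n F q) K) (hℓ : ℓ.Prime) (hdvd : ℓ ∣ q ^ n + 1)
    (hndvd : ¬ ℓ ∣ q ^ 2 - 1) :
    ∃ t : GL (Fin n) F, t ∈ Cfsg.GU n F q ⊓ Cfsg.Geo.specialLinear (Fin n) F ∧ orderOf t = ℓ ∧
      t ∈ Cfsg.Geo.subalgebraNormalizer K ∧
      (∀ g ∈ Cfsg.Geo.subalgebraNormalizer K, ∃ i : ℕ, g * t * g⁻¹ = t ^ ((q ^ 2) ^ i)) ∧
      (∀ g : GL (Fin n) F, g * t = t * g → (g : Matrix (Fin n) (Fin n) F) ∈ K ∧ g ∈ Cfsg.Geo.subalgebraNormalizer K ∧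
        (g ∈ Cfsg.GU n F q → g ^ (q ^ n + 1) = 1)) ∧
      (∀ g : GL (Fin n) F, g * t = t * g → g ^ ℓ = 1 → ∃ i : ℕ, g = t ^ i) := by
  classical
  obtain ⟨σ, hσ, hinv, hne⟩ := exists_frob hF
  haveI : Nonempty (Fin n) := ⟨⟨0, hn.pos⟩⟩
  have hq : 1 < q := by
    have h1 : 1 < q ^ 2 := hF ▸ Fintype.one_lt_card
    by_contra h
    have h2 : q ^ 2 ≤ 1 ^ 2 := Nat.pow_le_pow_left (not_lt.mp h) 2
    omega
  letI : CommRing K := { (inferInstance : Ring K) with mul_comm := fun a b => Subtype.ext (hK.comm _ a.2 _ b.2) }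
  haveI : Nontrivial K := ⟨⟨0, 1, fun h => zero_ne_one (α := Matrix (Fin n) (Fin n) F) (congrArg Subtype.val h)⟩⟩
  haveI : NoZeroDivisors K := ⟨fun {a b} hab => by
    by_contra hcon
    rw [not_or] at hcon
    obtain ⟨y, hy, hay⟩ := hK.inv a a.2 fun h => hcon.1 (Subtype.ext h)
    apply hcon.2
    apply Subtype.ext
    have hab' : (a : Matrix (Fin n) (Fin n) F) * b = 0 := congrArg Subtype.val hab
    have hya : y * (a : Matrix (Fin n) (Fin n) F) = 1 := by rw [← hK.comm _ a.2 y hy]; exact hay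
    change (b : Matrix (Fin n) (Fin n) F) = 0
    rw [← one_mul (b : Matrix (Fin n) (Fin n) F), ← hya, mul_assoc, hab', mul_zero]⟩
  haveI : IsDomain K := NoZeroDivisors.to_isDomain _
  haveI : Finite (Matrix (Fin n) (Fin n) F) := Module.finite_of_finite F
  haveI : Finite K := Subtype.finite
  letI : Field K := (Finite.isDomain_to_isField K).toField
  haveI : Fintype K := Fintype.ofFinite _
  have hfin : Module.finrank F K = n := hK.finrank_eq
  have hKcard : Fintype.card K = (q ^ 2) ^ n := by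
    rw [Module.card_eq_pow_finrank (K := F) (V := K), hfin, hF]
  -- the adjoint
  have hmem : ∀ k : K, (k : Matrix (Fin n) (Fin n) F)ᵀ.map σ ∈ K := fun k => by
    obtain ⟨k', hk', h⟩ := hadj k k.2
    rwa [eq_of_herm hσ (A := (k : Matrix (Fin n) (Fin n) F)ᵀ.map σ) (B := k') fun u v => by rw [← herm_mulVec hσ hinv, h]]
  let ψ : K →+* K :=
    { toFun := fun k => ⟨_, hmem k⟩
      map_one' := Subtype.ext (by simp)
      map_mul' := fun a b => by
        refine (Subtype.ext ?_).trans (mul_comm _ _)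
        simp [Matrix.map_mul]
      map_zero' := Subtype.ext (by simp)
      map_add' := fun a b => Subtype.ext (by simp [Matrix.map_add]) }
  obtain ⟨p, hchar⟩ := CharP.exists F
  obtain ⟨N, hp, hN⟩ := FiniteField.card F p
  haveI : Fact p.Prime := ⟨hp⟩
  haveI : CharP K p := charP_of_injective_algebraMap' F p
  haveI : ExpChar K p := ExpChar.prime hp
  obtain ⟨e, -, he⟩ := (Nat.dvd_prime_pow hp).1
    (show q ∣ p ^ (N : ℕ) by rw [← hN, hF]; exact dvd_pow_self q two_ne_zero)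
  let θ : K →ₐ[F] K :=
    { (iterateFrobenius K p e).comp ψ with
      commutes' := fun c => by
        change iterateFrobenius K p e (ψ (algebraMap F K c)) = algebraMap F K c
        have h1 : ψ (algebraMap F K c) = algebraMap F K (σ c) := Subtype.ext (by
          simp [ψ, Algebra.algebraMap_eq_smul_one, Matrix.map_smul' _ _ _ (map_mul σ)])
        rw [h1, iterateFrobenius_def, ← he, ← map_pow, ← hσ, hinv] }
  have hbij := FiniteField.bijective_frobeniusAlgHom_pow F K
  have hpow : ∀ φ : K →ₐ[F] K, ∃ i : ℕ, ∀ x, φ x = x ^ ((q ^ 2) ^ i) := by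
    intro φ
    obtain ⟨i, hi⟩ := hbij.2 φ
    refine ⟨i, fun x => ?_⟩
    rw [← hi]
    simp only [AlgHom.coe_pow, FiniteField.coe_frobeniusAlgHom, pow_iterate, hF]
  have hKpow : ∀ x : K, x ^ ((q ^ 2) ^ n) = x := fun x => by rw [← hKcard]; exact FiniteField.pow_card x
  obtain ⟨i, hi⟩ := hpow θ
  obtain ⟨m, hm, hψ⟩ : ∃ m, Odd m ∧ ∀ x : K, ψ x = x ^ (q ^ m) := by
    refine ⟨2 * i + (2 * n - 1), by have := hn.pos; refine ⟨i + n - 1, by omega⟩, fun x => ?_⟩
    have h1 : ψ x ^ q = x ^ ((q ^ 2) ^ i) := by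
      rw [← hi x]
      change ψ x ^ q = iterateFrobenius K p e (ψ x)
      rw [iterateFrobenius_def, he]
    have h2 := congrArg (· ^ (q ^ (2 * n - 1))) h1
    simp only [← pow_mul, ← pow_succ'] at h2
    rw [show 2 * n - 1 + 1 = 2 * n from by have := hn.pos; omega, pow_mul q 2 n, hKpow, ← pow_add] at h2
    exact h2
  have hψψ : ∀ x, ψ (ψ x) = x := fun x => Subtype.ext (by
    simp [ψ, Matrix.map_map, ← Matrix.transpose_map, Function.comp_def, hinv])
  -- an element of order `ℓ`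
  haveI : Fact ℓ.Prime := ⟨hℓ⟩
  have hℓ2n : ℓ ∣ (q ^ 2) ^ n - 1 := by
    rw [← pow_mul, mul_comm, pow_mul]
    have h : (q ^ n) ^ 2 - 1 = (q ^ n + 1) * (q ^ n - 1) := by
      have h4 := Nat.sq_sub_sq (q ^ n) 1
      rwa [one_pow] at h4
    exact h ▸ hdvd.mul_right _
  obtain ⟨y, hy⟩ := exists_prime_orderOf_dvd_card' (G := Kˣ) ℓ (by
    rwa [Nat.card_units, Nat.card_eq_fintype_card, hKcard])
  set x : K := (y : K) with hx
  have hxℓ : orderOf x = ℓ := by rw [hx, orderOf_units, hy]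
  have hprim : IsPrimitiveRoot x ℓ := hxℓ ▸ IsPrimitiveRoot.orderOf x
  -- the adjoint is the middle Frobenius
  obtain ⟨j, hj⟩ : n ∣ m := by
    by_contra hnm
    apply hndvd
    have h1 : x ^ (q ^ (2 * m) - 1) = 1 := by
      have h := hψψ x
      rw [hψ, hψ, ← pow_mul, ← pow_add, ← two_mul] at h
      have hpos : 0 < q ^ (2 * m) := pow_pos (by omega) _
      rw [show q ^ (2 * m) = q ^ (2 * m) - 1 + 1 by omega, pow_succ] at h
      exact mul_right_cancel₀ (hprim.ne_zero hℓ.ne_zero) (h.trans (one_mul x).symm)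
    have h2 : ℓ ∣ q ^ (2 * m) - 1 := hxℓ ▸ orderOf_dvd_of_pow_eq_one h1
    have h3 : ℓ ∣ Nat.gcd (q ^ (2 * m) - 1) (q ^ (2 * n) - 1) := Nat.dvd_gcd h2 (by rwa [pow_mul])
    rwa [Nat.pow_sub_one_gcd_pow_sub_one, Nat.gcd_mul_left,
      (Nat.Coprime.symm ((hn.coprime_iff_not_dvd).mpr hnm)).gcd_eq_one, mul_one] at h3
  have hψn : ∀ z : K, ψ z = z ^ (q ^ n) := by
    intro z
    obtain ⟨l, rfl⟩ : Odd j := by rw [hj] at hm; exact (Nat.odd_mul.mp hm).2
    have h : ∀ l, z ^ ((q ^ (2 * n)) ^ l) = z := by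
      intro l
      induction l with
      | zero => simp
      | succ k ih => rw [pow_succ, pow_mul z, ih, pow_mul q 2 n, hKpow]
    rw [hψ, hj, show n * (2 * l + 1) = 2 * n * l + n by ring, pow_add, pow_mul q (2 * n) l, pow_mul z, h l]
  have hunit : ∀ z : K, ψ z * z = z ^ (q ^ n + 1) := fun z => by rw [hψn, ← pow_succ]
  have hxdvd : x ^ (q ^ n + 1) = 1 := orderOf_dvd_iff_pow_eq_one.mp (hxℓ ▸ hdvd)
  -- the group element
  set T : Matrix (Fin n) (Fin n) F := (x : Matrix (Fin n) (Fin n) F) with hT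
  have hTℓ : T ^ ℓ = 1 := by
    have h := congrArg Subtype.val hprim.pow_eq_one
    rwa [SubmonoidClass.coe_pow, OneMemClass.coe_one] at h
  have hTdet : T.det = 1 := by
    have h1 : T.det ^ ℓ = 1 := by rw [← det_pow, hTℓ, det_one]
    have h0 : T.det ≠ 0 := fun h => by rw [h, zero_pow hℓ.ne_zero] at h1; exact zero_ne_one h1
    have h2 : T.det ^ (q ^ 2 - 1) = 1 := hF ▸ FiniteField.pow_card_sub_one_eq_one _ h0
    have h3 := pow_gcd_eq_one.mpr ⟨h1, h2⟩
    rwa [Nat.Coprime.gcd_eq_one ((hℓ.coprime_iff_not_dvd).mpr hndvd), pow_one] at h3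
  set t : GL (Fin n) F := Matrix.GeneralLinearGroup.mk'' T (by rw [hTdet]; exact isUnit_one) with ht
  have htv : (t : Matrix (Fin n) (Fin n) F) = T := rfl
  have htGU : t ∈ Cfsg.GU n F q := by
    rw [mem_GU_iff hσ hinv, htv]
    have h := congrArg Subtype.val ((hunit x).trans hxdvd)
    exact h
  have htℓ : orderOf t = ℓ := by
    refine orderOf_eq_prime (Units.ext (by rw [Units.val_pow_eq_pow_val, htv, hTℓ, Units.val_one])) fun h => ?_
    exact hprim.ne_one hℓ.one_lt (Subtype.ext (congrArg Units.val h))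
  -- the field is generated by the element
  have htop : Algebra.adjoin F {x} = ⊤ := by
    rcases (Subalgebra.isSimpleOrder_of_finrank_prime F K (by rwa [hfin])).eq_bot_or_eq_top (Algebra.adjoin F {x}) with h | h
    · exfalso
      have hmemb : x ∈ (⊥ : Subalgebra F K) := h ▸ Algebra.self_mem_adjoin_singleton F x
      obtain ⟨c, hc⟩ := Algebra.mem_bot.mp hmemb
      apply hndvd
      have hc0 : c ≠ 0 := fun h0 => hprim.ne_zero hℓ.ne_zero (by rw [← hc, h0, map_zero])
      have h2 : x ^ (q ^ 2 - 1) = 1 := by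
        rw [← hc, ← map_pow, ← hF, FiniteField.pow_card_sub_one_eq_one c hc0, map_one]
      exact hxℓ ▸ orderOf_dvd_of_pow_eq_one h2
    · exact h
  have hcomm : ∀ g : GL (Fin n) F, g * t = t * g → (g : Matrix (Fin n) (Fin n) F) ∈ K := by
    intro g hg
    refine mem_of_commute_field (by rwa [Fintype.card_fin]) fun k hk => ?_
    have hkx : (⟨k, hk⟩ : K) ∈ Algebra.adjoin F {x} := htop ▸ Algebra.mem_top
    suffices h : ∀ z ∈ Algebra.adjoin F {x}, Commute (g : Matrix (Fin n) (Fin n) F) (z : K) from h _ hkx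
    intro z hz
    induction hz using Algebra.adjoin_induction with
    | mem z hz =>
      rw [Set.mem_singleton_iff] at hz
      subst hz
      exact congrArg Units.val hg
    | algebraMap c => exact (Algebra.commutes c (g : Matrix (Fin n) (Fin n) F)).symm
    | add a b _ _ ha hb => exact ha.add_right hb
    | mul a b _ _ ha hb => exact ha.mul_right hb
  have hinK : ∀ g : GL (Fin n) F, g * t = t * g → g ∈ Cfsg.Geo.subalgebraNormalizer K := by
    intro g hg k
    have hgK := hcomm g hg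
    have hg' : ((g⁻¹ : GL (Fin n) F) : Matrix (Fin n) (Fin n) F) ∈ K := hcomm g⁻¹ (by
      calc g⁻¹ * t = g⁻¹ * (t * g) * g⁻¹ := by group
        _ = t * g⁻¹ := by rw [← hg]; group)
    refine ⟨fun hk => K.mul_mem (K.mul_mem hgK hk) hg', fun hk => ?_⟩
    have h := K.mul_mem (K.mul_mem hg' hk) hgK
    simpa [mul_assoc, ← Units.val_mul] using h
  refine ⟨t, ⟨htGU, (mem_specialLinear_iff _).mpr hTdet⟩, htℓ, hinK t rfl, ?_, ?_, ?_⟩
  · intro g hg
    let φ : K →ₐ[F] K :=
      { toFun := fun k => ⟨_, (hg (k : Matrix (Fin n) (Fin n) F)).mp k.2⟩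
        map_one' := Subtype.ext (by simp)
        map_mul' := fun a b => Subtype.ext (by simp [mul_assoc])
        map_zero' := Subtype.ext (by simp)
        map_add' := fun a b => Subtype.ext (by simp [mul_add, add_mul])
        commutes' := fun c => Subtype.ext (by simp [Algebra.algebraMap_eq_smul_one]) }
    obtain ⟨i, hi⟩ := hpow φ
    refine ⟨i, Units.ext ?_⟩
    have h := congrArg Subtype.val (hi x)
    rw [SubmonoidClass.coe_pow] at h
    rw [Units.val_mul, Units.val_mul, Units.val_pow_eq_pow_val, htv]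
    exact h
  · intro g hg
    refine ⟨hcomm g hg, hinK g hg, fun hgU => Units.ext ?_⟩
    rw [Units.val_pow_eq_pow_val, Units.val_one]
    let z : K := ⟨_, hcomm g hg⟩
    have h : z ^ (q ^ n + 1) = 1 := by
      rw [← hunit z]
      exact Subtype.ext ((mem_GU_iff hσ hinv g).mp hgU)
    simpa [z] using congrArg Subtype.val h
  · intro g hg hgℓ
    let z : K := ⟨_, hcomm g hg⟩
    obtain ⟨i, -, hi⟩ := hprim.eq_pow_of_pow_eq_one (ξ := z) (Subtype.ext (by
      simp [z, ← Units.val_pow_eq_pow_val, hgℓ]))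
    refine ⟨i, Units.ext ?_⟩
    rw [Units.val_pow_eq_pow_val, htv]
    simpa [z] using (congrArg Subtype.val hi).symm

/-- Groups of prime order `ℓ` are conjugate when `ℓ` squared does not divide the order of the general linear
group. -/
theorem exists_conj_of_prime_order [Fintype F] {ℓ : ℕ} (hℓ : ℓ.Prime)
    (hsq : ¬ ℓ ^ 2 ∣ Nat.card (GL (Fin n) F)) {G : Subgroup (GL (Fin n) F)} {a b : GL (Fin n) F}
    (ha : a ∈ G) (hb : b ∈ G) (ha' : orderOf a = ℓ) (hb' : orderOf b = ℓ) :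
    ∃ g ∈ G, (g * b * g⁻¹ ∈ Subgroup.zpowers a) ∧ g⁻¹ * a * g ∈ Subgroup.zpowers b := by
  classical
  haveI : Fact ℓ.Prime := ⟨hℓ⟩
  have hsqG : ¬ ℓ ^ 2 ∣ Nat.card G := fun h => hsq (h.trans G.card_subgroup_dvd_card)
  have key : ∀ c : G, orderOf c = ℓ → Nat.card (Subgroup.zpowers c) = ℓ ^ (Nat.card G).factorization ℓ := by
    intro c hc
    have h1 : 1 ≤ (Nat.card G).factorization ℓ :=
      hℓ.factorization_pos_of_dvd Nat.card_pos.ne' (hc ▸ orderOf_dvd_natCard c)
    have h2 : (Nat.card G).factorization ℓ < 2 := by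
      by_contra h
      exact hsqG ((hℓ.pow_dvd_iff_le_factorization Nat.card_pos.ne').mpr (not_lt.mp h))
    rw [Nat.card_zpowers, hc, show (Nat.card G).factorization ℓ = 1 by omega, pow_one]
  have ca := key ⟨a, ha⟩ (by rw [Subgroup.orderOf_mk, ha'])
  have cb := key ⟨b, hb⟩ (by rw [Subgroup.orderOf_mk, hb'])
  obtain ⟨g, hg⟩ := MulAction.exists_smul_eq G (Sylow.ofCard _ cb) (Sylow.ofCard _ ca)
  have hg' := congrArg (fun P : Sylow ℓ G => (P : Subgroup G)) hg
  simp only [Sylow.coe_subgroup_smul, Sylow.coe_ofCard] at hg'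
  refine ⟨g, g.2, ?_, ?_⟩
  · have h : MulAut.conj g (⟨b, hb⟩ : G) ∈ Subgroup.zpowers (⟨a, ha⟩ : G) := by
      rw [← hg']
      exact Subgroup.smul_mem_pointwise_smul _ _ _ (Subgroup.mem_zpowers _)
    obtain ⟨k, hk⟩ := h
    exact ⟨k, by simpa using congrArg Subtype.val hk⟩
  · have h : (⟨a, ha⟩ : G) ∈ MulAut.conj g • Subgroup.zpowers (⟨b, hb⟩ : G) := by
      rw [hg']
      exact Subgroup.mem_zpowers _
    rw [Subgroup.mem_pointwise_smul_iff_inv_smul_mem] at h
    obtain ⟨k, hk⟩ := h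
    exact ⟨k, by simpa [MulAut.smul_def] using congrArg Subtype.val hk⟩

end CfsgLib.Techniques.AschPrimeU
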