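/-
In degree five over four elements the normaliser of the field of degree five is not maximal in the special
unitary group.
-/
import Cfsg.Agent.Lib.Techniques.AschPrimeU.Singer
import Cfsg.Agent.Lib.Techniques.AschPrimeU.LineSet
import Cfsg.Agent.Lib.Techniques.AschPrimeU.FiveTwoData

set_option autoImplicit false
set_option maxRecDepth 4000

namespace CfsgLib.Techniques.AschPrimeU.FiveTwo

open Matrix CfsgLib.Transvec CfsgLib.Transvec.Unitary CfsgLib.Techniques.AschPrime
open scoped MatrixGroups Fin.NatCast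

/-- Addition of coded field elements. -/
def fadd : Fin 4 → Fin 4 → Fin 4 := ![![0, 1, 2, 3], ![1, 0, 3, 2], ![2, 3, 0, 1], ![3, 2, 1, 0]]

/-- Multiplication of coded field elements. -/
def fmul : Fin 4 → Fin 4 → Fin 4 := ![![0, 0, 0, 0], ![0, 1, 2, 3], ![0, 2, 3, 1], ![0, 3, 1, 2]]

/-- Squaring of coded field elements. -/
def fsq : Fin 4 → Fin 4 := ![0, 1, 3, 2]

/-- Products of coded matrices and vectors. -/
def fmulVec (A : Fin 5 → Fin 5 → Fin 4) (v : Fin 5 → Fin 4) (i : Fin 5) : Fin 4 :=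
  fadd (fadd (fadd (fadd (fmul (A i 0) (v 0)) (fmul (A i 1) (v 1))) (fmul (A i 2) (v 2))) (fmul (A i 3) (v 3)))
    (fmul (A i 4) (v 4))

/-- Products of coded matrices. -/
def fmulMat (A B : Fin 5 → Fin 5 → Fin 4) (i j : Fin 5) : Fin 4 := fmulVec A (fun k => B k j) i

/-- The coded identity matrix. -/
def fone (i j : Fin 5) : Fin 4 := if i = j then 1 else 0

/-- The adjoint of a coded matrix. -/
def fadj (A : Fin 5 → Fin 5 → Fin 4) (i j : Fin 5) : Fin 4 := fsq (A j i)

theorem t_step : ∀ k : Fin 11, ∀ i j, fmulMat (tPow k) tMat i j = tPow (k + 1) i j := by decide +kernel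

theorem s_step : ∀ k : Fin 5, ∀ i j, fmulMat (sPow k) sMat i j = sPow (k + 1) i j := by decide +kernel

theorem pow_zero_one : ∀ i j, tPow 0 i j = fone i j ∧ sPow 0 i j = fone i j ∧
    fmulMat uMat uMat i j = fone i j ∧ fmulMat wMat wMat i j = fone i j := by decide +kernel

theorem unitary : ∀ i j, fmulMat (fadj tMat) tMat i j = fone i j ∧ fmulMat (fadj sMat) sMat i j = fone i j ∧
    fmulMat (fadj uMat) uMat i j = fone i j ∧ fmulMat (fadj wMat) wMat i j = fone i j := by decide +kernel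

theorem s_twist : ∀ i j, fmulMat sMat tMat i j = fmulMat (tPow 4) sMat i j := by decide +kernel

theorem u_twist : ∀ k : Fin 11, ∃ i j, fmulMat uMat tMat i j ≠ fmulMat (tPow k) uMat i j := by decide +kernel

theorem t_perm : ∀ k i, fmulVec tMat (pts k) i = fmul (tMult k) (pts (tPerm k) i) := by decide +kernel

theorem s_perm : ∀ k i, fmulVec sMat (pts k) i = fmul (sMult k) (pts (sPerm k) i) := by decide +kernel

theorem u_perm : ∀ k i, fmulVec uMat (pts k) i = fmul (uMult k) (pts (uPerm k) i) := by decide +kernel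

theorem w_move : ∀ j c, ∃ i, fmulVec wMat (pts wWit) i ≠ fmul c (pts j i) := by decide +kernel

variable {F : Type*} [Field F]

/-- The field element of a code. -/
def fval (w : F) : Fin 4 → F := ![0, 1, w, w + 1]

variable {w : F} (h2 : (2 : F) = 0) (hw : w * w = w + 1)

include h2 hw

theorem fval_add (a b : Fin 4) : fval w (fadd a b) = fval w a + fval w b := by
  fin_cases a <;> fin_cases b <;> simp [fval, fadd] <;> grind

theorem fval_mul (a b : Fin 4) : fval w (fmul a b) = fval w a * fval w b := by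
  fin_cases a <;> fin_cases b <;> simp [fval, fmul] <;> grind

theorem fval_sq (a : Fin 4) : fval w (fsq a) = fval w a ^ 2 := by
  fin_cases a <;> simp [fval, fsq] <;> grind

theorem fval_ne {a b : Fin 4} (h : a ≠ b) : fval w a ≠ fval w b := by
  fin_cases a <;> fin_cases b <;> simp [fval] at h ⊢ <;> grind

omit h2 hw in
/-- The matrix of a code. -/
def toM (w : F) (A : Fin 5 → Fin 5 → Fin 4) : Matrix (Fin 5) (Fin 5) F := Matrix.of fun i j => fval w (A i j)

omit h2 hw in
/-- The vector of a code. -/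
def toV (w : F) (v : Fin 5 → Fin 4) : Fin 5 → F := fun i => fval w (v i)

theorem toM_mulVec (A : Fin 5 → Fin 5 → Fin 4) (v : Fin 5 → Fin 4) : toM w A *ᵥ toV w v = toV w (fmulVec A v) := by
  funext i
  simp only [Matrix.mulVec, dotProduct, toM, toV, Matrix.of_apply, Fin.sum_univ_five, fmulVec, fval_add h2 hw,
    fval_mul h2 hw]

theorem toM_mul (A B : Fin 5 → Fin 5 → Fin 4) : toM w A * toM w B = toM w (fmulMat A B) := by
  ext i j
  simp only [Matrix.mul_apply, toM, Matrix.of_apply, Fin.sum_univ_five, fmulMat, fmulVec, fval_add h2 hw,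
    fval_mul h2 hw]

omit h2 hw in
theorem toM_congr {A B : Fin 5 → Fin 5 → Fin 4} (h : ∀ i j, A i j = B i j) : toM w A = toM w B := by
  ext i j
  simp [toM, h]

omit h2 hw in
theorem toM_fone : toM w fone = 1 := by
  ext i j
  by_cases h : i = j <;> simp [toM, fone, h, fval, Matrix.one_apply]

omit hw h2 in
theorem eq_one_of_pow {x : F} {a b : ℕ} (ha : x ^ a = 1) (hb : x ^ b = 1) (h : Nat.gcd a b = 1) : x = 1 := by
  rw [← pow_one x, ← h]
  exact pow_gcd_eq_one.mpr ⟨ha, hb⟩

variable [Fintype F]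

/-- The normaliser of an adjoint-closed field of degree five is not maximal over four elements. -/
theorem not_maximal (hF : Fintype.card F = 2 ^ 2) {K : Subalgebra F (Matrix (Fin 5) (Fin 5) F)}
    (hK : Cfsg.Geo.IsFieldSubalgebra 5 K) (hadj : Cfsg.Geo.IsAdjointClosedFor (Cfsg.hermForm 5 F 2) K)
    {H : Subgroup (GL (Fin 5) F)}
    (hH : Cfsg.Geo.IsMaximalIn (Cfsg.GU 5 F 2 ⊓ Cfsg.Geo.specialLinear (Fin 5) F) H)
    (heq : H = Cfsg.Geo.subalgebraNormalizer K ⊓ (Cfsg.GU 5 F 2 ⊓ Cfsg.Geo.specialLinear (Fin 5) F)) : False := by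
  classical
  obtain ⟨σ, hσ, hinv, -⟩ := exists_frob hF
  set G := Cfsg.GU 5 F 2 ⊓ Cfsg.Geo.specialLinear (Fin 5) F with hG
  have mkG : ∀ (A : Fin 5 → Fin 5 → Fin 4) (k : ℕ), toM w A ^ k = 1 → k ≠ 0 → Nat.gcd k 3 = 1 →
      (∀ i j, fmulMat (fadj A) A i j = fone i j) → ∃ g : GL (Fin 5) F, (g : Matrix (Fin 5) (Fin 5) F) = toM w A ∧ g ∈ G := by
    intro A k hk hk0 hk3 hu
    refine ⟨Units.ofPowEqOne _ k hk hk0, rfl, ?_, (mem_specialLinear_iff _).mpr ?_⟩
    · change _ ∈ Cfsg.GU 5 F 2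
      rw [mem_GU_iff hσ hinv, Units.val_ofPowEqOne]
      have hadjM : (toM w A)ᵀ.map σ = toM w (fadj A) := by
        ext i j
        simp [toM, fadj, hσ, fval_sq h2 hw]
      rw [hadjM, toM_mul h2 hw, toM_congr hu, toM_fone]
    · rw [Units.val_ofPowEqOne]
      have hd : (toM w A).det ^ k = 1 := by rw [← det_pow, hk, det_one]
      refine eq_one_of_pow hd (b := 3) ?_ hk3
      have h0 : (toM w A).det ≠ 0 := fun h => by rw [h, zero_pow hk0] at hd; exact zero_ne_one hd
      exact (show Fintype.card F - 1 = 3 by rw [hF]; norm_num) ▸ FiniteField.pow_card_sub_one_eq_one _ h0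
  have htpow : ∀ k : ℕ, toM w tMat ^ k = toM w (tPow (k : Fin 11)) := by
    intro k
    induction k with
    | zero => rw [pow_zero, Nat.cast_zero, toM_congr (fun i j => (pow_zero_one i j).1), toM_fone]
    | succ k ih => rw [pow_succ, ih, toM_mul h2 hw, toM_congr (t_step _), Nat.cast_succ]
  have hspow : ∀ k : ℕ, toM w sMat ^ k = toM w (sPow (k : Fin 5)) := by
    intro k
    induction k with
    | zero => rw [pow_zero, Nat.cast_zero, toM_congr (fun i j => (pow_zero_one i j).2.1), toM_fone]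
    | succ k ih => rw [pow_succ, ih, toM_mul h2 hw, toM_congr (s_step _), Nat.cast_succ]
  have ht11 : toM w tMat ^ 11 = 1 := by
    rw [htpow, show ((11 : ℕ) : Fin 11) = 0 from rfl, toM_congr (fun i j => (pow_zero_one i j).1), toM_fone]
  have hs5 : toM w sMat ^ 5 = 1 := by
    rw [hspow, show ((5 : ℕ) : Fin 5) = 0 from rfl, toM_congr (fun i j => (pow_zero_one i j).2.1), toM_fone]
  obtain ⟨T, hT, hTG⟩ := mkG tMat 11 ht11 (by norm_num) (by norm_num) fun i j => (unitary i j).1
  obtain ⟨S, hS, hSG⟩ := mkG sMat 5 hs5 (by norm_num) (by norm_num) fun i j => (unitary i j).2.1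
  obtain ⟨U, hU, hUG⟩ := mkG uMat 2 (by rw [pow_two, toM_mul h2 hw, toM_congr (fun i j => (pow_zero_one i j).2.2.1), toM_fone])
    (by norm_num) (by norm_num) fun i j => (unitary i j).2.2.1
  obtain ⟨W, hW, hWG⟩ := mkG wMat 2 (by rw [pow_two, toM_mul h2 hw, toM_congr (fun i j => (pow_zero_one i j).2.2.2), toM_fone])
    (by norm_num) (by norm_num) fun i j => (unitary i j).2.2.2
  have hUT : ∀ k : ℕ, U * T * U⁻¹ ≠ T ^ k := by
    intro k h
    rw [mul_inv_eq_iff_eq_mul] at h
    have h' := congrArg Units.val h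
    rw [Units.val_mul, Units.val_mul, Units.val_pow_eq_pow_val, hT, hU, htpow, toM_mul h2 hw, toM_mul h2 hw] at h'
    obtain ⟨i, j, hij⟩ := u_twist (k : Fin 11)
    exact fval_ne h2 hw hij (congrFun (congrFun h' i) j)
  have hT1 : T ≠ 1 := fun h => hUT 0 (by rw [h]; group)
  have hT11 : T ^ 11 = 1 := Units.ext (by rw [Units.val_pow_eq_pow_val, hT, ht11, Units.val_one])
  haveI : Fact (Nat.Prime 11) := ⟨by norm_num⟩
  have hTord : orderOf T = 11 := orderOf_eq_prime hT11 hT1
  have hST : ∀ i : ℕ, S ^ i * T * (S ^ i)⁻¹ = T ^ (4 ^ i) := by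
    have h1 : S * T * S⁻¹ = T ^ 4 := by
      rw [mul_inv_eq_iff_eq_mul]
      refine Units.ext ?_
      rw [Units.val_mul, Units.val_mul, Units.val_pow_eq_pow_val, hT, hS, htpow, toM_mul h2 hw, toM_mul h2 hw]
      exact toM_congr s_twist
    intro i
    induction i with
    | zero => simp
    | succ k ih =>
      calc S ^ (k + 1) * T * (S ^ (k + 1))⁻¹ = S ^ k * (S * T * S⁻¹) * (S ^ k)⁻¹ := by rw [pow_succ]; group
        _ = (S ^ k * T * (S ^ k)⁻¹) ^ 4 := by rw [h1, conj_pow]
        _ = T ^ (4 ^ (k + 1)) := by rw [ih, ← pow_mul, pow_succ]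
  -- the line set
  set X := lineStab (fun k => toV w (pts k)) with hX
  have hperm : ∀ {A : Fin 5 → Fin 5 → Fin 4} {g : GL (Fin 5) F} (pm : Fin 55 → Fin 55) (c : Fin 55 → Fin 4),
      (g : Matrix (Fin 5) (Fin 5) F) = toM w A → (∀ k i, fmulVec A (pts k) i = fmul (c k) (pts (pm k) i)) → g ∈ X := by
    intro A g pm c hg h k
    refine ⟨pm k, fval w (c k), ?_⟩
    change (g : Matrix (Fin 5) (Fin 5) F) *ᵥ toV w (pts k) = _
    rw [hg, toM_mulVec h2 hw]
    funext i
    simp [toV, h k i, fval_mul h2 hw]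
  have hTX : T ∈ X := hperm tPerm tMult hT t_perm
  have hSX : S ∈ X := hperm sPerm sMult hS s_perm
  have hUX : U ∈ X := hperm uPerm uMult hU u_perm
  have hWX : W ∉ X := by
    intro h
    obtain ⟨j, c, hc⟩ := h wWit
    change (W : Matrix (Fin 5) (Fin 5) F) *ᵥ toV w (pts wWit) = _ at hc
    rw [hW, toM_mulVec h2 hw] at hc
    obtain ⟨a, ha⟩ : ∃ a, fval w a = c := by
      have hinj : Function.Injective (fval w) := fun a b h => by
        by_contra hne
        exact fval_ne h2 hw hne h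
      exact ((Fintype.bijective_iff_injective_and_card _).mpr ⟨hinj, by rw [Fintype.card_fin, hF]; norm_num⟩).2 c
    obtain ⟨i, hi⟩ := w_move j a
    refine fval_ne h2 hw hi ?_
    have := congrFun hc i
    simpa [toV, fval_mul h2 hw, ha] using this
  -- the field and the conjugation
  obtain ⟨t, htG, ht, htN, hnorm, hcent, hroot⟩ :=
    exists_singer (n := 5) (q := 2) (ℓ := 11) (by norm_num) (by decide) hF hK hadj (by norm_num) (by norm_num) (by norm_num)
  have hsq : ¬ 11 ^ 2 ∣ Nat.card (GL (Fin 5) F) := by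
    rw [Matrix.card_GL_field, hF]
    decide +kernel
  obtain ⟨g, hg, ⟨a, ha⟩, ⟨b, hb⟩⟩ := exists_conj_of_prime_order (by norm_num) hsq htG hTG ht hTord
  simp only at ha hb
  have ha' : T = g⁻¹ * t ^ a * g := by rw [ha]; group
  have conjInv : ∀ (x : GL (Fin 5) F) (m : ℕ), g⁻¹ * x ^ m * g = (g⁻¹ * x * g) ^ m := fun x m => by
    have := conj_pow (a := g⁻¹) (b := x) (i := m)
    rw [inv_inv] at this
    exact this.symm
  -- the overgroup
  have hle : ∀ h ∈ H, g⁻¹ * h * g ∈ X := by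
    intro h hh
    rw [heq] at hh
    obtain ⟨i, hi⟩ := hnorm h hh.1
    have h1 : (g⁻¹ * h * g) * T * (g⁻¹ * h * g)⁻¹ = T ^ (4 ^ i) := by
      calc (g⁻¹ * h * g) * T * (g⁻¹ * h * g)⁻¹ = g⁻¹ * (h * t ^ a * h⁻¹) * g := by rw [ha']; group
        _ = g⁻¹ * (t ^ a) ^ (4 ^ i) * g := by
          rw [← conj_zpow, hi, show ((2 : ℕ) ^ 2) ^ i = 4 ^ i by norm_num, ← zpow_natCast, ← zpow_natCast, ← _root_.zpow_mul,
            ← _root_.zpow_mul, mul_comm]
        _ = T ^ (4 ^ i) := by rw [ha', conjInv]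
    set c := (S ^ i)⁻¹ * (g⁻¹ * h * g) with hc
    have hcT : c * T = T * c := by
      have h2 : (S ^ i)⁻¹ * T ^ (4 ^ i) * S ^ i = T := by rw [← hST i]; group
      calc c * T = (S ^ i)⁻¹ * ((g⁻¹ * h * g) * T * (g⁻¹ * h * g)⁻¹) * (g⁻¹ * h * g) := by rw [hc]; group
        _ = ((S ^ i)⁻¹ * T ^ (4 ^ i) * S ^ i) * c := by rw [h1, hc]; group
        _ = T * c := by rw [h2]
    set d := g * c * g⁻¹ with hd
    have hdt : d * t = t * d := by
      have hbt : t = g * T ^ b * g⁻¹ := by rw [hb]; group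
      have hcb : c * T ^ b = T ^ b * c := (Commute.zpow_right hcT b).eq
      calc d * t = g * (c * T ^ b) * g⁻¹ := by rw [hd, hbt]; group
        _ = t * d := by rw [hcb, hd, hbt]; group
    have hdG : d ∈ G := G.mul_mem (G.mul_mem hg (G.mul_mem (G.inv_mem (G.pow_mem hSG i))
      (G.mul_mem (G.mul_mem (G.inv_mem hg) hh.2) hg))) (G.inv_mem hg)
    -- the centraliser is the cyclic group
    obtain ⟨hdK, -, hd33⟩ := hcent d hdt
    have hd33 := hd33 hdG.1
    have he3 : (d ^ 11) ^ 3 = 1 := by rw [← pow_mul]; exact hd33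
    obtain ⟨z, hz⟩ : ∃ z : F, ((d ^ 11 : GL (Fin 5) F) : Matrix (Fin 5) (Fin 5) F) = z • 1 := by
      set E : Matrix (Fin 5) (Fin 5) F := ((d ^ 11 : GL (Fin 5) F) : Matrix (Fin 5) (Fin 5) F) with hE
      have hEK : E ∈ K := by rw [hE, Units.val_pow_eq_pow_val]; exact K.pow_mem hdK _
      have hE3 : E ^ 3 = 1 := by rw [hE, ← Units.val_pow_eq_pow_val, he3, Units.val_one]
      by_contra hcon
      push Not at hcon
      have hne : ∀ z : F, E - z • 1 ≠ 0 := fun z h => hcon z (sub_eq_zero.mp h)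
      have hmem : ∀ z : F, E - z • 1 ∈ K := fun z => K.sub_mem hEK (K.smul_mem K.one_mem z)
      have hprod : (E - (1 : F) • 1) * ((E - w • 1) * (E - (w + 1) • 1)) = 0 := by
        have e2 : w + (w + 1) = (-1 : F) := by linear_combination (w + 1) * h2
        have e3 : w * (w + 1) = (1 : F) := by linear_combination hw + w * h2
        have hq : (E - w • 1) * (E - (w + 1) • 1) = E * E + E + 1 := by
          have hq' : (E - w • 1) * (E - (w + 1) • 1) = E * E - (w + (w + 1)) • E + (w * (w + 1)) • 1 := by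
            simp only [sub_mul, mul_sub, Matrix.smul_mul, Matrix.mul_smul, Matrix.mul_one, Matrix.one_mul, smul_smul]
            module
          rw [hq', e2, e3, neg_smul, one_smul, one_smul, sub_neg_eq_add]
        rw [hq, one_smul, sub_mul, one_mul, mul_add, mul_add, mul_one, ← pow_two, ← pow_succ', hE3]
        abel
      obtain ⟨y, -, hy⟩ := hK.inv _ (hmem 1) (hne 1)
      obtain ⟨y', -, hy'⟩ := hK.inv _ (hmem w) (hne w)
      rw [mul_eq_one_comm] at hy hy'
      have h3 := congrArg (fun M => y' * (y * M)) hprod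
      simp only [mul_zero] at h3
      rw [← mul_assoc y, hy, one_mul, ← mul_assoc, hy', one_mul] at h3
      exact hne _ h3
    have hz1 : z = 1 := by
      have hdet : z ^ 5 = 1 := by
        have h5 := congrArg Matrix.det hz
        rw [det_smul, det_one, mul_one, Fintype.card_fin, Units.val_pow_eq_pow_val, det_pow,
          (mem_specialLinear_iff _).mp hdG.2, one_pow] at h5
        exact h5.symm
      refine eq_one_of_pow hdet (b := 3) ?_ (by norm_num)
      have h0 : z ≠ 0 := fun h => by rw [h, zero_pow (by norm_num)] at hdet; exact zero_ne_one hdet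
      exact (show Fintype.card F - 1 = 3 by rw [hF]; norm_num) ▸ FiniteField.pow_card_sub_one_eq_one _ h0
    have hd11 : d ^ 11 = 1 := Units.ext (by rw [hz, hz1, one_smul, Units.val_one])
    obtain ⟨m, hm⟩ := hroot d hdt hd11
    have hcX : c ∈ X := by
      have e : c = (T ^ b) ^ m := by
        rw [hb, ← conjInv, ← hm, hd]
        group
      exact e ▸ X.pow_mem (X.zpow_mem hTX b) m
    have e : g⁻¹ * h * g = S ^ i * c := by rw [hc]; group
    exact e ▸ X.mul_mem (X.pow_mem hSX i) hcX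
  set Y := X.comap (MulAut.conj g⁻¹).toMonoidHom with hY
  have hYmem : ∀ x, x ∈ Y ↔ g⁻¹ * x * g ∈ X := fun x => by simp [hY]
  rcases hH.2 (Y ⊓ G) (le_inf (fun h hh => (hYmem h).mpr (hle h hh)) hH.1.le) inf_le_right with h | h
  · have hu : g * U * g⁻¹ ∈ H := h ▸ Subgroup.mem_inf.mpr
      ⟨(hYmem _).mpr (by rwa [show g⁻¹ * (g * U * g⁻¹) * g = U by group]), G.mul_mem (G.mul_mem hg hUG) (G.inv_mem hg)⟩
    rw [heq] at hu
    obtain ⟨i, hi⟩ := hnorm _ hu.1
    refine hUT ((2 ^ 2) ^ i) ?_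
    calc U * T * U⁻¹ = g⁻¹ * ((g * U * g⁻¹) * t ^ a * (g * U * g⁻¹)⁻¹) * g := by rw [ha']; group
      _ = g⁻¹ * (t ^ a) ^ ((2 ^ 2) ^ i) * g := by
        rw [← conj_zpow, hi, ← zpow_natCast, ← zpow_natCast, ← _root_.zpow_mul, ← _root_.zpow_mul, mul_comm]
      _ = T ^ ((2 ^ 2) ^ i) := by rw [ha', conjInv]
  · have hw' : g * W * g⁻¹ ∈ Y ⊓ G := by rw [h]; exact G.mul_mem (G.mul_mem hg hWG) (G.inv_mem hg)
    have := (hYmem _).mp hw'.1
    rw [show g⁻¹ * (g * W * g⁻¹) * g = W by group] at this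
    exact hWX this

end CfsgLib.Techniques.AschPrimeU.FiveTwo

namespace CfsgLib.Techniques.AschPrimeU

variable {F : Type*} [Field F] [Fintype F]

/-- The field case does not occur in degree five over four elements. -/
theorem not_maximal_field_five (hF : Fintype.card F = 2 ^ 2) {K : Subalgebra F (Matrix (Fin 5) (Fin 5) F)}
    (hK : Cfsg.Geo.IsFieldSubalgebra 5 K) (hadj : Cfsg.Geo.IsAdjointClosedFor (Cfsg.hermForm 5 F 2) K)
    {H : Subgroup (Matrix.GeneralLinearGroup (Fin 5) F)}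
    (hH : Cfsg.Geo.IsMaximalIn (Cfsg.GU 5 F 2 ⊓ Cfsg.Geo.specialLinear (Fin 5) F) H)
    (heq : H = Cfsg.Geo.subalgebraNormalizer K ⊓ (Cfsg.GU 5 F 2 ⊓ Cfsg.Geo.specialLinear (Fin 5) F)) : False := by
  classical
  have h2 : (2 : F) = 0 := by
    have h := FiniteField.cast_card_eq_zero F
    rw [hF] at h
    push_cast at h
    exact eq_zero_of_pow_eq_zero (n := 2) ((by norm_num : (2 : F) ^ 2 = 4).trans h)
  haveI : Fact (Nat.Prime 3) := ⟨Nat.prime_three⟩
  obtain ⟨u, hu⟩ := exists_prime_orderOf_dvd_card' (G := Fˣ) 3 (by rw [Nat.card_units, Nat.card_eq_fintype_card, hF]; norm_num)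
  have hu1 : (u : F) ≠ 1 := fun h => by
    rw [Units.val_eq_one.mp h, orderOf_one] at hu
    omega
  have hu3 : (u : F) ^ 3 = 1 := by
    rw [← Units.val_pow_eq_pow_val, ← hu, pow_orderOf_eq_one, Units.val_one]
  have hw : (u : F) * u = u + 1 := by
    have h : ((u : F) - 1) * ((u : F) * u + u + 1) = 0 := by linear_combination hu3
    rcases mul_eq_zero.mp h with h | h
    · exact absurd (sub_eq_zero.mp h) hu1
    · linear_combination h - ((u : F) + 1) * h2
  exact FiveTwo.not_maximal h2 hw hF hK hadj hH heq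

end CfsgLib.Techniques.AschPrimeU
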