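/-
Overgroups in the special unitary group: transport by isometries and the field case.
-/
import Cfsg.Agent.Lib.Techniques.AschPrimeU.Singer
import Cfsg.Agent.Lib.Techniques.AschPrimeU.LineSet

set_option autoImplicit false

namespace CfsgLib.Techniques.AschPrimeU

open Matrix Polynomial CfsgLib.Transvec CfsgLib.Transvec.Unitary CfsgLib.Techniques.AschPrime
open scoped MatrixGroups

variable {F : Type*} [Field F] {n q : ℕ}

/-- Scalars stabilise every family of lines. -/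
theorem scalars_le_lineStab [Finite F] {κ : Type*} (v : κ → Fin n → F) :
    Cfsg.Geo.scalars (Fin n) F ≤ lineStab v := by
  intro z hz k
  obtain ⟨a, ha⟩ := (Cfsg.Geo.mem_scalars_iff z).mp hz
  exact ⟨k, (a : F), by rw [ha, smul_mulVec, one_mulVec]⟩

/-- Conjugation by an isometry preserves the special unitary group. -/
theorem conj_mem_SU {B x : GL (Fin n) F} (hB : B ∈ Cfsg.GU n F q)
    (hx : x ∈ Cfsg.GU n F q ⊓ Cfsg.Geo.specialLinear (Fin n) F) :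
    B * x * B⁻¹ ∈ Cfsg.GU n F q ⊓ Cfsg.Geo.specialLinear (Fin n) F :=
  ⟨(Cfsg.GU n F q).mul_mem ((Cfsg.GU n F q).mul_mem hB hx.1) ((Cfsg.GU n F q).inv_mem hB),
    (MonoidHom.normal_ker _).conj_mem x hx.2 B⟩

theorem conj_inv_mem_SU {B x : GL (Fin n) F} (hB : B ∈ Cfsg.GU n F q)
    (hx : x ∈ Cfsg.GU n F q ⊓ Cfsg.Geo.specialLinear (Fin n) F) :
    B⁻¹ * x * B ∈ Cfsg.GU n F q ⊓ Cfsg.Geo.specialLinear (Fin n) F := by
  simpa using conj_mem_SU ((Cfsg.GU n F q).inv_mem hB) hx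

/-- A group with a proper overgroup is not maximal. -/
theorem not_maximal_of_overgroup {H X : Subgroup (GL (Fin n) F)} {B U W : GL (Fin n) F}
    (hH : Cfsg.Geo.IsMaximalIn (Cfsg.GU n F q ⊓ Cfsg.Geo.specialLinear (Fin n) F) H)
    (hB : B ∈ Cfsg.GU n F q) (hle : ∀ h ∈ H, B⁻¹ * h * B ∈ X)
    (hU : U ∈ Cfsg.GU n F q ⊓ Cfsg.Geo.specialLinear (Fin n) F) (hUX : U ∈ X) (hUH : B * U * B⁻¹ ∉ H)
    (hW : W ∈ Cfsg.GU n F q ⊓ Cfsg.Geo.specialLinear (Fin n) F) (hWX : W ∉ X) : False := by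
  set G := Cfsg.GU n F q ⊓ Cfsg.Geo.specialLinear (Fin n) F
  set Y := X.comap (MulAut.conj B⁻¹).toMonoidHom with hY
  have hYmem : ∀ x, x ∈ Y ↔ B⁻¹ * x * B ∈ X := fun x => by simp [hY]
  rcases hH.2 (Y ⊓ G) (le_inf (fun h hh => (hYmem h).mpr (hle h hh)) hH.1.le) inf_le_right with h | h
  · refine hUH (h ▸ Subgroup.mem_inf.mpr ⟨(hYmem _).mpr ?_, conj_mem_SU hB hU⟩)
    rwa [show B⁻¹ * (B * U * B⁻¹) * B = U by group]
  · have h1 : B * W * B⁻¹ ∈ Y ⊓ G := by rw [h]; exact conj_mem_SU hB hW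
    have h2 := (hYmem _).mp h1.1
    rw [show B⁻¹ * (B * W * B⁻¹) * B = W by group] at h2
    exact hWX h2

/-- The matrix with orthonormal columns is an isometry. -/
theorem exists_GU_of_orthonormal [Fintype F] (hF : Fintype.card F = q ^ 2) {v : Fin n → Fin n → F}
    (hv : ∀ i j, Cfsg.hermForm n F q (v i) (v j) = if i = j then 1 else 0) :
    ∃ B : GL (Fin n) F, B ∈ Cfsg.GU n F q ∧ ∀ i, (B : Matrix (Fin n) (Fin n) F) *ᵥ Pi.single i 1 = v i := by
  classical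
  obtain ⟨σ, hσ, hinv, -⟩ := exists_frob hF
  let C : Matrix (Fin n) (Fin n) F := Matrix.of fun a i => v i a
  have hC : Cᵀ.map σ * C = 1 := by
    ext i j
    have h := hv j i
    simp only [hermForm_eq hσ] at h
    simp only [Matrix.mul_apply, C, Matrix.map_apply, Matrix.transpose_apply, Matrix.of_apply, Matrix.one_apply]
    rw [show (if i = j then (1 : F) else 0) = if j = i then 1 else 0 by simp [eq_comm], ← h]
    exact Finset.sum_congr rfl fun a _ => mul_comm _ _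
  let B : GL (Fin n) F := ⟨C, Cᵀ.map σ, mul_eq_one_comm.mp hC, hC⟩
  refine ⟨B, (mem_GU_iff hσ hinv B).mpr hC, fun i => ?_⟩
  funext a
  simp [B, C]

/-- A root of unity in a field of matrices is scalar when the base field has all such roots. -/
theorem scalar_of_pow_eq_one {K : Subalgebra F (Matrix (Fin n) (Fin n) F)} {r : ℕ}
    (hK : Cfsg.Geo.IsFieldSubalgebra r K) {m : ℕ} {ζ : F} (hζ : IsPrimitiveRoot ζ m) (hm : 0 < m) [NeZero n]
    {E : Matrix (Fin n) (Fin n) F} (hE : E ∈ K) (hEm : E ^ m = 1) : ∃ z : F, E = z • 1 := by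
  classical
  by_contra hcon
  push Not at hcon
  haveI : NeZero m := ⟨hm.ne'⟩
  have key : ∀ s : Finset F, Polynomial.aeval E (∏ z ∈ s, (X - C z)) ≠ 0 := by
    intro s
    induction s using Finset.induction_on with
    | empty =>
      rw [Finset.prod_empty, map_one]
      exact one_ne_zero
    | insert z s hz ih =>
      rw [Finset.prod_insert hz, map_mul, map_sub, Polynomial.aeval_X, Polynomial.aeval_C,
        Algebra.algebraMap_eq_smul_one]
      intro h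
      obtain ⟨y, hy, hzy⟩ := hK.inv _ (K.sub_mem hE (K.smul_mem K.one_mem z)) (sub_ne_zero.mpr (hcon z))
      apply ih
      have h1 := congrArg (y * ·) h
      simp only [mul_zero] at h1
      rwa [← mul_assoc, mul_eq_one_comm.mp hzy, one_mul] at h1
  apply key (nthRootsFinset m (1 : F))
  rw [← X_pow_sub_one_eq_prod hm hζ, map_sub, map_pow, Polynomial.aeval_X, map_one, hEm, sub_self]

/-- The field case is not maximal when a suitable overgroup is given. -/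
theorem not_maximal_field [Fintype F] {ℓ : ℕ} (hn : n.Prime) (hodd : Odd n) (hF : Fintype.card F = q ^ 2)
    {K : Subalgebra F (Matrix (Fin n) (Fin n) F)} (hK : Cfsg.Geo.IsFieldSubalgebra n K)
    (hadj : Cfsg.Geo.IsAdjointClosedFor (Cfsg.hermForm n F q) K) {H : Subgroup (GL (Fin n) F)}
    (hH : Cfsg.Geo.IsMaximalIn (Cfsg.GU n F q ⊓ Cfsg.Geo.specialLinear (Fin n) F) H)
    (heq : H = Cfsg.Geo.subalgebraNormalizer K ⊓ (Cfsg.GU n F q ⊓ Cfsg.Geo.specialLinear (Fin n) F))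
    (hℓ : ℓ.Prime) (hdvd : ℓ ∣ q ^ n + 1) (hndvd : ¬ ℓ ∣ q ^ 2 - 1) (hsq : ¬ ℓ ^ 2 ∣ Nat.card (GL (Fin n) F))
    {X : Subgroup (GL (Fin n) F)} {T S U W : GL (Fin n) F}
    (hTG : T ∈ Cfsg.GU n F q ⊓ Cfsg.Geo.specialLinear (Fin n) F)
    (hSG : S ∈ Cfsg.GU n F q ⊓ Cfsg.Geo.specialLinear (Fin n) F)
    (hUG : U ∈ Cfsg.GU n F q ⊓ Cfsg.Geo.specialLinear (Fin n) F)
    (hWG : W ∈ Cfsg.GU n F q ⊓ Cfsg.Geo.specialLinear (Fin n) F)
    (hTX : T ∈ X) (hSX : S ∈ X) (hUX : U ∈ X) (hWX : W ∉ X) (hscal : Cfsg.Geo.scalars (Fin n) F ≤ X)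
    (hTord : orderOf T = ℓ) (hST : S * T * S⁻¹ = T ^ (q ^ 2)) (hUT : ∀ k : ℕ, U * T * U⁻¹ ≠ T ^ k)
    (hcent : ∀ d : GL (Fin n) F, d ∈ Cfsg.GU n F q ⊓ Cfsg.Geo.specialLinear (Fin n) F →
      (d : Matrix (Fin n) (Fin n) F) ∈ K → d ^ (q ^ n + 1) = 1 →
      ∃ c ∈ Cfsg.Geo.scalars (Fin n) F, (c⁻¹ * d) ^ ℓ = 1) : False := by
  classical
  obtain ⟨t, htG, ht, -, hnorm, hcK, hroot⟩ := exists_singer hn hodd hF hK hadj hℓ hdvd hndvd
  obtain ⟨g, hg, ⟨a, ha⟩, ⟨b, hb⟩⟩ := exists_conj_of_prime_order hℓ hsq htG hTG ht hTord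
  simp only at ha hb
  have ha' : T = g⁻¹ * t ^ a * g := by rw [ha]; group
  have hbt : t = g * T ^ b * g⁻¹ := by rw [hb]; group
  have hSTi : ∀ i : ℕ, S ^ i * T * (S ^ i)⁻¹ = T ^ ((q ^ 2) ^ i) := by
    intro i
    induction i with
    | zero => simp
    | succ k ih =>
      calc S ^ (k + 1) * T * (S ^ (k + 1))⁻¹ = S ^ k * (S * T * S⁻¹) * (S ^ k)⁻¹ := by rw [pow_succ]; group
        _ = (S ^ k * T * (S ^ k)⁻¹) ^ (q ^ 2) := by rw [hST, conj_pow]
        _ = T ^ ((q ^ 2) ^ (k + 1)) := by rw [ih, ← pow_mul, ← pow_succ]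
  have conjInv : ∀ (x : GL (Fin n) F) (m : ℕ), g⁻¹ * x ^ m * g = (g⁻¹ * x * g) ^ m := fun x m => by
    have := conj_pow (a := g⁻¹) (b := x) (i := m)
    rw [inv_inv] at this
    exact this.symm
  have hstep : ∀ h : GL (Fin n) F, h ∈ H → ∃ i : ℕ, (g⁻¹ * h * g) * T * (g⁻¹ * h * g)⁻¹ = T ^ ((q ^ 2) ^ i) := by
    intro h hh
    rw [heq] at hh
    obtain ⟨i, hi⟩ := hnorm h hh.1
    refine ⟨i, ?_⟩
    calc (g⁻¹ * h * g) * T * (g⁻¹ * h * g)⁻¹ = g⁻¹ * (h * t ^ a * h⁻¹) * g := by rw [ha']; group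
      _ = g⁻¹ * (t ^ a) ^ ((q ^ 2) ^ i) * g := by
        rw [← conj_zpow, hi, ← zpow_natCast, ← zpow_natCast, ← _root_.zpow_mul, ← _root_.zpow_mul, mul_comm]
      _ = T ^ ((q ^ 2) ^ i) := by rw [ha', conjInv]
  have hle : ∀ h ∈ H, g⁻¹ * h * g ∈ X := by
    intro h hh
    obtain ⟨i, h1⟩ := hstep h hh
    set c := (S ^ i)⁻¹ * (g⁻¹ * h * g) with hc
    have hcT : c * T = T * c := by
      have h2 : (S ^ i)⁻¹ * T ^ ((q ^ 2) ^ i) * S ^ i = T := by rw [← hSTi i]; group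
      calc c * T = (S ^ i)⁻¹ * ((g⁻¹ * h * g) * T * (g⁻¹ * h * g)⁻¹) * (g⁻¹ * h * g) := by rw [hc]; group
        _ = ((S ^ i)⁻¹ * T ^ ((q ^ 2) ^ i) * S ^ i) * c := by rw [h1, hc]; group
        _ = T * c := by rw [h2]
    set d := g * c * g⁻¹ with hd
    have hdt : d * t = t * d := by
      have hcb : c * T ^ b = T ^ b * c := (Commute.zpow_right hcT b).eq
      calc d * t = g * (c * T ^ b) * g⁻¹ := by rw [hd, hbt]; group
        _ = t * d := by rw [hcb, hd, hbt]; group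
    have hdG : d ∈ Cfsg.GU n F q ⊓ Cfsg.Geo.specialLinear (Fin n) F :=
      conj_mem_SU hg.1 (Subgroup.mul_mem _ (Subgroup.inv_mem _ (Subgroup.pow_mem _ hSG i))
        (conj_inv_mem_SU hg.1 (hH.1.le hh)))
    obtain ⟨hdK, -, hdpow⟩ := hcK d hdt
    obtain ⟨z, hz, hzℓ⟩ := hcent d hdG hdK (hdpow hdG.1)
    obtain ⟨m, hm⟩ := hroot (z⁻¹ * d) (by
      rw [mul_assoc, hdt, ← mul_assoc, scalars_comm (Subgroup.inv_mem _ hz) t, mul_assoc]) hzℓ
    have e : c = z * (T ^ b) ^ m := by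
      calc c = g⁻¹ * (z * (z⁻¹ * d)) * g := by rw [hd]; group
        _ = z * (g⁻¹ * t ^ m * g) := by
          rw [hm, ← mul_assoc, ← scalars_comm hz g⁻¹]
          group
        _ = z * (T ^ b) ^ m := by rw [conjInv, hb]
    have hcX : c ∈ X := e ▸ X.mul_mem (hscal hz) (X.pow_mem (X.zpow_mem hTX b) m)
    have e' : g⁻¹ * h * g = S ^ i * c := by rw [hc]; group
    exact e' ▸ X.mul_mem (X.pow_mem hSX i) hcX
  refine not_maximal_of_overgroup hH hg.1 hle hUG hUX (fun hu => ?_) hWG hWX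
  obtain ⟨i, hi⟩ := hstep _ hu
  rw [show g⁻¹ * (g * U * g⁻¹) * g = U by group] at hi
  exact hUT _ hi

end CfsgLib.Techniques.AschPrimeU
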