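/-
Coded arithmetic of three-by-three matrices over the field with `p ^ 2` elements.
-/
import Cfsg.Agent.Lib.Techniques.AschPrimeU.Overgroup

set_option autoImplicit false

namespace CfsgLib.Techniques.AschPrimeU.QuadCode

open Matrix CfsgLib.Transvec CfsgLib.Transvec.Unitary CfsgLib.Techniques.AschPrime
open scoped MatrixGroups Fin.NatCast

variable {p : ℕ}

/-- Addition of pairs. -/
def qadd (a b : ZMod p × ZMod p) : ZMod p × ZMod p := (a.1 + b.1, a.2 + b.2)

/-- Difference of pairs. -/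
def qsub (a b : ZMod p × ZMod p) : ZMod p × ZMod p := (a.1 - b.1, a.2 - b.2)

/-- Multiplication of pairs, the second basis element squaring to `ν`. -/
def qmul (ν : ZMod p) (a b : ZMod p × ZMod p) : ZMod p × ZMod p :=
  (a.1 * b.1 + ν * (a.2 * b.2), a.1 * b.2 + a.2 * b.1)

/-- Conjugation of pairs. -/
def qconj (a : ZMod p × ZMod p) : ZMod p × ZMod p := (a.1, -a.2)

/-- Product of a coded matrix and a coded vector. -/
def mulV (ν : ZMod p) (A : Fin 3 → Fin 3 → ZMod p × ZMod p) (v : Fin 3 → ZMod p × ZMod p) (i : Fin 3) :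
    ZMod p × ZMod p :=
  qadd (qadd (qmul ν (A i 0) (v 0)) (qmul ν (A i 1) (v 1))) (qmul ν (A i 2) (v 2))

/-- Product of coded matrices. -/
def mulM (ν : ZMod p) (A B : Fin 3 → Fin 3 → ZMod p × ZMod p) (i j : Fin 3) : ZMod p × ZMod p :=
  mulV ν A (fun k => B k j) i

/-- The coded identity matrix. -/
def one3 (i j : Fin 3) : ZMod p × ZMod p := if i = j then (1, 0) else (0, 0)

/-- The adjoint of a coded matrix. -/
def adjM (A : Fin 3 → Fin 3 → ZMod p × ZMod p) (i j : Fin 3) : ZMod p × ZMod p := qconj (A j i)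

/-- The determinant of a coded matrix. -/
def detC (ν : ZMod p) (A : Fin 3 → Fin 3 → ZMod p × ZMod p) : ZMod p × ZMod p :=
  qadd (qsub (qmul ν (A 0 0) (qsub (qmul ν (A 1 1) (A 2 2)) (qmul ν (A 1 2) (A 2 1))))
    (qmul ν (A 0 1) (qsub (qmul ν (A 1 0) (A 2 2)) (qmul ν (A 1 2) (A 2 0)))))
    (qmul ν (A 0 2) (qsub (qmul ν (A 1 0) (A 2 1)) (qmul ν (A 1 1) (A 2 0))))

/-- The conditions for a coded special unitary matrix. -/
abbrev IsSUCode (ν : ZMod p) (A : Fin 3 → Fin 3 → ZMod p × ZMod p) : Prop :=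
  (∀ i j, mulM ν (adjM A) A i j = one3 i j) ∧ detC ν A = (1, 0)

/-- The condition for a coded matrix to permute the coded lines, with given images and multipliers. -/
abbrev PermCode {N : ℕ} (ν : ZMod p) (pts : Fin N → Fin 3 → ZMod p × ZMod p)
    (A : Fin 3 → Fin 3 → ZMod p × ZMod p) (pm : Fin N → Fin N) (c : Fin N → ZMod p × ZMod p) : Prop :=
  ∀ k i, mulV ν A (pts k) i = qmul ν (c k) (pts (pm k) i)

/-- The condition for a coded matrix to move the coded line `k0` out of the family. -/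
abbrev MoveCode {N : ℕ} (ν : ZMod p) (pts : Fin N → Fin 3 → ZMod p × ZMod p)
    (A : Fin 3 → Fin 3 → ZMod p × ZMod p) (k0 : Fin N) : Prop :=
  ∀ j, ∃ i k, qmul ν (mulV ν A (pts k0) i) (pts j k) ≠ qmul ν (mulV ν A (pts k0) k) (pts j i)

variable {F : Type*} [Field F]

/-- The field element of a pair. -/
def el (φ : ZMod p →+* F) (r : F) (a : ZMod p × ZMod p) : F := φ a.1 + φ a.2 * r

/-- The matrix of a code. -/
def toM (φ : ZMod p →+* F) (r : F) (A : Fin 3 → Fin 3 → ZMod p × ZMod p) : Matrix (Fin 3) (Fin 3) F :=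
  Matrix.of fun i j => el φ r (A i j)

/-- The vector of a code. -/
def toV (φ : ZMod p →+* F) (r : F) (v : Fin 3 → ZMod p × ZMod p) : Fin 3 → F := fun i => el φ r (v i)

/-- A square root of `ν` outside the prime field, negated by the involution. -/
structure Coding (φ : ZMod p →+* F) (ν : ZMod p) (r : F) (σ : F ≃+* F) : Prop where
  sq : r * r = φ ν
  conj : σ r = -r
  frob : ∀ x, σ x = x ^ p
  inj : ∀ a b : ZMod p, φ a + φ b * r = 0 → a = 0 ∧ b = 0

section

variable {φ : ZMod p →+* F} {ν : ZMod p} {r : F} {σ : F ≃+* F} (hc : Coding φ ν r σ)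

theorem el_one : el φ r (1, 0) = 1 := by simp [el]

theorem el_zero : el φ r (0, 0) = 0 := by simp [el]

theorem el_add (a b : ZMod p × ZMod p) : el φ r (qadd a b) = el φ r a + el φ r b := by
  simp [el, qadd, add_mul]; ring

theorem el_sub (a b : ZMod p × ZMod p) : el φ r (qsub a b) = el φ r a - el φ r b := by
  simp [el, qsub, sub_mul]; ring

theorem toM_congr {A B : Fin 3 → Fin 3 → ZMod p × ZMod p} (h : ∀ i j, A i j = B i j) : toM φ r A = toM φ r B := by
  ext i j
  simp [toM, h]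

theorem toM_one : toM φ r (one3 (p := p)) = 1 := by
  ext i j
  by_cases h : i = j <;> simp [toM, one3, h, el, Matrix.one_apply]

include hc

theorem el_mul (a b : ZMod p × ZMod p) : el φ r (qmul ν a b) = el φ r a * el φ r b := by
  simp only [el, qmul, map_add, map_mul]
  linear_combination (-(φ a.2 * φ b.2)) * hc.sq

theorem el_conj [Fact p.Prime] (a : ZMod p × ZMod p) : el φ r (qconj a) = σ (el φ r a) := by
  have h : ∀ z : ZMod p, σ (φ z) = φ z := fun z => by rw [hc.frob, ← map_pow, ZMod.pow_card]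
  simp [el, qconj, h, hc.conj]

theorem el_injective : Function.Injective (el φ r) := by
  intro a b h
  obtain ⟨h1, h2⟩ := hc.inj (a.1 - b.1) (a.2 - b.2) (by
    simp only [el] at h
    simp only [map_sub]
    linear_combination h)
  exact Prod.ext (sub_eq_zero.mp h1) (sub_eq_zero.mp h2)

theorem toM_mulVec (A : Fin 3 → Fin 3 → ZMod p × ZMod p) (v : Fin 3 → ZMod p × ZMod p) :
    toM φ r A *ᵥ toV φ r v = toV φ r (mulV ν A v) := by
  funext i
  simp only [Matrix.mulVec, dotProduct, toM, toV, Matrix.of_apply, Fin.sum_univ_three, mulV, el_add,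
    el_mul hc]

theorem toM_mul (A B : Fin 3 → Fin 3 → ZMod p × ZMod p) : toM φ r A * toM φ r B = toM φ r (mulM ν A B) := by
  ext i j
  simp only [Matrix.mul_apply, toM, Matrix.of_apply, Fin.sum_univ_three, mulM, mulV, el_add, el_mul hc]

theorem toM_det (A : Fin 3 → Fin 3 → ZMod p × ZMod p) : (toM φ r A).det = el φ r (detC ν A) := by
  rw [Matrix.det_fin_three]
  simp only [toM, Matrix.of_apply, detC, el_add, el_sub, el_mul hc]
  ring

theorem toM_pow {ℓ : ℕ} [NeZero ℓ] {A : Fin 3 → Fin 3 → ZMod p × ZMod p}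
    {P : Fin ℓ → Fin 3 → Fin 3 → ZMod p × ZMod p} (h0 : ∀ i j, P 0 i j = one3 i j)
    (hs : ∀ k : Fin ℓ, ∀ i j, mulM ν (P k) A i j = P (k + 1) i j) (k : ℕ) :
    toM φ r A ^ k = toM φ r (P (k : Fin ℓ)) := by
  induction k with
  | zero => rw [pow_zero, Nat.cast_zero, toM_congr h0, toM_one]
  | succ k ih => rw [pow_succ, ih, toM_mul hc, toM_congr (hs _), Nat.cast_succ]

variable [Fact p.Prime] [Fintype F]

theorem exists_GL (hF : Fintype.card F = p ^ 2) {A : Fin 3 → Fin 3 → ZMod p × ZMod p} (hA : IsSUCode ν A) :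
    ∃ g : GL (Fin 3) F, (g : Matrix (Fin 3) (Fin 3) F) = toM φ r A ∧
      g ∈ Cfsg.GU 3 F p ⊓ Cfsg.Geo.specialLinear (Fin 3) F := by
  have hinv : ∀ x, σ (σ x) = x := fun x => by
    rw [hc.frob, hc.frob, ← pow_mul, ← pow_two, ← hF, FiniteField.pow_card]
  have hdet : (toM φ r A).det = 1 := by rw [toM_det hc, hA.2, el_one]
  refine ⟨Matrix.GeneralLinearGroup.mk'' (toM φ r A) (by rw [hdet]; exact isUnit_one), rfl, ?_,
    (mem_specialLinear_iff _).mpr hdet⟩
  change _ ∈ Cfsg.GU 3 F p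
  rw [mem_GU_iff hc.frob hinv]
  change (toM φ r A)ᵀ.map σ * toM φ r A = 1
  have hadjM : (toM φ r A)ᵀ.map σ = toM φ r (adjM A) := by
    ext i j
    simp [toM, adjM, el_conj hc]
  rw [hadjM, toM_mul hc, toM_congr hA.1, toM_one]

theorem mem_lineStab_of_perm {N : ℕ} {pts : Fin N → Fin 3 → ZMod p × ZMod p}
    {A : Fin 3 → Fin 3 → ZMod p × ZMod p} {pm : Fin N → Fin N} {c : Fin N → ZMod p × ZMod p}
    (h : PermCode ν pts A pm c) {g : GL (Fin 3) F} (hg : (g : Matrix (Fin 3) (Fin 3) F) = toM φ r A) :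
    g ∈ lineStab fun k => toV φ r (pts k) := by
  intro k
  refine ⟨pm k, el φ r (c k), ?_⟩
  change (g : Matrix (Fin 3) (Fin 3) F) *ᵥ toV φ r (pts k) = _
  rw [hg, toM_mulVec hc]
  funext i
  simp [toV, h k i, el_mul hc]

theorem not_mem_lineStab_of_move {N : ℕ} {pts : Fin N → Fin 3 → ZMod p × ZMod p}
    {A : Fin 3 → Fin 3 → ZMod p × ZMod p} {k0 : Fin N}
    (h : MoveCode ν pts A k0) {g : GL (Fin 3) F} (hg : (g : Matrix (Fin 3) (Fin 3) F) = toM φ r A) :
    g ∉ lineStab fun k => toV φ r (pts k) := by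
  intro hmem
  obtain ⟨j, c, hcj⟩ := hmem k0
  obtain ⟨i, k, hik⟩ := h j
  change (g : Matrix (Fin 3) (Fin 3) F) *ᵥ toV φ r (pts k0) = _ at hcj
  rw [hg, toM_mulVec hc] at hcj
  apply hik
  apply el_injective hc
  have hi := congrFun hcj i
  have hk := congrFun hcj k
  simp only [toV, Pi.smul_apply, smul_eq_mul] at hi hk
  rw [el_mul hc, el_mul hc, hi, hk]
  ring

end

/-- The field with `p ^ 2` elements is coded by pairs. -/
theorem exists_coding [Fintype F] {p : ℕ} (hp : p.Prime) (hF : Fintype.card F = p ^ 2) {ν : ZMod p} {h : ℕ}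
    (hh : p = 2 * h + 1) (hν : ν ^ h = -1) :
    ∃ (φ : ZMod p →+* F) (r : F) (σ : F ≃+* F), Coding φ ν r σ := by
  haveI : Fact p.Prime := ⟨hp⟩
  obtain ⟨l, hchar⟩ := CharP.exists F
  obtain ⟨N, hl, hN⟩ := FiniteField.card F l
  have hlp : l = p := by
    have h1 : l ∣ p ^ 2 := by rw [← hF, hN]; exact dvd_pow_self l N.ne_zero
    exact (Nat.prime_dvd_prime_iff_eq hl hp).mp (hl.dvd_of_dvd_pow h1)
  subst hlp
  haveI : ExpChar F l := ExpChar.prime hl
  let φ : ZMod l →+* F := ZMod.castHom dvd_rfl F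
  obtain ⟨σ, hσ, -, -⟩ := exists_frob hF
  have h2 : ringChar F ≠ 2 := by
    rw [ringChar.eq F l]
    omega
  have hne : φ ν ≠ 0 := by
    rw [map_ne_zero]
    intro h0
    rw [h0] at hν
    rcases Nat.eq_zero_or_pos h with rfl | hpos
    · exact absurd hh (by have := hp.two_le; omega)
    · rw [zero_pow hpos.ne'] at hν
      exact one_ne_zero (neg_eq_zero.mp hν.symm)
  obtain ⟨r, hr⟩ : IsSquare (φ ν) := by
    rw [FiniteField.isSquare_iff h2 hne, hF,
      show l ^ 2 / 2 = h * (l + 1) by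
        rw [hh, show (2 * h + 1) ^ 2 = 1 + 2 * (h * (2 * h + 1 + 1)) by ring, Nat.add_mul_div_left _ _ two_pos]
        simp,
      pow_mul, ← map_pow, hν, map_neg, map_one, Even.neg_one_pow (show Even (l + 1) by rw [hh]; exact ⟨h + 1, by ring⟩)]
  refine ⟨φ, r, σ, hr.symm, ?_, hσ, fun a b hab => ?_⟩
  · rw [hσ, show r ^ l = r ^ (2 * h + 1) by rw [hh], pow_succ, pow_mul, pow_two, ← hr, ← map_pow, hν, map_neg, map_one]
    ring
  · by_cases hb : b = 0
    · subst hb
      simp only [map_zero, zero_mul, add_zero, map_eq_zero] at hab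
      exact ⟨hab, rfl⟩
    · exfalso
      have e : r = φ (-a / b) := by
        rw [map_div₀, map_neg, eq_div_iff ((map_ne_zero φ).mpr hb)]
        linear_combination hab
      have hsq : ν = (-a / b) * (-a / b) := φ.injective (by rw [map_mul, ← e, hr])
      rw [hsq, ← pow_two, ← pow_mul] at hν
      rcases eq_or_ne (-a / b) 0 with h0 | h0
      · rw [h0, zero_pow (by intro h2; have := hp.two_le; omega)] at hν
        exact one_ne_zero (neg_eq_zero.mp hν.symm)
      · have h1 := ZMod.pow_card_sub_one_eq_one h0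
        rw [show l - 1 = 2 * h by omega, hν] at h1
        haveI : Fact (2 < l) := ⟨by have := hp.two_le; omega⟩
        exact ZMod.neg_one_ne_one h1

end CfsgLib.Techniques.AschPrimeU.QuadCode
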