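/-
The normaliser case for the special unitary rows, and residues of the characteristic.
-/
import Cfsg.Agent.Lib.Techniques.AschPrimeU.Main
import Cfsg.Agent.Lib.Techniques.AschPrimeU.ProperNorm

set_option autoImplicit false

namespace CfsgLib.Techniques.AschPrimeU

open Matrix CfsgLib.Transvec CfsgLib.Transvec.Unitary CfsgLib.Techniques.AschPrime
open scoped MatrixGroups

variable {F : Type*} [Field F] [Fintype F]

/-- The special unitary group contains a non-trivial transvection. -/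
theorem exists_transv_mem_SU {n q : ℕ} (hn : 2 ≤ n) (hF : Fintype.card F = q ^ 2) :
    ∃ v φ : Fin n → F, v ≠ 0 ∧ φ ≠ 0 ∧ φ ⬝ᵥ v = 0 ∧
      transv v φ ∈ Cfsg.GU n F q ⊓ Cfsg.Geo.specialLinear (Fin n) F := by
  obtain ⟨σ, hσ, hinv, hne⟩ := exists_frob hF
  have hf := isUnitaryForm_hermForm (n := n) hσ hinv hne
  obtain ⟨e, g, he0, he, -, heg⟩ := exists_hyperbolic hf (by rwa [Fintype.card_fin])
  obtain ⟨c, hc0, hc⟩ := exists_skew hne hinv
  refine ⟨e, c • uvec (Cfsg.hermForm n F q) e, he0, fun h => ?_, uT_dot hf he c, uT_mem_SU hσ hinv hne he hc⟩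
  have h1 : (c • uvec (Cfsg.hermForm n F q) e) ⬝ᵥ g = 0 := by rw [h, zero_dotProduct]
  rw [smul_dotProduct, uvec_dot hf, hf.herm, heg, map_one, smul_eq_mul, mul_one] at h1
  exact hc0 h1

/-- In degree at least five the normaliser case gives equality. -/
theorem eq_normalizer {n q : ℕ} (hn : n.Prime) (h5 : 5 ≤ n) (hF : Fintype.card F = q ^ 2)
    {H R : Subgroup (GL (Fin n) F)}
    (hH : Cfsg.Geo.IsMaximalIn (Cfsg.GU n F q ⊓ Cfsg.Geo.specialLinear (Fin n) F) H)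
    (hR : AbsIrr R) (hcard : Nat.card R = n ^ 3) (hcen : Nat.card (Subgroup.center R) = n)
    (hle : H ≤ Cfsg.Geo.subgroupNormalizer R) :
    H = Cfsg.Geo.subgroupNormalizer R ⊓ (Cfsg.GU n F q ⊓ Cfsg.Geo.specialLinear (Fin n) F) := by
  haveI : Nonempty (Fin n) := ⟨⟨0, by omega⟩⟩
  rcases hH.2 (Cfsg.Geo.subgroupNormalizer R ⊓ (Cfsg.GU n F q ⊓ Cfsg.Geo.specialLinear (Fin n) F))
    (le_inf hle hH.1.le) inf_le_right with h | h
  · exact h.symm
  · obtain ⟨v, φ, hv, hφ, hφv, hmem⟩ := exists_transv_mem_SU (show 2 ≤ n by omega) hF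
    exact absurd (inf_eq_right.mp h hmem)
      (transv_not_mem_normalizer (by rwa [Fintype.card_fin]) hR (commutator_mem_scalars hn hR hcard hcen) hv hφ hφv)

theorem mod_of_dvd_pow_succ {n p d : ℕ} (h : n ∣ p ^ d + 1) : ((p % n) ^ d + 1) % n = 0 := by
  have h1 := Nat.mod_eq_zero_of_dvd h
  rwa [Nat.add_mod, Nat.pow_mod, ← Nat.add_mod] at h1

theorem not_dvd_of_mod_eq {n p k : ℕ} (hk : Even k) (hn : 1 < n) (h : p % n = n - 1) : n ∣ p ^ k - 1 := by
  obtain ⟨m, rfl⟩ := hk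
  rw [show m + m = 2 * m by ring, pow_mul]
  refine (Nat.dvd_trans ?_ (Nat.sub_one_dvd_pow_sub_one (p ^ 2) m))
  have h2 : n ∣ p + 1 := Nat.dvd_of_mod_eq_zero (by
    rw [Nat.add_mod, h, Nat.one_mod_eq_one.mpr (by omega : n ≠ 1), show n - 1 + 1 = n by omega, Nat.mod_self])
  have h3 : p ^ 2 - 1 = (p + 1) * (p - 1) := by
    have h4 := Nat.sq_sub_sq p 1
    rwa [one_pow] at h4
  exact h3 ▸ h2.mul_right _

end CfsgLib.Techniques.AschPrimeU
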