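/-
A subgroup of type 3.A7 in the special unitary group of degree three over 25 elements: matrices, an orbit of lines and the induced permutations, with field elements coded as pairs.
-/
import Mathlib.Data.ZMod.Defs
import Mathlib.Data.Fin.VecNotation

set_option autoImplicit false

namespace CfsgLib.Techniques.AschPrimeU.ThreeFive

/-- A primitive sixth root of unity. -/
def zeta : ZMod 5 × ZMod 5 := (3, 2)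

def aT : Fin 3 → Fin 3 → ZMod 5 × ZMod 5 := ![![(3, 0), (0, 4), (3, 0)], ![(1, 2), (0, 0), (4, 3)], ![(4, 4), (1, 3), (4, 4)]]

def aS : Fin 3 → Fin 3 → ZMod 5 × ZMod 5 := ![![(4, 2), (4, 3), (0, 0)], ![(1, 1), (1, 4), (0, 1)], ![(1, 1), (1, 4), (0, 4)]]

def aU : Fin 3 → Fin 3 → ZMod 5 × ZMod 5 := ![![(1, 0), (1, 0), (2, 0)], ![(1, 0), (2, 0), (1, 0)], ![(2, 0), (1, 0), (1, 0)]]

def aD0 : Fin 3 → Fin 3 → ZMod 5 × ZMod 5 := ![![(3, 2), (0, 0), (0, 0)], ![(0, 0), (1, 0), (0, 0)], ![(0, 0), (0, 0), (3, 3)]]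

def aD1 : Fin 3 → Fin 3 → ZMod 5 × ZMod 5 := ![![(1, 0), (0, 0), (0, 0)], ![(0, 0), (3, 2), (0, 0)], ![(0, 0), (0, 0), (3, 3)]]

def aA : Fin 3 → Fin 3 → ZMod 5 × ZMod 5 := ![![(1, 0), (1, 0), (2, 0)], ![(1, 0), (2, 0), (1, 0)], ![(2, 0), (1, 0), (1, 0)]]

def aB : Fin 3 → Fin 3 → ZMod 5 × ZMod 5 := ![![(1, 0), (3, 0), (4, 0)], ![(1, 0), (4, 0), (3, 0)], ![(3, 0), (1, 0), (1, 0)]]

def aP0 : Fin 3 → Fin 3 → ZMod 5 × ZMod 5 := ![![(1, 0), (0, 0), (0, 0)], ![(0, 0), (1, 0), (0, 0)], ![(0, 0), (0, 0), (1, 0)]]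

def aP1 : Fin 3 → Fin 3 → ZMod 5 × ZMod 5 := ![![(4, 0), (0, 0), (0, 0)], ![(0, 0), (0, 0), (4, 0)], ![(0, 0), (4, 0), (0, 0)]]

def aP2 : Fin 3 → Fin 3 → ZMod 5 × ZMod 5 := ![![(0, 0), (4, 0), (0, 0)], ![(4, 0), (0, 0), (0, 0)], ![(0, 0), (0, 0), (4, 0)]]

def aP3 : Fin 3 → Fin 3 → ZMod 5 × ZMod 5 := ![![(0, 0), (0, 0), (1, 0)], ![(1, 0), (0, 0), (0, 0)], ![(0, 0), (1, 0), (0, 0)]]

def aP4 : Fin 3 → Fin 3 → ZMod 5 × ZMod 5 := ![![(0, 0), (1, 0), (0, 0)], ![(0, 0), (0, 0), (1, 0)], ![(1, 0), (0, 0), (0, 0)]]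

def aP5 : Fin 3 → Fin 3 → ZMod 5 × ZMod 5 := ![![(0, 0), (0, 0), (4, 0)], ![(0, 0), (4, 0), (0, 0)], ![(4, 0), (0, 0), (0, 0)]]

def aTPow : Fin 7 → Fin 3 → Fin 3 → ZMod 5 × ZMod 5 :=
  ![![![(1, 0), (0, 0), (0, 0)], ![(0, 0), (1, 0), (0, 0)], ![(0, 0), (0, 0), (1, 0)]],
    ![![(3, 0), (0, 4), (3, 0)], ![(1, 2), (0, 0), (4, 3)], ![(4, 4), (1, 3), (4, 4)]],
    ![![(2, 1), (3, 1), (0, 3)], ![(3, 4), (3, 4), (3, 4)], ![(3, 4), (0, 2), (2, 4)]],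
    ![![(2, 2), (1, 1), (3, 3)], ![(2, 0), (4, 0), (4, 0)], ![(2, 3), (3, 2), (1, 4)]],
    ![![(2, 3), (2, 0), (2, 2)], ![(1, 4), (4, 0), (3, 3)], ![(3, 2), (4, 0), (1, 1)]],
    ![![(2, 4), (3, 1), (3, 1)], ![(3, 4), (3, 1), (0, 3)], ![(0, 2), (3, 1), (2, 1)]],
    ![![(3, 0), (1, 3), (4, 1)], ![(0, 1), (0, 0), (1, 2)], ![(3, 0), (4, 2), (4, 1)]]]

/-- The lines. -/
def aPts : Fin 105 → Fin 3 → ZMod 5 × ZMod 5 :=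
  ![![(0, 0), (0, 0), (1, 0)], ![(1, 0), (3, 1), (3, 3)], ![(0, 0), (1, 0), (4, 0)], ![(1, 0), (3, 0), (3, 0)],
    ![(1, 0), (2, 0), (4, 0)], ![(0, 0), (1, 0), (0, 0)], ![(1, 0), (0, 0), (0, 0)], ![(1, 0), (3, 3), (3, 2)],
    ![(1, 0), (4, 1), (3, 3)], ![(1, 0), (0, 0), (2, 2)], ![(1, 0), (0, 2), (4, 0)], ![(1, 0), (3, 4), (2, 3)],
    ![(1, 0), (1, 4), (2, 2)], ![(1, 0), (3, 3), (3, 1)], ![(1, 0), (4, 2), (4, 3)], ![(1, 0), (3, 2), (3, 4)],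
    ![(1, 0), (4, 3), (4, 2)], ![(1, 0), (3, 4), (3, 2)], ![(1, 0), (3, 0), (1, 0)], ![(1, 0), (2, 3), (3, 4)],
    ![(1, 0), (4, 0), (0, 0)], ![(0, 0), (1, 0), (2, 2)], ![(0, 0), (1, 0), (3, 2)], ![(1, 0), (0, 0), (4, 0)],
    ![(1, 0), (2, 1), (3, 2)], ![(1, 0), (3, 3), (1, 4)], ![(1, 0), (4, 4), (1, 4)], ![(1, 0), (4, 1), (4, 4)],
    ![(1, 0), (1, 0), (2, 0)], ![(1, 0), (2, 0), (1, 0)], ![(1, 0), (3, 2), (2, 2)], ![(1, 0), (3, 2), (1, 1)],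
    ![(1, 0), (4, 0), (3, 0)], ![(1, 0), (1, 1), (3, 2)], ![(1, 0), (2, 0), (3, 0)], ![(1, 0), (4, 0), (2, 0)],
    ![(1, 0), (3, 0), (2, 0)], ![(1, 0), (3, 0), (4, 0)], ![(1, 0), (0, 1), (0, 1)], ![(1, 0), (2, 4), (3, 3)],
    ![(1, 0), (0, 4), (0, 4)], ![(1, 0), (1, 0), (3, 0)], ![(1, 0), (2, 3), (4, 4)], ![(1, 0), (4, 0), (0, 2)],
    ![(1, 0), (2, 3), (3, 3)], ![(1, 0), (1, 0), (1, 0)], ![(1, 0), (2, 2), (3, 2)], ![(1, 0), (3, 2), (3, 3)],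
    ![(1, 0), (3, 3), (2, 3)], ![(1, 0), (1, 3), (4, 3)], ![(1, 0), (4, 2), (1, 2)], ![(1, 0), (1, 1), (2, 3)],
    ![(0, 0), (1, 0), (2, 3)], ![(1, 0), (3, 3), (4, 1)], ![(1, 0), (1, 1), (4, 1)], ![(1, 0), (4, 1), (1, 1)],
    ![(1, 0), (1, 4), (4, 4)], ![(1, 0), (0, 0), (1, 0)], ![(1, 0), (0, 0), (3, 2)], ![(1, 0), (2, 2), (0, 0)],
    ![(1, 0), (2, 3), (0, 0)], ![(1, 0), (0, 0), (2, 3)], ![(1, 0), (2, 4), (2, 2)], ![(1, 0), (2, 2), (2, 4)],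
    ![(1, 0), (3, 1), (2, 2)], ![(1, 0), (0, 4), (0, 1)], ![(1, 0), (4, 0), (0, 3)], ![(1, 0), (0, 1), (0, 4)],
    ![(1, 0), (0, 3), (4, 0)], ![(1, 0), (3, 2), (4, 4)], ![(1, 0), (1, 2), (4, 2)], ![(1, 0), (4, 3), (1, 3)],
    ![(1, 0), (4, 4), (3, 2)], ![(1, 0), (2, 2), (1, 4)], ![(1, 0), (4, 4), (4, 1)], ![(1, 0), (2, 3), (1, 1)],
    ![(1, 0), (2, 2), (2, 3)], ![(1, 0), (2, 3), (2, 1)], ![(1, 0), (1, 0), (0, 2)], ![(1, 0), (2, 2), (3, 1)],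
    ![(1, 0), (0, 3), (1, 0)], ![(1, 0), (4, 4), (2, 3)], ![(1, 0), (2, 0), (2, 0)], ![(1, 0), (2, 1), (2, 3)],
    ![(1, 0), (4, 0), (4, 0)], ![(1, 0), (3, 3), (2, 4)], ![(0, 0), (1, 0), (1, 0)], ![(1, 0), (3, 2), (2, 1)],
    ![(1, 0), (1, 3), (1, 2)], ![(0, 0), (1, 0), (3, 3)], ![(1, 0), (0, 0), (3, 3)], ![(1, 0), (3, 2), (0, 0)],
    ![(1, 0), (3, 3), (0, 0)], ![(1, 0), (4, 0), (1, 0)], ![(1, 0), (1, 0), (4, 0)], ![(1, 0), (0, 2), (1, 0)],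
    ![(1, 0), (1, 2), (1, 3)], ![(1, 0), (1, 4), (3, 3)], ![(1, 0), (1, 4), (1, 1)], ![(1, 0), (1, 1), (1, 4)],
    ![(1, 0), (2, 2), (4, 1)], ![(1, 0), (1, 0), (0, 0)], ![(1, 0), (2, 3), (2, 2)], ![(1, 0), (4, 1), (2, 2)],
    ![(1, 0), (1, 0), (0, 3)]]

def aTPerm : Fin 105 → Fin 105 := ![1, 7, 18, 24, 30, 9, 39, 42, 22, 47, 62, 31, 33, 43, 38, 65, 78, 46, 57, 79, 29, 40, 88, 5, 94, 16, 54, 87, 17, 61, 83, 15, 76, 52, 68, 10, 48, 102, 34, 84, 35, 93, 32, 26, 69, 23, 55, 98, 11, 13, 59, 72, 104, 73, 19, 25, 70, 90, 97, 66, 67, 44, 75, 89, 56, 100, 53, 99, 64, 74, 14, 21, 91, 77, 96, 71, 80, 92, 28, 49, 0, 4, 45, 27, 103, 101, 81, 86, 2, 85, 8, 63, 50, 58, 12, 6, 20, 60, 82, 41, 36, 51, 95, 37, 3]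

def aTMult : Fin 105 → ZMod 5 × ZMod 5 := ![(3, 0), (0, 1), (2, 4), (2, 2), (0, 3), (0, 4), (3, 0), (1, 3), (1, 3), (4, 1), (1, 0), (1, 1), (1, 0), (1, 0), (1, 0), (3, 4), (4, 2), (4, 3), (1, 2), (1, 0), (3, 1), (1, 0), (4, 0), (2, 4), (0, 4), (0, 4), (3, 3), (3, 3), (4, 4), (1, 3), (0, 3), (2, 0), (2, 1), (0, 4), (2, 3), (4, 1), (4, 2), (0, 2), (1, 3), (4, 2), (0, 2), (2, 4), (4, 0), (3, 2), (1, 2), (1, 4), (3, 4), (3, 1), (3, 1), (4, 3), (2, 2), (2, 3), (1, 3), (4, 0), (3, 2), (4, 4), (2, 1), (1, 0), (2, 1), (4, 3), (2, 3), (4, 4), (1, 4), (3, 4), (2, 3), (0, 3), (3, 0), (1, 2), (4, 0), (1, 4), (1, 0), (3, 2), (4, 2), (2, 0), (2, 4), (0, 1), (0, 2), (3, 1), (3, 0), (3, 1), (1, 1), (1, 0), (4, 3), (2, 2), (0, 1), (3, 4), (3, 4), (0, 2), (2, 3), (4, 3), (2, 4), (4, 2), (2, 2), (1, 1), (0, 4),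 (2, 0), (2, 3), (4, 3), (3, 2), (4, 1), (1, 1), (3, 4), (3, 4), (2, 2), (3, 3)]

def aSPerm : Fin 105 → Fin 105 := ![2, 8, 19, 25, 31, 38, 40, 18, 49, 56, 63, 60, 46, 76, 59, 67, 69, 61, 43, 0, 3, 85, 54, 64, 17, 20, 80, 48, 74, 33, 36, 93, 57, 78, 66, 101, 97, 10, 77, 75, 91, 27, 22, 7, 52, 14, 96, 34, 41, 1, 9, 95, 55, 23, 42, 44, 50, 79, 87, 45, 86, 24, 51, 37, 53, 58, 47, 83, 92, 94, 73, 72, 103, 98, 104, 89, 88, 5, 29, 32, 90, 100, 68, 15, 35, 102, 11, 65, 13, 39, 26, 6, 82, 4, 16, 62, 12, 30, 70, 81, 99, 84, 21, 71, 28]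

def aSMult : Fin 105 → ZMod 5 × ZMod 5 := ![(0, 1), (2, 0), (4, 3), (1, 1), (2, 3), (4, 3), (4, 2), (4, 3), (1, 3), (4, 2), (1, 0), (0, 2), (2, 1), (4, 3), (2, 2), (3, 4), (3, 1), (0, 2), (1, 1), (4, 4), (0, 4), (4, 3), (4, 3), (4, 2), (3, 2), (4, 3), (4, 0), (1, 3), (3, 0), (2, 3), (3, 4), (3, 4), (0, 4), (4, 4), (2, 3), (0, 4), (1, 1), (1, 1), (0, 1), (1, 4), (3, 3), (3, 0), (0, 1), (0, 4), (3, 0), (3, 0), (4, 1), (3, 4), (4, 3), (1, 2), (2, 2), (4, 4), (4, 3), (4, 3), (4, 4), (1, 3), (2, 1), (4, 2), (4, 2), (4, 1), (2, 2), (4, 2), (1, 4), (4, 1), (2, 0), (3, 3), (0, 4), (0, 1), (2, 4), (3, 4), (0, 3), (3, 1), (4, 0), (4, 1), (4, 0), (4, 3), (4, 1), (4, 4), (3, 0), (4, 1), (2, 4), (4, 0), (2, 3), (3, 2), (0, 4), (4, 3), (4, 3), (3, 4), (1, 2), (4, 3), (4, 2), (3, 4), (4, 3), (0, 4), (3, 0),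 (1, 0), (0, 3), (2, 1), (2, 1), (4, 4), (4, 1), (3, 0), (1, 4), (1, 3), (3, 0)]

def aUPerm : Fin 105 → Fin 105 := ![3, 9, 20, 0, 32, 29, 28, 43, 50, 1, 30, 69, 58, 21, 59, 52, 60, 61, 18, 25, 2, 13, 73, 23, 24, 19, 62, 92, 6, 5, 10, 79, 4, 77, 34, 35, 37, 36, 78, 39, 104, 82, 98, 7, 67, 45, 65, 66, 68, 56, 8, 90, 15, 64, 70, 83, 49, 93, 12, 14, 16, 17, 26, 97, 53, 46, 47, 44, 48, 11, 54, 72, 71, 22, 91, 89, 102, 33, 38, 31, 95, 81, 41, 55, 101, 88, 94, 96, 85, 75, 51, 74, 27, 57, 86, 80, 87, 63, 42, 100, 99, 84, 76, 103, 40]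

def aUMult : Fin 105 → ZMod 5 × ZMod 5 := ![(2, 0), (0, 2), (4, 0), (3, 0), (1, 0), (1, 0), (1, 0), (0, 2), (1, 2), (0, 4), (4, 2), (3, 0), (1, 3), (0, 2), (3, 3), (0, 3), (3, 2), (0, 3), (1, 0), (4, 1), (4, 0), (0, 4), (2, 4), (4, 0), (4, 0), (1, 1), (2, 2), (3, 4), (1, 0), (1, 0), (3, 1), (1, 4), (1, 0), (3, 0), (4, 0), (4, 0), (3, 0), (2, 0), (1, 3), (4, 0), (1, 2), (3, 0), (1, 1), (0, 4), (4, 4), (4, 0), (4, 1), (0, 3), (3, 4), (0, 4), (2, 1), (1, 2), (0, 1), (2, 0), (0, 3), (2, 3), (0, 2), (3, 0), (2, 4), (3, 2), (3, 3), (0, 1), (2, 3), (2, 0), (3, 0), (1, 1), (0, 1), (1, 4), (4, 3), (2, 0), (0, 1), (2, 4), (1, 3), (1, 3), (3, 1), (1, 2), (2, 3), (2, 0), (2, 4), (4, 4), (3, 3), (4, 0), (2, 0), (2, 2), (3, 0), (3, 1), (3, 0), (3, 4), (4, 2), (2, 1), (2, 1), (4, 2), (4, 3), (2, 0), (2, 0),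 (3, 2), (4, 3), (3, 0), (4, 1), (4, 4), (1, 4), (2, 0), (2, 2), (4, 0), (2, 1)]

def aD0Perm : Fin 105 → Fin 105 := ![0, 10, 21, 26, 33, 5, 6, 44, 37, 57, 24, 64, 29, 77, 71, 78, 38, 1, 81, 43, 59, 22, 86, 58, 39, 75, 98, 36, 53, 51, 45, 41, 73, 8, 99, 100, 74, 72, 88, 68, 14, 25, 35, 63, 84, 48, 47, 94, 102, 96, 16, 103, 2, 42, 27, 3, 82, 61, 90, 91, 20, 9, 80, 15, 95, 50, 79, 49, 17, 28, 65, 67, 97, 31, 56, 32, 30, 66, 85, 87, 11, 12, 54, 62, 46, 19, 89, 104, 70, 52, 23, 101, 60, 76, 7, 83, 40, 4, 34, 55, 69, 92, 93, 18, 13]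

def aD0Mult : Fin 105 → ZMod 5 × ZMod 5 := ![(3, 3), (3, 2), (1, 0), (3, 2), (3, 2), (1, 0), (3, 2), (3, 2), (3, 2), (3, 2), (3, 2), (3, 2), (3, 2), (3, 2), (3, 2), (3, 2), (3, 2), (3, 2), (3, 2), (3, 2), (3, 2), (1, 0), (1, 0), (3, 2), (3, 2), (3, 2), (3, 2), (3, 2), (3, 2), (3, 2), (3, 2), (3, 2), (3, 2), (3, 2), (3, 2), (3, 2), (3, 2), (3, 2), (3, 2), (3, 2), (3, 2), (3, 2), (3, 2), (3, 2), (3, 2), (3, 2), (3, 2), (3, 2), (3, 2), (3, 2), (3, 2), (3, 2), (1, 0), (3, 2), (3, 2), (3, 2), (3, 2), (3, 2), (3, 2), (3, 2), (3, 2), (3, 2), (3, 2), (3, 2), (3, 2), (3, 2), (3, 2), (3, 2), (3, 2), (3, 2), (3, 2), (3, 2), (3, 2), (3, 2), (3, 2), (3, 2), (3, 2), (3, 2), (3, 2), (3, 2), (3, 2), (3, 2), (3, 2), (3, 2), (3, 2), (3, 2), (1, 0), (3, 2), (3, 2), (1, 0), (3, 2), (3, 2), (3, 2), (3, 2), (3, 2),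 (3, 2), (3, 2), (3, 2), (3, 2), (3, 2), (3, 2), (3, 2), (3, 2), (3, 2), (3, 2)]

def aD1Perm : Fin 105 → Fin 105 := ![0, 11, 22, 27, 12, 5, 6, 45, 51, 58, 64, 68, 72, 78, 65, 79, 14, 80, 8, 13, 60, 86, 89, 9, 95, 28, 36, 99, 31, 97, 46, 100, 42, 29, 56, 75, 55, 103, 71, 83, 70, 69, 25, 77, 48, 47, 93, 76, 94, 38, 40, 4, 21, 41, 34, 54, 26, 90, 57, 20, 92, 23, 24, 66, 17, 96, 19, 16, 62, 73, 49, 50, 18, 35, 3, 53, 84, 85, 87, 43, 39, 37, 98, 10, 102, 104, 52, 63, 67, 2, 61, 59, 101, 44, 30, 1, 88, 81, 74, 82, 32, 91, 7, 33, 15]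

def aD1Mult : Fin 105 → ZMod 5 × ZMod 5 := ![(3, 3), (1, 0), (3, 2), (1, 0), (1, 0), (3, 2), (1, 0), (1, 0), (1, 0), (1, 0), (1, 0), (1, 0), (1, 0), (1, 0), (1, 0), (1, 0), (1, 0), (1, 0), (1, 0), (1, 0), (1, 0), (3, 2), (3, 2), (1, 0), (1, 0), (1, 0), (1, 0), (1, 0), (1, 0), (1, 0), (1, 0), (1, 0), (1, 0), (1, 0), (1, 0), (1, 0), (1, 0), (1, 0), (1, 0), (1, 0), (1, 0), (1, 0), (1, 0), (1, 0), (1, 0), (1, 0), (1, 0), (1, 0), (1, 0), (1, 0), (1, 0), (1, 0), (3, 2), (1, 0), (1, 0), (1, 0), (1, 0), (1, 0), (1, 0), (1, 0), (1, 0), (1, 0), (1, 0), (1, 0), (1, 0), (1, 0), (1, 0), (1, 0), (1, 0), (1, 0), (1, 0), (1, 0), (1, 0), (1, 0), (1, 0), (1, 0), (1, 0), (1, 0), (1, 0), (1, 0), (1, 0), (1, 0), (1, 0), (1, 0), (1, 0), (1, 0), (3, 2), (1, 0), (1, 0), (3, 2), (1, 0), (1, 0), (1, 0), (1, 0), (1, 0),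 (1, 0), (1, 0), (1, 0), (1, 0), (1, 0), (1, 0), (1, 0), (1, 0), (1, 0), (1, 0)]

def aAPerm : Fin 105 → Fin 105 := ![3, 9, 20, 0, 32, 29, 28, 43, 50, 1, 30, 69, 58, 21, 59, 52, 60, 61, 18, 25, 2, 13, 73, 23, 24, 19, 62, 92, 6, 5, 10, 79, 4, 77, 34, 35, 37, 36, 78, 39, 104, 82, 98, 7, 67, 45, 65, 66, 68, 56, 8, 90, 15, 64, 70, 83, 49, 93, 12, 14, 16, 17, 26, 97, 53, 46, 47, 44, 48, 11, 54, 72, 71, 22, 91, 89, 102, 33, 38, 31, 95, 81, 41, 55, 101, 88, 94, 96, 85, 75, 51, 74, 27, 57, 86, 80, 87, 63, 42, 100, 99, 84, 76, 103, 40]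

def aAMult : Fin 105 → ZMod 5 × ZMod 5 := ![(2, 0), (0, 2), (4, 0), (3, 0), (1, 0), (1, 0), (1, 0), (0, 2), (1, 2), (0, 4), (4, 2), (3, 0), (1, 3), (0, 2), (3, 3), (0, 3), (3, 2), (0, 3), (1, 0), (4, 1), (4, 0), (0, 4), (2, 4), (4, 0), (4, 0), (1, 1), (2, 2), (3, 4), (1, 0), (1, 0), (3, 1), (1, 4), (1, 0), (3, 0), (4, 0), (4, 0), (3, 0), (2, 0), (1, 3), (4, 0), (1, 2), (3, 0), (1, 1), (0, 4), (4, 4), (4, 0), (4, 1), (0, 3), (3, 4), (0, 4), (2, 1), (1, 2), (0, 1), (2, 0), (0, 3), (2, 3), (0, 2), (3, 0), (2, 4), (3, 2), (3, 3), (0, 1), (2, 3), (2, 0), (3, 0), (1, 1), (0, 1), (1, 4), (4, 3), (2, 0), (0, 1), (2, 4), (1, 3), (1, 3), (3, 1), (1, 2), (2, 3), (2, 0), (2, 4), (4, 4), (3, 3), (4, 0), (2, 0), (2, 2), (3, 0), (3, 1), (3, 0), (3, 4), (4, 2), (2, 1), (2, 1), (4, 2), (4, 3), (2, 0), (2, 0),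 (3, 2), (4, 3), (3, 0), (4, 1), (4, 4), (1, 4), (2, 0), (2, 2), (4, 0), (2, 1)]

def aBPerm : Fin 105 → Fin 105 := ![4, 12, 20, 28, 34, 36, 41, 46, 52, 55, 65, 70, 1, 74, 15, 27, 13, 51, 32, 83, 84, 87, 42, 93, 53, 8, 24, 73, 3, 29, 80, 72, 5, 56, 82, 37, 18, 6, 78, 69, 104, 35, 19, 10, 40, 101, 38, 44, 95, 99, 81, 17, 85, 61, 88, 39, 96, 86, 71, 33, 97, 26, 89, 90, 49, 76, 68, 102, 67, 9, 98, 103, 21, 14, 75, 16, 43, 58, 7, 62, 48, 63, 0, 22, 94, 25, 45, 31, 60, 100, 50, 11, 64, 23, 2, 30, 59, 54, 91, 92, 79, 57, 66, 77, 47]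

def aBMult : Fin 105 → ZMod 5 × ZMod 5 := ![(4, 0), (2, 0), (4, 0), (2, 0), (3, 0), (3, 0), (1, 0), (2, 2), (1, 3), (4, 3), (2, 1), (3, 4), (2, 0), (2, 3), (4, 3), (2, 2), (4, 2), (2, 0), (4, 0), (4, 0), (3, 0), (1, 3), (0, 3), (2, 0), (4, 1), (4, 0), (2, 3), (4, 4), (2, 0), (1, 0), (3, 4), (4, 0), (1, 0), (1, 1), (4, 0), (1, 0), (3, 0), (1, 0), (1, 2), (4, 4), (1, 3), (1, 0), (3, 0), (3, 3), (4, 1), (3, 0), (4, 4), (2, 3), (3, 1), (0, 1), (2, 4), (2, 0), (1, 2), (1, 3), (0, 2), (2, 2), (0, 3), (4, 0), (3, 3), (2, 1), (2, 4), (4, 2), (0, 2), (0, 2), (3, 1), (1, 1), (3, 2), (1, 4), (2, 4), (1, 2), (0, 4), (2, 1), (1, 2), (1, 2), (4, 1), (1, 3), (0, 3), (0, 3), (4, 3), (4, 0), (0, 4), (1, 4), (2, 0), (0, 3), (4, 0), (3, 0), (2, 0), (3, 0), (3, 2), (0, 2), (3, 2), (0, 1), (0, 4), (2, 0), (2, 0),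 (0, 1), (3, 3), (1, 4), (3, 1), (3, 4), (3, 0), (4, 0), (0, 2), (1, 1), (4, 2)]

def aP0Perm : Fin 105 → Fin 105 := ![0, 1, 2, 3, 4, 5, 6, 7, 8, 9, 10, 11, 12, 13, 14, 15, 16, 17, 18, 19, 20, 21, 22, 23, 24, 25, 26, 27, 28, 29, 30, 31, 32, 33, 34, 35, 36, 37, 38, 39, 40, 41, 42, 43, 44, 45, 46, 47, 48, 49, 50, 51, 52, 53, 54, 55, 56, 57, 58, 59, 60, 61, 62, 63, 64, 65, 66, 67, 68, 69, 70, 71, 72, 73, 74, 75, 76, 77, 78, 79, 80, 81, 82, 83, 84, 85, 86, 87, 88, 89, 90, 91, 92, 93, 94, 95, 96, 97, 98, 99, 100, 101, 102, 103, 104]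

def aP0Mult : Fin 105 → ZMod 5 × ZMod 5 := ![(1, 0), (1, 0), (1, 0), (1, 0), (1, 0), (1, 0), (1, 0), (1, 0), (1, 0), (1, 0), (1, 0), (1, 0), (1, 0), (1, 0), (1, 0), (1, 0), (1, 0), (1, 0), (1, 0), (1, 0), (1, 0), (1, 0), (1, 0), (1, 0), (1, 0), (1, 0), (1, 0), (1, 0), (1, 0), (1, 0), (1, 0), (1, 0), (1, 0), (1, 0), (1, 0), (1, 0), (1, 0), (1, 0), (1, 0), (1, 0), (1, 0), (1, 0), (1, 0), (1, 0), (1, 0), (1, 0), (1, 0), (1, 0), (1, 0), (1, 0), (1, 0), (1, 0), (1, 0), (1, 0), (1, 0), (1, 0), (1, 0), (1, 0), (1, 0), (1, 0), (1, 0), (1, 0), (1, 0), (1, 0), (1, 0), (1, 0), (1, 0), (1, 0), (1, 0), (1, 0), (1, 0), (1, 0), (1, 0), (1, 0), (1, 0), (1, 0), (1, 0), (1, 0), (1, 0), (1, 0), (1, 0), (1, 0), (1, 0), (1, 0), (1, 0), (1, 0), (1, 0), (1, 0), (1, 0), (1, 0), (1, 0), (1, 0), (1, 0), (1, 0), (1, 0),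 (1, 0), (1, 0), (1, 0), (1, 0), (1, 0), (1, 0), (1, 0), (1, 0), (1, 0), (1, 0)]

def aP1Perm : Fin 105 → Fin 105 := ![5, 13, 2, 3, 35, 0, 6, 47, 53, 59, 43, 19, 73, 1, 16, 17, 14, 15, 41, 11, 23, 52, 89, 20, 87, 97, 56, 74, 29, 28, 46, 33, 37, 31, 36, 4, 34, 32, 38, 85, 40, 18, 81, 10, 48, 45, 30, 7, 44, 71, 70, 75, 21, 8, 55, 54, 26, 101, 91, 9, 61, 60, 63, 62, 79, 67, 68, 65, 66, 72, 50, 49, 69, 12, 27, 51, 102, 83, 95, 64, 104, 42, 82, 77, 84, 39, 86, 24, 96, 22, 92, 58, 90, 94, 93, 78, 88, 25, 99, 98, 103, 57, 76, 100, 80]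

def aP1Mult : Fin 105 → ZMod 5 × ZMod 5 := ![(4, 0), (4, 0), (1, 0), (4, 0), (4, 0), (4, 0), (4, 0), (4, 0), (4, 0), (4, 0), (4, 0), (4, 0), (4, 0), (4, 0), (4, 0), (4, 0), (4, 0), (4, 0), (4, 0), (4, 0), (4, 0), (3, 3), (2, 3), (4, 0), (4, 0), (4, 0), (4, 0), (4, 0), (4, 0), (4, 0), (4, 0), (4, 0), (4, 0), (4, 0), (4, 0), (4, 0), (4, 0), (4, 0), (4, 0), (4, 0), (4, 0), (4, 0), (4, 0), (4, 0), (4, 0), (4, 0), (4, 0), (4, 0), (4, 0), (4, 0), (4, 0), (4, 0), (3, 2), (4, 0), (4, 0), (4, 0), (4, 0), (4, 0), (4, 0), (4, 0), (4, 0), (4, 0), (4, 0), (4, 0), (4, 0), (4, 0), (4, 0), (4, 0), (4, 0), (4, 0), (4, 0), (4, 0), (4, 0), (4, 0), (4, 0), (4, 0), (4, 0), (4, 0), (4, 0), (4, 0), (4, 0), (4, 0), (4, 0), (4, 0), (4, 0), (4, 0), (4, 0), (4, 0), (4, 0), (2, 2), (4, 0), (4, 0), (4, 0), (4, 0), (4, 0),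 (4, 0), (4, 0), (4, 0), (4, 0), (4, 0), (4, 0), (4, 0), (4, 0), (4, 0), (4, 0)]

def aP2Perm : Fin 105 → Fin 105 := ![0, 14, 23, 29, 36, 6, 5, 30, 54, 21, 65, 71, 74, 15, 1, 13, 17, 16, 82, 63, 20, 9, 58, 2, 96, 69, 97, 51, 28, 3, 7, 53, 35, 55, 37, 32, 4, 34, 80, 88, 95, 41, 100, 66, 46, 45, 44, 48, 47, 62, 64, 27, 61, 31, 8, 33, 72, 86, 22, 60, 59, 52, 49, 19, 50, 10, 43, 68, 67, 25, 83, 11, 56, 75, 12, 73, 102, 79, 78, 77, 38, 98, 18, 70, 93, 87, 57, 85, 39, 90, 89, 92, 91, 84, 94, 40, 24, 26, 81, 103, 42, 101, 76, 99, 104]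

def aP2Mult : Fin 105 → ZMod 5 × ZMod 5 := ![(4, 0), (2, 4), (4, 0), (2, 0), (3, 0), (4, 0), (4, 0), (2, 2), (1, 4), (4, 0), (0, 3), (2, 1), (4, 1), (2, 2), (1, 3), (2, 3), (1, 2), (2, 1), (2, 0), (3, 2), (1, 0), (4, 0), (4, 0), (4, 0), (3, 4), (2, 2), (1, 1), (1, 4), (4, 0), (3, 0), (2, 3), (2, 3), (1, 0), (4, 4), (3, 0), (1, 0), (2, 0), (2, 0), (0, 4), (3, 1), (0, 1), (4, 0), (3, 2), (1, 0), (3, 2), (4, 0), (3, 3), (2, 3), (2, 2), (4, 2), (1, 3), (4, 4), (4, 0), (2, 2), (4, 4), (1, 4), (4, 1), (4, 0), (4, 0), (3, 3), (3, 2), (4, 0), (3, 1), (3, 3), (2, 4), (0, 1), (1, 0), (0, 4), (0, 2), (2, 3), (4, 3), (1, 2), (1, 1), (3, 3), (1, 1), (3, 2), (3, 3), (3, 2), (4, 0), (3, 3), (0, 2), (1, 1), (3, 0), (3, 4), (1, 0), (2, 2), (4, 0), (2, 3), (4, 2), (4, 0), (4, 0), (2, 3), (2, 2), (1, 0), (4, 0),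 (0, 3), (4, 3), (4, 1), (4, 1), (4, 4), (3, 3), (4, 0), (3, 2), (1, 4), (4, 0)]

def aP3Perm : Fin 105 → Fin 105 := ![6, 15, 23, 29, 32, 0, 5, 48, 31, 60, 66, 63, 75, 14, 17, 16, 1, 13, 41, 71, 2, 61, 90, 20, 85, 26, 72, 12, 3, 28, 44, 55, 34, 53, 4, 36, 37, 35, 80, 87, 95, 82, 98, 65, 47, 45, 7, 30, 46, 11, 83, 73, 9, 54, 33, 8, 97, 101, 92, 21, 52, 59, 19, 49, 77, 68, 67, 10, 43, 56, 64, 62, 25, 74, 51, 27, 76, 70, 40, 50, 104, 100, 18, 79, 93, 88, 57, 96, 24, 58, 91, 22, 89, 94, 84, 78, 39, 69, 103, 81, 99, 86, 102, 42, 38]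

def aP3Mult : Fin 105 → ZMod 5 × ZMod 5 := ![(1, 0), (3, 3), (4, 0), (3, 0), (4, 0), (1, 0), (1, 0), (3, 2), (3, 3), (2, 2), (4, 0), (2, 3), (2, 2), (3, 1), (4, 3), (3, 4), (4, 2), (3, 2), (1, 0), (3, 4), (1, 0), (2, 2), (3, 2), (4, 0), (3, 2), (1, 4), (1, 4), (4, 4), (2, 0), (1, 0), (2, 2), (1, 1), (3, 0), (3, 2), (3, 0), (2, 0), (2, 0), (4, 0), (0, 1), (3, 3), (0, 4), (3, 0), (4, 4), (0, 2), (3, 3), (1, 0), (3, 2), (3, 3), (2, 3), (4, 3), (1, 2), (2, 3), (2, 3), (4, 1), (4, 1), (1, 1), (4, 4), (1, 0), (3, 2), (1, 0), (1, 0), (2, 3), (2, 2), (2, 4), (2, 2), (0, 1), (0, 3), (0, 4), (4, 0), (4, 4), (4, 2), (1, 3), (3, 2), (1, 4), (4, 1), (1, 1), (2, 3), (2, 1), (0, 2), (3, 1), (1, 0), (2, 3), (2, 0), (2, 3), (4, 0), (2, 4), (1, 0), (2, 1), (1, 2), (3, 3), (3, 3), (1, 0), (1, 0), (1, 0), (4, 0),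 (1, 0), (1, 3), (3, 3), (1, 1), (1, 4), (4, 1), (1, 0), (2, 2), (2, 2), (0, 3)]

def aP4Perm : Fin 105 → Fin 105 := ![5, 16, 20, 28, 34, 6, 0, 46, 55, 52, 67, 49, 27, 17, 13, 1, 15, 14, 82, 62, 23, 59, 91, 2, 88, 72, 25, 75, 29, 3, 47, 8, 4, 54, 32, 37, 35, 36, 104, 96, 78, 18, 103, 68, 30, 45, 48, 44, 7, 63, 79, 74, 60, 33, 53, 31, 69, 86, 89, 61, 9, 21, 71, 11, 70, 43, 10, 66, 65, 97, 77, 19, 26, 51, 73, 12, 76, 64, 95, 83, 38, 99, 41, 50, 94, 24, 101, 39, 85, 92, 22, 90, 58, 84, 93, 40, 87, 56, 42, 100, 81, 57, 102, 98, 80]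

def aP4Mult : Fin 105 → ZMod 5 × ZMod 5 := ![(1, 0), (3, 1), (1, 0), (3, 0), (2, 0), (1, 0), (1, 0), (3, 3), (4, 1), (2, 2), (0, 2), (3, 4), (1, 4), (3, 3), (4, 2), (3, 2), (4, 3), (3, 4), (3, 0), (2, 3), (4, 0), (1, 0), (1, 0), (4, 0), (2, 1), (3, 3), (4, 4), (4, 1), (1, 0), (2, 0), (3, 2), (3, 2), (4, 0), (1, 1), (2, 0), (4, 0), (3, 0), (3, 0), (0, 1), (2, 4), (0, 4), (1, 0), (2, 3), (4, 0), (2, 3), (1, 0), (2, 2), (3, 2), (3, 3), (1, 3), (4, 2), (1, 1), (1, 0), (3, 3), (1, 1), (4, 1), (1, 4), (1, 0), (3, 2), (2, 2), (2, 3), (2, 3), (2, 4), (2, 2), (3, 1), (0, 4), (4, 0), (0, 1), (0, 3), (3, 2), (1, 2), (4, 3), (4, 4), (2, 2), (4, 4), (2, 3), (2, 2), (2, 3), (1, 0), (2, 2), (0, 3), (4, 4), (2, 0), (2, 1), (4, 0), (3, 3), (1, 0), (3, 2), (1, 3), (1, 0), (3, 3), (3, 2), (3, 3), (4, 0), (1, 0),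 (0, 2), (1, 2), (1, 4), (1, 4), (1, 1), (2, 2), (1, 0), (2, 3), (4, 1), (1, 0)]

def aP5Perm : Fin 105 → Fin 105 := ![6, 17, 20, 28, 37, 5, 0, 44, 33, 61, 68, 62, 51, 16, 15, 14, 13, 1, 18, 49, 2, 60, 92, 23, 39, 56, 69, 73, 3, 29, 48, 54, 36, 8, 35, 34, 32, 4, 104, 24, 78, 82, 99, 67, 7, 45, 47, 46, 30, 19, 77, 12, 59, 55, 31, 53, 25, 57, 90, 52, 21, 9, 11, 71, 83, 66, 65, 43, 10, 26, 79, 63, 97, 27, 75, 74, 102, 50, 40, 70, 80, 103, 41, 64, 94, 96, 101, 88, 87, 91, 58, 89, 22, 93, 84, 95, 85, 72, 100, 42, 98, 86, 76, 81, 38]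

def aP5Mult : Fin 105 → ZMod 5 × ZMod 5 := ![(4, 0), (2, 2), (1, 0), (2, 0), (1, 0), (4, 0), (4, 0), (2, 3), (2, 2), (3, 3), (1, 0), (3, 2), (3, 3), (2, 4), (1, 2), (2, 1), (1, 3), (2, 3), (4, 0), (2, 1), (1, 0), (3, 3), (2, 3), (1, 0), (2, 3), (4, 1), (4, 1), (1, 1), (3, 0), (4, 0), (3, 3), (4, 4), (2, 0), (2, 3), (2, 0), (3, 0), (3, 0), (1, 0), (0, 4), (2, 2), (0, 1), (2, 0), (1, 1), (0, 3), (2, 2), (4, 0), (2, 3), (2, 2), (3, 2), (1, 2), (4, 3), (3, 2), (3, 2), (1, 4), (1, 4), (4, 4), (1, 1), (4, 0), (2, 3), (3, 3), (3, 2), (3, 2), (3, 3), (3, 1), (3, 3), (0, 4), (0, 2), (0, 1), (1, 0), (1, 1), (1, 3), (4, 2), (2, 3), (4, 1), (1, 4), (4, 4), (3, 2), (3, 4), (0, 3), (2, 4), (4, 0), (3, 2), (3, 0), (3, 2), (1, 0), (3, 1), (4, 0), (3, 4), (4, 3), (2, 2), (2, 2), (2, 3), (2, 2), (4, 0), (1, 0),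 (4, 0), (4, 2), (2, 2), (4, 4), (4, 1), (1, 4), (4, 0), (3, 3), (3, 3), (0, 2)]

def aW : Fin 3 → Fin 3 → ZMod 5 × ZMod 5 := ![![(1, 0), (0, 0), (0, 0)], ![(0, 0), (1, 1), (0, 2)], ![(0, 0), (0, 2), (1, 4)]]

def aMove : Fin 105 := 0

/-- Rational generators. -/
def ratA : Fin 3 → Fin 3 → ZMod 5 := ![![1, 1, 2], ![1, 2, 1], ![2, 1, 1]]

def ratB : Fin 3 → Fin 3 → ZMod 5 := ![![1, 3, 4], ![1, 4, 3], ![3, 1, 1]]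

/-- The vectors of norm one, in order of discovery. -/
def unitVec : Fin 30 → Fin 3 → ZMod 5 := ![![1, 0, 0], ![1, 1, 2], ![1, 1, 3], ![2, 1, 1], ![3, 1, 1], ![1, 4, 2], ![0, 0, 1], ![4, 4, 3], ![4, 1, 3], ![1, 3, 4], ![4, 3, 1], ![4, 0, 0], ![3, 4, 4], ![4, 2, 1], ![2, 1, 4], ![4, 1, 2], ![2, 4, 1], ![4, 4, 2], ![0, 0, 4], ![3, 4, 1], ![1, 3, 1], ![0, 4, 0], ![3, 1, 4], ![2, 4, 4], ![1, 2, 4], ![4, 2, 4], ![4, 3, 4], ![1, 4, 3], ![0, 1, 0], ![1, 2, 1]]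

def parent : Fin 30 → Fin 30 := ![0, 0, 0, 1, 2, 2, 3, 3, 5, 5, 6, 7, 7, 8, 9, 10, 10, 11, 12, 13, 14, 15, 16, 17, 18, 19, 21, 24, 27, 28]

def viaB : Fin 30 → Bool := ![false, false, true, true, false, true, false, true, false, true, true, false, true, true, false, false, true, true, false, false, true, true, false, false, true, true, false, false, true, false]

end CfsgLib.Techniques.AschPrimeU.ThreeFive
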