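/-
A subgroup of type 3.M10 in the special unitary group of degree three over 25 elements: matrices, an orbit of lines and the induced permutations, with field elements coded as pairs.
-/
import Mathlib.Data.ZMod.Defs
import Mathlib.Data.Fin.VecNotation

set_option autoImplicit false

namespace CfsgLib.Techniques.AschPrimeU.ThreeFive

def mX : Fin 3 → Fin 3 → ZMod 5 × ZMod 5 := ![![(1, 0), (0, 0), (0, 0)], ![(0, 0), (2, 2), (0, 0)], ![(0, 0), (0, 0), (2, 3)]]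

def mY : Fin 3 → Fin 3 → ZMod 5 × ZMod 5 := ![![(0, 0), (0, 0), (1, 0)], ![(1, 0), (0, 0), (0, 0)], ![(0, 0), (1, 0), (0, 0)]]

def mU : Fin 3 → Fin 3 → ZMod 5 × ZMod 5 := ![![(2, 3), (1, 0), (1, 1)], ![(3, 0), (3, 3), (2, 3)], ![(3, 3), (1, 4), (1, 0)]]

def mG01 : Fin 3 → Fin 3 → ZMod 5 × ZMod 5 := ![![(0, 3), (0, 3), (0, 3)], ![(3, 1), (2, 1), (0, 3)], ![(2, 1), (3, 1), (0, 3)]]

def mG02 : Fin 3 → Fin 3 → ZMod 5 × ZMod 5 := ![![(2, 4), (0, 2), (3, 4)], ![(3, 4), (0, 2), (2, 4)], ![(0, 2), (0, 2), (0, 2)]]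

def mG10 : Fin 3 → Fin 3 → ZMod 5 × ZMod 5 := ![![(1, 0), (0, 0), (0, 0)], ![(0, 0), (1, 0), (0, 0)], ![(0, 0), (0, 0), (1, 0)]]

def mG11 : Fin 3 → Fin 3 → ZMod 5 × ZMod 5 := ![![(0, 3), (3, 1), (0, 3)], ![(2, 1), (3, 1), (3, 1)], ![(0, 3), (0, 3), (3, 1)]]

def mG12 : Fin 3 → Fin 3 → ZMod 5 × ZMod 5 := ![![(3, 4), (3, 4), (2, 4)], ![(3, 4), (2, 4), (3, 4)], ![(0, 2), (2, 4), (2, 4)]]

def mG20 : Fin 3 → Fin 3 → ZMod 5 × ZMod 5 := ![![(3, 3), (0, 0), (0, 0)], ![(0, 0), (0, 0), (3, 3)], ![(0, 0), (3, 3), (0, 0)]]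

def mG21 : Fin 3 → Fin 3 → ZMod 5 × ZMod 5 := ![![(0, 3), (3, 1), (3, 1)], ![(2, 1), (3, 1), (2, 1)], ![(2, 1), (2, 1), (3, 1)]]

def mG22 : Fin 3 → Fin 3 → ZMod 5 × ZMod 5 := ![![(3, 4), (2, 4), (2, 4)], ![(3, 4), (0, 2), (3, 4)], ![(2, 4), (2, 4), (3, 4)]]

def mK01 : Fin 3 := 2

def mK02 : Fin 3 := 1

def mK10 : Fin 3 := 0

def mK11 : Fin 3 := 0

def mK12 : Fin 3 := 0

def mK20 : Fin 3 := 0

def mK21 : Fin 3 := 2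

def mK22 : Fin 3 := 0

/-- The lines. -/
def mPts : Fin 36 → Fin 3 → ZMod 5 × ZMod 5 :=
  ![![(1, 0), (1, 0), (0, 1)], ![(1, 0), (2, 2), (1, 2)], ![(1, 0), (0, 3), (0, 3)], ![(1, 0), (0, 4), (2, 3)],
    ![(1, 0), (3, 4), (3, 4)], ![(1, 0), (2, 2), (1, 3)], ![(1, 0), (2, 3), (4, 2)], ![(1, 0), (2, 4), (0, 2)],
    ![(1, 0), (0, 1), (1, 0)], ![(1, 0), (2, 3), (0, 4)], ![(1, 0), (2, 1), (3, 1)], ![(1, 0), (4, 3), (1, 0)],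
    ![(1, 0), (1, 2), (2, 2)], ![(1, 0), (4, 2), (2, 3)], ![(1, 0), (0, 2), (2, 4)], ![(1, 0), (1, 0), (4, 3)],
    ![(1, 0), (1, 3), (2, 2)], ![(1, 0), (2, 1), (0, 3)], ![(1, 0), (3, 1), (3, 1)], ![(1, 0), (3, 1), (2, 1)],
    ![(1, 0), (2, 3), (1, 2)], ![(1, 0), (0, 3), (2, 1)], ![(1, 0), (2, 2), (4, 3)], ![(1, 0), (3, 4), (2, 4)],
    ![(1, 0), (1, 3), (2, 3)], ![(1, 0), (1, 0), (0, 4)], ![(1, 0), (4, 2), (1, 0)], ![(1, 0), (0, 1), (2, 2)],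
    ![(1, 0), (0, 2), (0, 2)], ![(1, 0), (2, 3), (1, 3)], ![(1, 0), (2, 4), (3, 4)], ![(1, 0), (2, 2), (0, 1)],
    ![(1, 0), (4, 3), (2, 2)], ![(1, 0), (1, 0), (4, 2)], ![(1, 0), (0, 4), (1, 0)], ![(1, 0), (1, 2), (2, 3)]]

def mXPerm : Fin 36 → Fin 36 := ![1, 6, 10, 16, 7, 9, 0, 14, 13, 15, 19, 3, 8, 12, 4, 5, 11, 18, 21, 2, 33, 17, 29, 30, 32, 22, 35, 26, 23, 25, 28, 20, 34, 31, 24, 27]

def mXMult : Fin 36 → ZMod 5 × ZMod 5 := ![(1, 0), (1, 0), (1, 0), (1, 0), (1, 0), (1, 0), (1, 0), (1, 0), (1, 0), (1, 0), (1, 0), (1, 0), (1, 0), (1, 0), (1, 0), (1, 0), (1, 0), (1, 0), (1, 0), (1, 0), (1, 0), (1, 0), (1, 0), (1, 0), (1, 0), (1, 0), (1, 0), (1, 0), (1, 0), (1, 0), (1, 0), (1, 0), (1, 0), (1, 0), (1, 0), (1, 0)]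

def mYPerm : Fin 36 → Fin 36 := ![2, 10, 8, 5, 11, 7, 19, 3, 0, 14, 13, 15, 6, 1, 16, 4, 9, 27, 26, 12, 17, 35, 23, 24, 22, 28, 33, 20, 34, 30, 32, 21, 29, 18, 25, 31]

def mYMult : Fin 36 → ZMod 5 × ZMod 5 := ![(0, 1), (1, 2), (0, 3), (2, 3), (3, 4), (1, 3), (4, 2), (0, 2), (1, 0), (0, 4), (3, 1), (1, 0), (2, 2), (2, 3), (2, 4), (4, 3), (2, 2), (0, 3), (3, 1), (2, 1), (1, 2), (2, 1), (4, 3), (2, 4), (2, 3), (0, 4), (1, 0), (2, 2), (0, 2), (1, 3), (3, 4), (0, 1), (2, 2), (4, 2), (1, 0), (2, 3)]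

def mUPerm : Fin 36 → Fin 36 := ![3, 5, 12, 17, 18, 20, 21, 9, 22, 23, 24, 11, 25, 0, 19, 26, 2, 28, 33, 32, 10, 14, 35, 34, 1, 31, 4, 30, 13, 7, 8, 16, 6, 15, 29, 27]

def mUMult : Fin 36 → ZMod 5 × ZMod 5 := ![(0, 4), (4, 3), (3, 4), (0, 2), (1, 4), (1, 4), (2, 2), (3, 4), (3, 0), (2, 0), (4, 3), (2, 2), (4, 4), (4, 0), (2, 1), (3, 0), (4, 0), (0, 2), (0, 3), (4, 2), (4, 4), (1, 4), (4, 2), (0, 3), (1, 1), (1, 2), (2, 1), (3, 3), (1, 2), (1, 0), (0, 4), (1, 1), (2, 0), (1, 4), (3, 3), (1, 0)]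

def mG01Perm : Fin 36 → Fin 36 := ![4, 11, 14, 13, 19, 8, 15, 12, 7, 0, 16, 10, 5, 3, 6, 2, 1, 29, 30, 9, 25, 32, 26, 27, 35, 18, 23, 22, 17, 33, 20, 34, 31, 28, 21, 24]

def mG01Mult : Fin 36 → ZMod 5 × ZMod 5 := ![(1, 1), (4, 2), (1, 3), (2, 4), (3, 1), (0, 2), (0, 1), (1, 4), (1, 1), (2, 4), (2, 3), (3, 3), (4, 2), (0, 1), (1, 4), (3, 3), (0, 2), (4, 4), (2, 1), (2, 3), (0, 2), (4, 4), (0, 1), (3, 3), (1, 2), (4, 1), (2, 3), (3, 4), (4, 3), (1, 2), (3, 3), (3, 4), (0, 1), (2, 3), (4, 1), (0, 2)]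

def mG02Perm : Fin 36 → Fin 36 := ![5, 3, 9, 8, 6, 13, 7, 12, 15, 10, 16, 0, 4, 11, 19, 1, 2, 30, 29, 14, 23, 32, 35, 27, 26, 31, 25, 28, 20, 21, 17, 24, 18, 22, 33, 34]

def mG02Mult : Fin 36 → ZMod 5 × ZMod 5 := ![(0, 4), (4, 3), (3, 3), (3, 1), (4, 4), (2, 1), (2, 0), (4, 4), (4, 3), (1, 0), (3, 3), (2, 1), (2, 0), (0, 4), (3, 4), (3, 1), (1, 0), (0, 2), (3, 0), (0, 1), (3, 3), (3, 0), (1, 3), (1, 0), (4, 3), (4, 3), (3, 1), (3, 3), (1, 0), (1, 1), (4, 2), (3, 1), (1, 1), (0, 3), (1, 3), (0, 3)]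

def mG10Perm : Fin 36 → Fin 36 := ![0, 1, 2, 3, 4, 5, 6, 7, 8, 9, 10, 11, 12, 13, 14, 15, 16, 17, 18, 19, 20, 21, 22, 23, 24, 25, 26, 27, 28, 29, 30, 31, 32, 33, 34, 35]

def mG10Mult : Fin 36 → ZMod 5 × ZMod 5 := ![(1, 0), (1, 0), (1, 0), (1, 0), (1, 0), (1, 0), (1, 0), (1, 0), (1, 0), (1, 0), (1, 0), (1, 0), (1, 0), (1, 0), (1, 0), (1, 0), (1, 0), (1, 0), (1, 0), (1, 0), (1, 0), (1, 0), (1, 0), (1, 0), (1, 0), (1, 0), (1, 0), (1, 0), (1, 0), (1, 0), (1, 0), (1, 0), (1, 0), (1, 0), (1, 0), (1, 0)]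

def mG11Perm : Fin 36 → Fin 36 := ![6, 2, 8, 16, 11, 4, 13, 5, 10, 3, 1, 7, 0, 12, 14, 9, 15, 30, 34, 19, 24, 22, 18, 31, 27, 20, 23, 25, 26, 35, 17, 28, 33, 29, 21, 32]

def mG11Mult : Fin 36 → ZMod 5 × ZMod 5 := ![(4, 4), (2, 4), (4, 2), (1, 1), (1, 2), (3, 4), (4, 1), (1, 2), (2, 4), (1, 4), (4, 2), (3, 4), (4, 1), (4, 4), (3, 0), (1, 1), (1, 4), (1, 3), (2, 3), (2, 0), (4, 2), (2, 3), (3, 3), (1, 4), (2, 4), (2, 4), (1, 1), (4, 2), (1, 4), (0, 2), (3, 1), (1, 1), (0, 2), (0, 1), (3, 3), (0, 1)]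

def mG12Perm : Fin 36 → Fin 36 := ![7, 9, 15, 2, 0, 6, 11, 13, 16, 8, 3, 12, 5, 4, 19, 10, 1, 17, 33, 14, 26, 35, 29, 24, 28, 23, 27, 31, 25, 34, 30, 20, 22, 21, 32, 18]

def mG12Mult : Fin 36 → ZMod 5 × ZMod 5 := ![(4, 0), (3, 1), (1, 4), (3, 0), (2, 3), (1, 3), (2, 1), (2, 3), (3, 1), (0, 4), (1, 4), (1, 3), (2, 1), (4, 0), (0, 1), (3, 0), (0, 4), (1, 1), (4, 3), (2, 4), (1, 4), (4, 3), (2, 0), (0, 4), (3, 1), (3, 1), (3, 0), (1, 4), (0, 4), (4, 1), (4, 4), (3, 0), (4, 1), (0, 3), (2, 0), (0, 3)]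

def mG20Perm : Fin 36 → Fin 36 := ![8, 12, 2, 9, 4, 16, 13, 14, 0, 3, 19, 15, 1, 6, 7, 11, 5, 21, 18, 10, 35, 17, 32, 30, 29, 34, 33, 31, 28, 24, 23, 27, 22, 26, 25, 20]

def mG20Mult : Fin 36 → ZMod 5 × ZMod 5 := ![(3, 3), (3, 3), (3, 3), (3, 3), (3, 3), (3, 3), (3, 3), (3, 3), (3, 3), (3, 3), (3, 3), (3, 3), (3, 3), (3, 3), (3, 3), (3, 3), (3, 3), (3, 3), (3, 3), (3, 3), (3, 3), (3, 3), (3, 3), (3, 3), (3, 3), (3, 3), (3, 3), (3, 3), (3, 3), (3, 3), (3, 3), (3, 3), (3, 3), (3, 3), (3, 3), (3, 3)]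

def mG21Perm : Fin 36 → Fin 36 := ![9, 7, 4, 0, 2, 10, 11, 12, 3, 8, 16, 13, 14, 15, 1, 6, 19, 31, 18, 5, 26, 27, 23, 32, 25, 29, 35, 17, 28, 34, 22, 21, 30, 20, 24, 33]

def mG21Mult : Fin 36 → ZMod 5 × ZMod 5 := ![(0, 2), (2, 3), (2, 1), (0, 1), (4, 3), (4, 1), (3, 4), (3, 3), (0, 2), (0, 1), (4, 4), (1, 2), (2, 3), (3, 4), (3, 3), (1, 2), (4, 1), (4, 2), (2, 0), (4, 4), (4, 1), (4, 2), (3, 4), (1, 2), (1, 4), (1, 1), (4, 4), (2, 4), (3, 0), (1, 4), (1, 2), (2, 4), (3, 4), (4, 4), (1, 1), (4, 1)]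

def mG22Perm : Fin 36 → Fin 36 := ![6, 13, 10, 14, 7, 3, 2, 15, 8, 4, 0, 11, 1, 19, 16, 9, 5, 32, 23, 12, 28, 25, 35, 33, 17, 20, 34, 22, 21, 18, 27, 24, 31, 29, 26, 30]

def mG22Mult : Fin 36 → ZMod 5 × ZMod 5 := ![(3, 0), (1, 4), (1, 1), (3, 1), (4, 4), (4, 1), (0, 3), (0, 4), (3, 0), (3, 1), (4, 3), (2, 0), (1, 4), (0, 3), (0, 4), (2, 0), (4, 1), (4, 0), (1, 2), (4, 3), (4, 1), (4, 0), (0, 3), (2, 0), (2, 3), (2, 1), (4, 3), (1, 3), (0, 2), (2, 3), (2, 0), (1, 3), (0, 3), (4, 3), (2, 1), (4, 1)]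

def mW : Fin 3 → Fin 3 → ZMod 5 × ZMod 5 := ![![(1, 0), (0, 0), (0, 0)], ![(0, 0), (1, 1), (0, 2)], ![(0, 0), (0, 2), (1, 4)]]

def mMove : Fin 36 := 0

end CfsgLib.Techniques.AschPrimeU.ThreeFive
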