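/-
A subgroup of type L2(7) in the special unitary group of degree three over nine elements: matrices, an orbit of lines and the induced permutations, with field elements coded as pairs.
-/
import Mathlib.Data.ZMod.Defs
import Mathlib.Data.Fin.VecNotation

set_option autoImplicit false

namespace CfsgLib.Techniques.AschPrimeU.ThreeThree

def bT : Fin 3 → Fin 3 → ZMod 3 × ZMod 3 := ![![(0, 2), (2, 0), (1, 1)], ![(1, 0), (1, 2), (0, 1)], ![(1, 1), (0, 2), (0, 1)]]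

def bS : Fin 3 → Fin 3 → ZMod 3 × ZMod 3 := ![![(2, 1), (2, 0), (0, 1)], ![(0, 2), (0, 2), (2, 1)], ![(0, 1), (1, 1), (1, 0)]]

def bU : Fin 3 → Fin 3 → ZMod 3 × ZMod 3 := ![![(1, 0), (2, 2), (1, 0)], ![(2, 1), (0, 0), (1, 2)], ![(1, 0), (1, 1), (1, 0)]]

def bTPow : Fin 7 → Fin 3 → Fin 3 → ZMod 3 × ZMod 3 :=
  ![![![(1, 0), (0, 0), (0, 0)], ![(0, 0), (1, 0), (0, 0)], ![(0, 0), (0, 0), (1, 0)]],
    ![![(0, 2), (2, 0), (1, 1)], ![(1, 0), (1, 2), (0, 1)], ![(1, 1), (0, 2), (0, 1)]],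
    ![![(1, 2), (0, 1), (0, 2)], ![(0, 2), (0, 1), (1, 2)], ![(0, 2), (2, 1), (0, 2)]],
    ![![(0, 2), (2, 2), (2, 0)], ![(1, 1), (0, 1), (1, 0)], ![(2, 0), (2, 0), (1, 1)]],
    ![![(0, 1), (1, 2), (2, 0)], ![(2, 1), (0, 2), (2, 0)], ![(2, 0), (1, 0), (1, 2)]],
    ![![(1, 1), (0, 1), (0, 1)], ![(0, 2), (0, 2), (2, 2)], ![(0, 1), (1, 1), (0, 1)]],
    ![![(0, 1), (1, 0), (1, 2)], ![(2, 0), (1, 1), (0, 1)], ![(1, 2), (0, 2), (0, 2)]]]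

/-- The lines. -/
def bPts : Fin 21 → Fin 3 → ZMod 3 × ZMod 3 :=
  ![![(0, 0), (1, 0), (0, 1)], ![(1, 0), (1, 1), (2, 0)], ![(1, 0), (2, 1), (1, 2)], ![(1, 0), (2, 2), (2, 1)],
    ![(1, 0), (0, 2), (2, 2)], ![(1, 0), (1, 1), (1, 1)], ![(1, 0), (2, 2), (2, 0)], ![(1, 0), (0, 1), (0, 0)],
    ![(1, 0), (0, 2), (1, 2)], ![(1, 0), (0, 2), (2, 1)], ![(1, 0), (1, 0), (2, 2)], ![(1, 0), (1, 2), (0, 2)],
    ![(1, 0), (1, 2), (2, 2)], ![(1, 0), (1, 1), (1, 2)], ![(1, 0), (2, 0), (2, 1)], ![(1, 0), (1, 2), (2, 0)],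
    ![(1, 0), (2, 1), (1, 1)], ![(1, 0), (0, 2), (1, 1)], ![(1, 0), (2, 2), (0, 1)], ![(1, 0), (2, 1), (2, 0)],
    ![(1, 0), (0, 0), (1, 0)]]

def bTPerm : Fin 21 → Fin 21 := ![1, 4, 7, 2, 11, 12, 15, 5, 14, 19, 17, 18, 6, 10, 16, 3, 20, 8, 9, 0, 13]

def bTMult : Fin 21 → ZMod 3 × ZMod 3 := ![(1, 1), (1, 0), (0, 1), (2, 0), (0, 1), (2, 0), (0, 2), (0, 1), (2, 0), (1, 0), (2, 0), (0, 2), (2, 1), (1, 1), (2, 2), (1, 2), (1, 0), (0, 2), (0, 1), (1, 1), (1, 0)]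

def bSPerm : Fin 21 → Fin 21 := ![2, 5, 8, 10, 6, 13, 14, 16, 0, 12, 11, 3, 17, 1, 4, 20, 18, 9, 7, 15, 19]

def bSMult : Fin 21 → ZMod 3 × ZMod 3 := ![(1, 0), (1, 2), (1, 1), (2, 1), (0, 1), (0, 1), (0, 1), (2, 0), (2, 1), (1, 1), (2, 0), (2, 2), (2, 1), (2, 1), (2, 0), (1, 1), (2, 1), (1, 0), (2, 2), (0, 2), (2, 2)]

def bUPerm : Fin 21 → Fin 21 := ![3, 6, 9, 0, 4, 14, 1, 17, 18, 2, 16, 12, 11, 13, 5, 15, 10, 7, 8, 19, 20]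

def bUMult : Fin 21 → ZMod 3 × ZMod 3 := ![(2, 0), (0, 1), (1, 2), (2, 0), (2, 0), (2, 2), (0, 2), (2, 2), (1, 0), (2, 2), (2, 1), (2, 2), (1, 2), (2, 0), (1, 2), (1, 0), (1, 1), (1, 2), (1, 0), (2, 0), (2, 0)]

def bW : Fin 3 → Fin 3 → ZMod 3 × ZMod 3 := ![![(1, 0), (0, 0), (0, 0)], ![(0, 0), (1, 1), (1, 1)], ![(0, 0), (2, 1), (1, 2)]]

def bMove : Fin 21 := 0

end CfsgLib.Techniques.AschPrimeU.ThreeThree
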