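/-
Checks on the subgroups of type 3.A7, 3.M10 and L2(7).
-/
import Cfsg.Agent.Lib.Techniques.AschPrimeU.QuadCode
import Cfsg.Agent.Lib.Techniques.AschPrimeU.ThreeFiveData
import Cfsg.Agent.Lib.Techniques.AschPrimeU.ThreeFiveDataM
import Cfsg.Agent.Lib.Techniques.AschPrimeU.ThreeThreeData

set_option autoImplicit false
set_option maxRecDepth 8000

namespace CfsgLib.Techniques.AschPrimeU

open QuadCode

theorem ThreeFive.aT_su : IsSUCode 2 ThreeFive.aT := by decide +kernel

theorem ThreeFive.aT_perm : PermCode 2 ThreeFive.aPts ThreeFive.aT ThreeFive.aTPerm ThreeFive.aTMult := by decide +kernel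

theorem ThreeFive.aS_su : IsSUCode 2 ThreeFive.aS := by decide +kernel

theorem ThreeFive.aS_perm : PermCode 2 ThreeFive.aPts ThreeFive.aS ThreeFive.aSPerm ThreeFive.aSMult := by decide +kernel

theorem ThreeFive.aU_su : IsSUCode 2 ThreeFive.aU := by decide +kernel

theorem ThreeFive.aU_perm : PermCode 2 ThreeFive.aPts ThreeFive.aU ThreeFive.aUPerm ThreeFive.aUMult := by decide +kernel

theorem ThreeFive.aD0_su : IsSUCode 2 ThreeFive.aD0 := by decide +kernel

theorem ThreeFive.aD0_perm : PermCode 2 ThreeFive.aPts ThreeFive.aD0 ThreeFive.aD0Perm ThreeFive.aD0Mult := by decide +kernel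

theorem ThreeFive.aD1_su : IsSUCode 2 ThreeFive.aD1 := by decide +kernel

theorem ThreeFive.aD1_perm : PermCode 2 ThreeFive.aPts ThreeFive.aD1 ThreeFive.aD1Perm ThreeFive.aD1Mult := by decide +kernel

theorem ThreeFive.aA_su : IsSUCode 2 ThreeFive.aA := by decide +kernel

theorem ThreeFive.aA_perm : PermCode 2 ThreeFive.aPts ThreeFive.aA ThreeFive.aAPerm ThreeFive.aAMult := by decide +kernel

theorem ThreeFive.aB_su : IsSUCode 2 ThreeFive.aB := by decide +kernel

theorem ThreeFive.aB_perm : PermCode 2 ThreeFive.aPts ThreeFive.aB ThreeFive.aBPerm ThreeFive.aBMult := by decide +kernel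

theorem ThreeFive.aP0_su : IsSUCode 2 ThreeFive.aP0 := by decide +kernel

theorem ThreeFive.aP0_perm : PermCode 2 ThreeFive.aPts ThreeFive.aP0 ThreeFive.aP0Perm ThreeFive.aP0Mult := by decide +kernel

theorem ThreeFive.aP1_su : IsSUCode 2 ThreeFive.aP1 := by decide +kernel

theorem ThreeFive.aP1_perm : PermCode 2 ThreeFive.aPts ThreeFive.aP1 ThreeFive.aP1Perm ThreeFive.aP1Mult := by decide +kernel

theorem ThreeFive.aP2_su : IsSUCode 2 ThreeFive.aP2 := by decide +kernel

theorem ThreeFive.aP2_perm : PermCode 2 ThreeFive.aPts ThreeFive.aP2 ThreeFive.aP2Perm ThreeFive.aP2Mult := by decide +kernel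

theorem ThreeFive.aP3_su : IsSUCode 2 ThreeFive.aP3 := by decide +kernel

theorem ThreeFive.aP3_perm : PermCode 2 ThreeFive.aPts ThreeFive.aP3 ThreeFive.aP3Perm ThreeFive.aP3Mult := by decide +kernel

theorem ThreeFive.aP4_su : IsSUCode 2 ThreeFive.aP4 := by decide +kernel

theorem ThreeFive.aP4_perm : PermCode 2 ThreeFive.aPts ThreeFive.aP4 ThreeFive.aP4Perm ThreeFive.aP4Mult := by decide +kernel

theorem ThreeFive.aP5_su : IsSUCode 2 ThreeFive.aP5 := by decide +kernel

theorem ThreeFive.aP5_perm : PermCode 2 ThreeFive.aPts ThreeFive.aP5 ThreeFive.aP5Perm ThreeFive.aP5Mult := by decide +kernel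

theorem ThreeFive.mX_su : IsSUCode 2 ThreeFive.mX := by decide +kernel

theorem ThreeFive.mX_perm : PermCode 2 ThreeFive.mPts ThreeFive.mX ThreeFive.mXPerm ThreeFive.mXMult := by decide +kernel

theorem ThreeFive.mY_su : IsSUCode 2 ThreeFive.mY := by decide +kernel

theorem ThreeFive.mY_perm : PermCode 2 ThreeFive.mPts ThreeFive.mY ThreeFive.mYPerm ThreeFive.mYMult := by decide +kernel

theorem ThreeFive.mU_su : IsSUCode 2 ThreeFive.mU := by decide +kernel

theorem ThreeFive.mU_perm : PermCode 2 ThreeFive.mPts ThreeFive.mU ThreeFive.mUPerm ThreeFive.mUMult := by decide +kernel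

theorem ThreeFive.mG01_su : IsSUCode 2 ThreeFive.mG01 := by decide +kernel

theorem ThreeFive.mG01_perm : PermCode 2 ThreeFive.mPts ThreeFive.mG01 ThreeFive.mG01Perm ThreeFive.mG01Mult := by decide +kernel

theorem ThreeFive.mG02_su : IsSUCode 2 ThreeFive.mG02 := by decide +kernel

theorem ThreeFive.mG02_perm : PermCode 2 ThreeFive.mPts ThreeFive.mG02 ThreeFive.mG02Perm ThreeFive.mG02Mult := by decide +kernel

theorem ThreeFive.mG10_su : IsSUCode 2 ThreeFive.mG10 := by decide +kernel

theorem ThreeFive.mG10_perm : PermCode 2 ThreeFive.mPts ThreeFive.mG10 ThreeFive.mG10Perm ThreeFive.mG10Mult := by decide +kernel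

theorem ThreeFive.mG11_su : IsSUCode 2 ThreeFive.mG11 := by decide +kernel

theorem ThreeFive.mG11_perm : PermCode 2 ThreeFive.mPts ThreeFive.mG11 ThreeFive.mG11Perm ThreeFive.mG11Mult := by decide +kernel

theorem ThreeFive.mG12_su : IsSUCode 2 ThreeFive.mG12 := by decide +kernel

theorem ThreeFive.mG12_perm : PermCode 2 ThreeFive.mPts ThreeFive.mG12 ThreeFive.mG12Perm ThreeFive.mG12Mult := by decide +kernel

theorem ThreeFive.mG20_su : IsSUCode 2 ThreeFive.mG20 := by decide +kernel

theorem ThreeFive.mG20_perm : PermCode 2 ThreeFive.mPts ThreeFive.mG20 ThreeFive.mG20Perm ThreeFive.mG20Mult := by decide +kernel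

theorem ThreeFive.mG21_su : IsSUCode 2 ThreeFive.mG21 := by decide +kernel

theorem ThreeFive.mG21_perm : PermCode 2 ThreeFive.mPts ThreeFive.mG21 ThreeFive.mG21Perm ThreeFive.mG21Mult := by decide +kernel

theorem ThreeFive.mG22_su : IsSUCode 2 ThreeFive.mG22 := by decide +kernel

theorem ThreeFive.mG22_perm : PermCode 2 ThreeFive.mPts ThreeFive.mG22 ThreeFive.mG22Perm ThreeFive.mG22Mult := by decide +kernel

theorem ThreeThree.bT_su : IsSUCode 2 ThreeThree.bT := by decide +kernel

theorem ThreeThree.bT_perm : PermCode 2 ThreeThree.bPts ThreeThree.bT ThreeThree.bTPerm ThreeThree.bTMult := by decide +kernel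

theorem ThreeThree.bS_su : IsSUCode 2 ThreeThree.bS := by decide +kernel

theorem ThreeThree.bS_perm : PermCode 2 ThreeThree.bPts ThreeThree.bS ThreeThree.bSPerm ThreeThree.bSMult := by decide +kernel

theorem ThreeThree.bU_su : IsSUCode 2 ThreeThree.bU := by decide +kernel

theorem ThreeThree.bU_perm : PermCode 2 ThreeThree.bPts ThreeThree.bU ThreeThree.bUPerm ThreeThree.bUMult := by decide +kernel

theorem ThreeFive.aW_su : IsSUCode 2 ThreeFive.aW := by decide +kernel

theorem ThreeFive.aW_move : MoveCode 2 ThreeFive.aPts ThreeFive.aW ThreeFive.aMove := by decide +kernel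

theorem ThreeFive.mW_su : IsSUCode 2 ThreeFive.mW := by decide +kernel

theorem ThreeFive.mW_move : MoveCode 2 ThreeFive.mPts ThreeFive.mW ThreeFive.mMove := by decide +kernel

theorem ThreeThree.bW_su : IsSUCode 2 ThreeThree.bW := by decide +kernel

theorem ThreeThree.bW_move : MoveCode 2 ThreeThree.bPts ThreeThree.bW ThreeThree.bMove := by decide +kernel

theorem ThreeFive.aT_pow : (∀ i j, ThreeFive.aTPow 0 i j = one3 i j) ∧
    ∀ k : Fin 7, ∀ i j, mulM 2 (ThreeFive.aTPow k) ThreeFive.aT i j = ThreeFive.aTPow (k + 1) i j := by decide +kernel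

theorem ThreeFive.aS_twist : ∀ i j, mulM 2 ThreeFive.aS ThreeFive.aT i j = mulM 2 (ThreeFive.aTPow 4) ThreeFive.aS i j := by decide +kernel

theorem ThreeFive.aU_twist : ∀ k : Fin 7, ∃ i j,
    mulM 2 ThreeFive.aU ThreeFive.aT i j ≠ mulM 2 (ThreeFive.aTPow k) ThreeFive.aU i j := by decide +kernel

theorem ThreeThree.bT_pow : (∀ i j, ThreeThree.bTPow 0 i j = one3 i j) ∧
    ∀ k : Fin 7, ∀ i j, mulM 2 (ThreeThree.bTPow k) ThreeThree.bT i j = ThreeThree.bTPow (k + 1) i j := by decide +kernel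

theorem ThreeThree.bS_twist : ∀ i j, mulM 2 ThreeThree.bS ThreeThree.bT i j = mulM 2 (ThreeThree.bTPow 2) ThreeThree.bS i j := by decide +kernel

theorem ThreeThree.bU_twist : ∀ k : Fin 7, ∃ i j,
    mulM 2 ThreeThree.bU ThreeThree.bT i j ≠ mulM 2 (ThreeThree.bTPow k) ThreeThree.bU i j := by decide +kernel

end CfsgLib.Techniques.AschPrimeU
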