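/-
The field case does not occur in degree three for three and five.
-/
import Cfsg.Agent.Lib.Techniques.AschPrimeU.ThreeCert

set_option autoImplicit false

namespace CfsgLib.Techniques.AschPrimeU

open Matrix CfsgLib.Transvec CfsgLib.Transvec.Unitary CfsgLib.Techniques.AschPrime QuadCode
open scoped MatrixGroups Fin.NatCast

variable {F : Type*} [Field F]

theorem scalars_of_matrix {n : ℕ} [NeZero n] {d : GL (Fin n) F} {z : F}
    (hz : (d : Matrix (Fin n) (Fin n) F) = z • 1) : d ∈ Cfsg.Geo.scalars (Fin n) F := by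
  refine (Cfsg.Geo.mem_scalars_iff d).mpr ⟨Units.mk0 z fun h => ?_, hz⟩
  rw [h, zero_smul] at hz
  exact d.ne_zero hz

theorem two_pow_three : (2 : ZMod 3) ^ 1 = -1 := by decide

theorem two_eq_three : (2 : ZMod 3) = -1 := by decide

theorem three_eq_three : (3 : ZMod 3) = 0 := by decide

theorem two_pow_five : (2 : ZMod 5) ^ 2 = -1 := by decide

theorem zeta_cube : qmul 2 (qmul 2 ThreeFive.zeta ThreeFive.zeta) ThreeFive.zeta = ((-1 : ZMod 5), 0) := by
  decide +kernel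

theorem zeta_sq : qmul 2 ThreeFive.zeta ThreeFive.zeta ≠ ((1 : ZMod 5), 0) := by decide +kernel

theorem neg_one_pair : ((-1 : ZMod 5), (0 : ZMod 5)) ≠ (1, 0) := by decide

variable [Fintype F]

/-- The field case from coded data. -/
theorem not_maximal_field_coded {p N : ℕ} [Fact p.Prime] {φ : ZMod p →+* F} {ν : ZMod p} {r : F} {σ : F ≃+* F}
    (hc : Coding φ ν r σ) (hF : Fintype.card F = p ^ 2)
    {K : Subalgebra F (Matrix (Fin 3) (Fin 3) F)} (hK : Cfsg.Geo.IsFieldSubalgebra 3 K)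
    (hadj : Cfsg.Geo.IsAdjointClosedFor (Cfsg.hermForm 3 F p) K) {H : Subgroup (GL (Fin 3) F)}
    (hH : Cfsg.Geo.IsMaximalIn (Cfsg.GU 3 F p ⊓ Cfsg.Geo.specialLinear (Fin 3) F) H)
    (heq : H = Cfsg.Geo.subalgebraNormalizer K ⊓ (Cfsg.GU 3 F p ⊓ Cfsg.Geo.specialLinear (Fin 3) F))
    (hdvd : 7 ∣ p ^ 3 + 1) (hndvd : ¬ 7 ∣ p ^ 2 - 1) (hsq : ¬ 7 ^ 2 ∣ Nat.card (GL (Fin 3) F))
    {pts : Fin N → Fin 3 → ZMod p × ZMod p} {T S U W : Fin 3 → Fin 3 → ZMod p × ZMod p}
    {P : Fin 7 → Fin 3 → Fin 3 → ZMod p × ZMod p} {pT pS pU : Fin N → Fin N}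
    {cT cS cU : Fin N → ZMod p × ZMod p} {k0 : Fin N}
    (hT : IsSUCode ν T) (hS : IsSUCode ν S) (hU : IsSUCode ν U) (hW : IsSUCode ν W)
    (hTp : PermCode ν pts T pT cT) (hSp : PermCode ν pts S pS cS) (hUp : PermCode ν pts U pU cU)
    (hWm : MoveCode ν pts W k0)
    (hP : (∀ i j, P 0 i j = one3 i j) ∧ ∀ k : Fin 7, ∀ i j, mulM ν (P k) T i j = P (k + 1) i j)
    (hST : ∀ i j, mulM ν S T i j = mulM ν (P ((p ^ 2 : ℕ) : Fin 7)) S i j)
    (hUT : ∀ k : Fin 7, ∃ i j, mulM ν U T i j ≠ mulM ν (P k) U i j)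
    (hcent : ∀ d : GL (Fin 3) F, d ∈ Cfsg.GU 3 F p ⊓ Cfsg.Geo.specialLinear (Fin 3) F →
      (d : Matrix (Fin 3) (Fin 3) F) ∈ K → d ^ (p ^ 3 + 1) = 1 →
      ∃ c ∈ Cfsg.Geo.scalars (Fin 3) F, (c⁻¹ * d) ^ 7 = 1) : False := by
  obtain ⟨gT, hgT, hTG⟩ := exists_GL hc hF hT
  obtain ⟨gS, hgS, hSG⟩ := exists_GL hc hF hS
  obtain ⟨gU, hgU, hUG⟩ := exists_GL hc hF hU
  obtain ⟨gW, hgW, hWG⟩ := exists_GL hc hF hW
  haveI : Fact (Nat.Prime 7) := ⟨by norm_num⟩
  have hne : ∀ k : ℕ, gU * gT * gU⁻¹ ≠ gT ^ k := by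
    intro k h
    rw [mul_inv_eq_iff_eq_mul] at h
    have h' := congrArg Units.val h
    rw [Units.val_mul, Units.val_mul, Units.val_pow_eq_pow_val, hgT, hgU, toM_pow hc hP.1 hP.2, toM_mul hc,
      toM_mul hc] at h'
    obtain ⟨i, j, hij⟩ := hUT (k : Fin 7)
    exact hij (el_injective hc (congrFun (congrFun h' i) j))
  have hT1 : gT ≠ 1 := fun h => hne 0 (by rw [h]; group)
  have hT7 : gT ^ 7 = 1 := Units.ext (by
    rw [Units.val_pow_eq_pow_val, hgT, toM_pow hc hP.1 hP.2, show ((7 : ℕ) : Fin 7) = 0 from rfl, toM_congr hP.1,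
      toM_one, Units.val_one])
  refine not_maximal_field (by norm_num) (by decide) hF hK hadj hH heq (by norm_num : Nat.Prime 7) hdvd hndvd hsq
    (X := lineStab fun k => toV φ r (pts k)) hTG hSG hUG hWG (mem_lineStab_of_perm hc hTp hgT)
    (mem_lineStab_of_perm hc hSp hgS) (mem_lineStab_of_perm hc hUp hgU) (not_mem_lineStab_of_move hc hWm hgW)
    (scalars_le_lineStab _) (orderOf_eq_prime hT7 hT1) ?_ hne hcent
  rw [mul_inv_eq_iff_eq_mul]
  refine Units.ext ?_
  rw [Units.val_mul, Units.val_mul, Units.val_pow_eq_pow_val, hgT, hgS, toM_pow hc hP.1 hP.2, toM_mul hc,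
    toM_mul hc]
  exact toM_congr hST

/-- The field case does not occur in degree three for three. -/
theorem not_maximal_field_three_three (hF : Fintype.card F = 3 ^ 2) {K : Subalgebra F (Matrix (Fin 3) (Fin 3) F)}
    (hK : Cfsg.Geo.IsFieldSubalgebra 3 K) (hadj : Cfsg.Geo.IsAdjointClosedFor (Cfsg.hermForm 3 F 3) K)
    {H : Subgroup (GL (Fin 3) F)}
    (hH : Cfsg.Geo.IsMaximalIn (Cfsg.GU 3 F 3 ⊓ Cfsg.Geo.specialLinear (Fin 3) F) H)
    (heq : H = Cfsg.Geo.subalgebraNormalizer K ⊓ (Cfsg.GU 3 F 3 ⊓ Cfsg.Geo.specialLinear (Fin 3) F)) : False := by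
  classical
  haveI : Fact (Nat.Prime 3) := ⟨Nat.prime_three⟩
  obtain ⟨φ, r, σ, hc⟩ := exists_coding (ν := (2 : ZMod 3)) (h := 1) Nat.prime_three hF rfl two_pow_three
  have h2 : r ^ 2 = -1 := by rw [pow_two, hc.sq, two_eq_three, map_neg, map_one]
  have h30 : (3 : F) = 0 := by
    have := congrArg φ three_eq_three
    rwa [map_ofNat, map_zero] at this
  have hr4 : IsPrimitiveRoot r 4 := by
    refine IsPrimitiveRoot.mk_of_lt r (by norm_num) (by rw [show 4 = 2 * 2 from rfl, pow_mul, h2]; ring) ?_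
    intro l hl hl4 h
    have hne : (-1 : F) ≠ 1 := fun h => one_ne_zero (α := F) (by linear_combination h + h30)
    interval_cases l
    · rw [pow_one] at h
      exact hne (by rw [← h2, h, one_pow])
    · exact hne (h2 ▸ h)
    · exact hne (by
        have h6 : (r ^ 2) ^ 3 = (r ^ 3) ^ 2 := by ring
        rw [h, h2] at h6
        linear_combination h6)
  refine not_maximal_field_coded hc hF hK hadj hH heq (by norm_num) (by norm_num) ?_ ThreeThree.bT_su ThreeThree.bS_su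
    ThreeThree.bU_su ThreeThree.bW_su ThreeThree.bT_perm ThreeThree.bS_perm ThreeThree.bU_perm ThreeThree.bW_move
    ThreeThree.bT_pow ThreeThree.bS_twist ThreeThree.bU_twist ?_
  · rw [Matrix.card_GL_field, hF]
    decide +kernel
  · intro d hdG hdK hd
    refine ⟨1, Subgroup.one_mem _, ?_⟩
    rw [inv_one, one_mul]
    have hE4 : ((d ^ 7 : GL (Fin 3) F) : Matrix (Fin 3) (Fin 3) F) ^ 4 = 1 := by
      rw [← Units.val_pow_eq_pow_val, ← pow_mul, show 7 * 4 = 3 ^ 3 + 1 from rfl, hd, Units.val_one]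
    obtain ⟨z, hz⟩ := scalar_of_pow_eq_one hK hr4 (by norm_num)
      (by rw [Units.val_pow_eq_pow_val]; exact K.pow_mem hdK 7) hE4
    have hdet := congrArg Matrix.det hz
    rw [det_smul, det_one, mul_one, Fintype.card_fin, Units.val_pow_eq_pow_val, det_pow,
      (mem_specialLinear_iff _).mp hdG.2, one_pow] at hdet
    have hz4 := hE4
    rw [hz, smul_pow, one_pow] at hz4
    have hz4' : z ^ 4 = 1 := smul_left_injective F (one_ne_zero (α := Matrix (Fin 3) (Fin 3) F)) (hz4.trans (one_smul F _).symm)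
    have hz1 : z = 1 := by linear_combination hz4' + z * hdet
    exact Units.ext (by rw [hz, hz1, one_smul, Units.val_one])

/-- A sixth root of unity in the field with 25 elements. -/
theorem zeta_primitive [Fact (Nat.Prime 5)] {φ : ZMod 5 →+* F} {r : F} {σ : F ≃+* F} (hc : Coding φ 2 r σ) :
    IsPrimitiveRoot (el φ r ThreeFive.zeta) 6 := by
  set z := el φ r ThreeFive.zeta with hz
  have e2 : z ^ 2 = el φ r (qmul 2 ThreeFive.zeta ThreeFive.zeta) := by rw [pow_two, el_mul hc]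
  have e3 : z ^ 3 = el φ r (qmul 2 (qmul 2 ThreeFive.zeta ThreeFive.zeta) ThreeFive.zeta) := by
    rw [pow_succ, pow_two, hz, el_mul hc, el_mul hc]
  have h3 : z ^ 3 = el φ r ((-1 : ZMod 5), 0) := by
    rw [e3]; exact congrArg _ zeta_cube
  have h3' : z ^ 3 = -1 := by rw [h3]; simp [el]
  have h1 : el φ r ((-1 : ZMod 5), 0) ≠ el φ r (1, 0) := fun h => by
    have := el_injective hc h
    exact absurd this neg_one_pair
  refine IsPrimitiveRoot.mk_of_lt _ (by norm_num) (by rw [show 6 = 3 * 2 from rfl, pow_mul, h3']; ring) ?_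
  intro l hl hl6 h
  have hne1 : z ≠ 1 := fun h' => h1 (by rw [← h3, h', one_pow, el_one])
  have hne2 : z ^ 2 ≠ 1 := fun h' => by
    rw [e2, ← el_one (φ := φ) (r := r)] at h'
    exact absurd (el_injective hc h') zeta_sq
  interval_cases l
  · exact hne1 (by rwa [pow_one] at h)
  · exact hne2 h
  · exact h1 (by rw [← h3, h, el_one])
  · exact hne2 (by
      have e : z ^ 6 = z ^ 4 * z ^ 2 := by ring
      rw [h, one_mul, show (6 : ℕ) = 3 * 2 from rfl, pow_mul, h3'] at e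
      rw [← e]; ring)
  · exact hne1 (by
      have e : z ^ 6 = z ^ 5 * z := by ring
      rw [h, one_mul, show (6 : ℕ) = 3 * 2 from rfl, pow_mul, h3'] at e
      rw [← e]; ring)

/-- The field case does not occur in degree three for five. -/
theorem not_maximal_field_three_five (hF : Fintype.card F = 5 ^ 2) {K : Subalgebra F (Matrix (Fin 3) (Fin 3) F)}
    (hK : Cfsg.Geo.IsFieldSubalgebra 3 K) (hadj : Cfsg.Geo.IsAdjointClosedFor (Cfsg.hermForm 3 F 5) K)
    {H : Subgroup (GL (Fin 3) F)}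
    (hH : Cfsg.Geo.IsMaximalIn (Cfsg.GU 3 F 5 ⊓ Cfsg.Geo.specialLinear (Fin 3) F) H)
    (heq : H = Cfsg.Geo.subalgebraNormalizer K ⊓ (Cfsg.GU 3 F 5 ⊓ Cfsg.Geo.specialLinear (Fin 3) F)) : False := by
  classical
  haveI : Fact (Nat.Prime 5) := ⟨Nat.prime_five⟩
  obtain ⟨φ, r, σ, hc⟩ := exists_coding (ν := (2 : ZMod 5)) (h := 2) Nat.prime_five hF rfl two_pow_five
  have h6 := zeta_primitive hc
  have h2p := h6.pow (by norm_num : 0 < 6) (show 6 = 3 * 2 from rfl)
  have h3p := h6.pow (by norm_num : 0 < 6) (show 6 = 2 * 3 from rfl)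
  refine not_maximal_field_coded hc hF hK hadj hH heq (by norm_num) (by norm_num) ?_ ThreeFive.aT_su ThreeFive.aS_su
    ThreeFive.aU_su ThreeFive.aW_su ThreeFive.aT_perm ThreeFive.aS_perm ThreeFive.aU_perm ThreeFive.aW_move
    ThreeFive.aT_pow ThreeFive.aS_twist ThreeFive.aU_twist ?_
  · rw [Matrix.card_GL_field, hF]
    decide +kernel
  · intro d hdG hdK hd
    set E : Matrix (Fin 3) (Fin 3) F := (d : Matrix (Fin 3) (Fin 3) F) with hE
    have hE126 : E ^ 126 = 1 := by rw [hE, ← Units.val_pow_eq_pow_val, show (126 : ℕ) = 5 ^ 3 + 1 from rfl, hd, Units.val_one]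
    have hdet : E.det = 1 := (mem_specialLinear_iff _).mp hdG.2
    have hone : ∀ {z : F} {k : ℕ}, E ^ k = z • 1 → z ^ 3 = 1 := fun {z k} h => by
      have := congrArg Matrix.det h
      rwa [det_pow, hdet, one_pow, det_smul, det_one, mul_one, Fintype.card_fin, eq_comm] at this
    have hval : ∀ {z : F} {k m : ℕ}, E ^ k = z • 1 → E ^ (k * m) = 1 → z ^ m = 1 := fun {z k m} h h' => by
      rw [pow_mul, h, smul_pow, one_pow] at h'
      exact smul_left_injective F (one_ne_zero (α := Matrix (Fin 3) (Fin 3) F)) (h'.trans (one_smul F _).symm)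
    obtain ⟨a, ha⟩ := scalar_of_pow_eq_one hK h2p (by norm_num) (K.pow_mem hdK 63) (by rw [← pow_mul]; exact hE126)
    have ha1 : a = 1 := by
      have h3 := hone ha
      have h2 := hval ha (m := 2) hE126
      linear_combination h3 - a * h2
    have h63 : E ^ 63 = 1 := by rw [ha, ha1, one_smul]
    obtain ⟨b, hb⟩ := scalar_of_pow_eq_one hK h3p (by norm_num) (K.pow_mem hdK 21) (by rw [← pow_mul]; exact h63)
    obtain ⟨e, he⟩ := exists_root_of_pow_eq_scalar (ι := Fin 3) (by norm_num) (by decide) (x := E ^ 7)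
      (by rw [det_pow, hdet, one_pow]) (c := b) (by rw [Fintype.card_fin, ← pow_mul]; exact hb)
    rw [Fintype.card_fin] at he
    have hb1 : b = 1 := by
      have hb3 := hone hb
      have e9 : e ^ 9 = 1 := by rw [show 9 = 3 * 3 from rfl, pow_mul, he, hb3]
      have e0 : e ≠ 0 := fun h => by rw [h, zero_pow (by norm_num)] at e9; exact zero_ne_one e9
      have e24 : e ^ 24 = 1 := by
        have := FiniteField.pow_card_sub_one_eq_one e e0
        rwa [hF] at this
      rw [← he]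
      exact (pow_gcd_eq_one.mpr ⟨e9, e24⟩ : e ^ Nat.gcd 9 24 = 1)
    have h21 : E ^ 21 = 1 := by rw [hb, hb1, one_smul]
    obtain ⟨c, hcc⟩ := scalar_of_pow_eq_one hK h3p (by norm_num) (K.pow_mem hdK 7) (by rw [← pow_mul]; exact h21)
    have hs : d ^ 7 ∈ Cfsg.Geo.scalars (Fin 3) F := scalars_of_matrix (by rw [Units.val_pow_eq_pow_val]; exact hcc)
    refine ⟨d ^ 7, hs, ?_⟩
    have hd21 : d ^ 21 = 1 := Units.ext (by rw [Units.val_pow_eq_pow_val, ← hE, h21, Units.val_one])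
    rw [(Commute.inv_left (Commute.pow_self d 7)).mul_pow, inv_pow, ← pow_mul]
    calc (d ^ (7 * 7))⁻¹ * d ^ 7 = ((d ^ 21) ^ 2)⁻¹ := by group
      _ = 1 := by rw [hd21, one_pow, inv_one]

end CfsgLib.Techniques.AschPrimeU
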