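/-
The monomial and the rational orthogonal matrices lie in the subgroup of type 3.A7.
-/
import Cfsg.Agent.Lib.Techniques.AschPrimeU.ThreeField

set_option autoImplicit false
set_option maxRecDepth 8000

namespace CfsgLib.Techniques.AschPrimeU.ThreeFive

open Matrix CfsgLib.Transvec CfsgLib.Transvec.Unitary CfsgLib.Techniques.AschPrime QuadCode
open scoped MatrixGroups

/-- The signed permutation codes. -/
def aPerms : Fin 6 → Fin 3 → Fin 3 → ZMod 5 × ZMod 5 := ![aP0, aP1, aP2, aP3, aP4, aP5]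

/-- The permutation tables of the signed permutations. -/
def aPermsPerm : Fin 6 → Fin 105 → Fin 105 := ![aP0Perm, aP1Perm, aP2Perm, aP3Perm, aP4Perm, aP5Perm]

/-- The multiplier tables of the signed permutations. -/
def aPermsMult : Fin 6 → Fin 105 → ZMod 5 × ZMod 5 := ![aP0Mult, aP1Mult, aP2Mult, aP3Mult, aP4Mult, aP5Mult]

theorem perms_cover : ∀ π : Equiv.Perm (Fin 3), ∃ (k : Fin 6) (s : ZMod 5), s * s = 1 ∧
    ∀ i j, aPerms k i j = if i = π j then (s, 0) else (0, 0) := by decide +kernel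

theorem perms_perm : ∀ k, PermCode 2 aPts (aPerms k) (aPermsPerm k) (aPermsMult k) := by
  intro k
  fin_cases k
  exacts [aP0_perm, aP1_perm, aP2_perm, aP3_perm, aP4_perm, aP5_perm]

theorem perms_su : ∀ k, IsSUCode 2 (aPerms k) := by
  intro k
  fin_cases k
  exacts [aP0_su, aP1_su, aP2_su, aP3_su, aP4_su, aP5_su]

theorem diag_shape : (∀ i j, i ≠ j → aD0 i j = (0, 0) ∧ aD1 i j = (0, 0)) ∧ aD0 0 0 = zeta ∧ aD0 1 1 = (1, 0) ∧
    qmul 2 zeta (aD0 2 2) = (1, 0) ∧ aD1 0 0 = (1, 0) ∧ aD1 1 1 = zeta ∧ qmul 2 zeta (aD1 2 2) = (1, 0) := by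
  decide +kernel

theorem rat_code : ∀ i j, aA i j = (ratA i j, 0) ∧ aB i j = (ratB i j, 0) := by decide +kernel

theorem rat_orth : (∀ i j, ∑ k, ratA k i * ratA k j = if i = j then 1 else 0) ∧
    (∀ i j, ∑ k, ratB k i * ratB k j = if i = j then 1 else 0) := by decide +kernel

theorem tree_step : ∀ k : Fin 30, k ≠ 0 → parent k < k ∧
    ∀ i, ∑ l, (bif viaB k then ratB else ratA) i l * unitVec (parent k) l = unitVec k i := by decide +kernel

theorem tree_root : ∀ i, unitVec 0 i = if i = 0 then 1 else 0 := by decide +kernel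

theorem unitVec_cover : ∀ a b c : ZMod 5, a * a + b * b + c * c = 1 →
    ∃ k, unitVec k 0 = a ∧ unitVec k 1 = b ∧ unitVec k 2 = c := by decide +kernel

set_option synthInstance.maxSize 1024 in
theorem block_monomial : ∀ a b c d : ZMod 5, a * a + c * c = 1 → b * b + d * d = 1 → a * b + c * d = 0 →
    (b = 0 ∧ c = 0) ∨ (a = 0 ∧ d = 0) := by decide +kernel

variable {F : Type*} [Field F] [Fintype F]

/-- The subgroup of type 3.A7. -/
def group7 (φ : ZMod 5 →+* F) (r : F) : Subgroup (GL (Fin 3) F) := lineStab fun k => toV φ r (aPts k)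

variable [Fact (Nat.Prime 5)] {φ : ZMod 5 →+* F} {r : F} {σ : F ≃+* F} (hc : Coding φ 2 r σ)
  (hF : Fintype.card F = 5 ^ 2)

include hc hF

/-- Monomial special isometries lie in the subgroup. -/
theorem monomial_mem {h : GL (Fin 3) F} (hG : h ∈ Cfsg.GU 3 F 5 ⊓ Cfsg.Geo.specialLinear (Fin 3) F)
    {π : Equiv.Perm (Fin 3)} {c : Fin 3 → F}
    (hm : (h : Matrix (Fin 3) (Fin 3) F) = fun i j => if i = π j then c j else 0) : h ∈ group7 φ r := by
  classical
  have hinv : ∀ x, σ (σ x) = x := fun x => by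
    rw [hc.frob, hc.frob, ← pow_mul, ← pow_two, ← hF, FiniteField.pow_card]
  have hc6 : ∀ j, c j ^ 6 = 1 := by
    intro j
    have h1 := congrFun (congrFun ((mem_GU_iff hc.frob hinv h).mp hG.1) j) j
    have hMe : ∀ i l, (h : Matrix (Fin 3) (Fin 3) F) i l = if i = π l then c l else 0 := fun i l => by rw [hm]
    simp only [Matrix.mul_apply, Matrix.map_apply, Matrix.transpose_apply, hMe, Matrix.one_apply_eq] at h1
    rw [Finset.sum_eq_single (π j) (fun b _ hb => by simp [hb]) (by simp), if_pos rfl, hc.frob] at h1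
    rwa [pow_succ]
  obtain ⟨k, s, hs, hP⟩ := perms_cover π
  obtain ⟨gP, hgP, hPG⟩ := exists_GL hc hF (perms_su k)
  have hss : φ s * φ s = 1 := by rw [← map_mul, hs, map_one]
  set d : Fin 3 → F := fun i => φ s * c (π.symm i) with hd
  have hprod : (h : Matrix (Fin 3) (Fin 3) F) = Matrix.diagonal d * (gP : Matrix (Fin 3) (Fin 3) F) := by
    rw [hm, hgP]
    ext i j
    rw [Matrix.diagonal_mul]
    simp only [toM, Matrix.of_apply, hP]
    by_cases hij : i = π j
    · subst hij
      simp only [if_true, el, map_zero, zero_mul, add_zero, hd, Equiv.symm_apply_apply]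
      rw [mul_comm (φ s) (c j), mul_assoc, hss, mul_one]
    · simp [hij, el]
  have hdet : d 0 * d 1 * d 2 = 1 := by
    have h1 := congrArg Matrix.det hprod
    rw [det_mul, det_diagonal, (mem_specialLinear_iff _).mp hG.2, (mem_specialLinear_iff _).mp hPG.2, mul_one,
      Fin.prod_univ_three] at h1
    exact h1.symm
  have hz := zeta_primitive hc
  have hd6 : ∀ i, d i ^ 6 = 1 := fun i => by
    rw [hd, mul_pow, hc6, mul_one, show (6 : ℕ) = 2 * 3 from rfl, pow_mul, pow_two, hss, one_pow]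
  obtain ⟨a, -, ha⟩ := hz.eq_pow_of_pow_eq_one (hd6 0)
  obtain ⟨b, -, hb⟩ := hz.eq_pow_of_pow_eq_one (hd6 1)
  obtain ⟨g0, hg0, h0G⟩ := exists_GL hc hF aD0_su
  obtain ⟨g1, hg1, h1G⟩ := exists_GL hc hF aD1_su
  obtain ⟨hoff, s00, s01, s02, s10, s11, s12⟩ := diag_shape
  have e0 : (g0 : Matrix (Fin 3) (Fin 3) F) = Matrix.diagonal fun i => el φ r (aD0 i i) := by
    rw [hg0]
    ext i j
    by_cases hij : i = j
    · subst hij; simp [toM]
    · simp [toM, hij, (hoff i j hij).1, el]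
  have e1 : (g1 : Matrix (Fin 3) (Fin 3) F) = Matrix.diagonal fun i => el φ r (aD1 i i) := by
    rw [hg1]
    ext i j
    by_cases hij : i = j
    · subst hij; simp [toM]
    · simp [toM, hij, (hoff i j hij).2, el]
  have hdiag : ((g0 ^ a * g1 ^ b : GL (Fin 3) F) : Matrix (Fin 3) (Fin 3) F) = Matrix.diagonal d := by
    rw [Units.val_mul, Units.val_pow_eq_pow_val, Units.val_pow_eq_pow_val, e0, e1, Matrix.diagonal_pow,
      Matrix.diagonal_pow, Matrix.diagonal_mul_diagonal]
    congr 1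
    funext i
    simp only [Pi.pow_apply]
    fin_cases i
    · change el φ r (aD0 0 0) ^ a * el φ r (aD1 0 0) ^ b = _
      rw [s00, s10, el_one, one_pow, mul_one, ha]
      rfl
    · change el φ r (aD0 1 1) ^ a * el φ r (aD1 1 1) ^ b = _
      rw [s01, s11, el_one, one_pow, one_mul, hb]
      rfl
    · change el φ r (aD0 2 2) ^ a * el φ r (aD1 2 2) ^ b = d 2
      have k0 : el φ r zeta * el φ r (aD0 2 2) = 1 := by rw [← el_mul hc, s02, el_one]
      have k1 : el φ r zeta * el φ r (aD1 2 2) = 1 := by rw [← el_mul hc, s12, el_one]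
      have h01 : d 0 * d 1 ≠ 0 := fun h => by rw [h, zero_mul] at hdet; exact zero_ne_one hdet
      refine mul_left_cancel₀ h01 ?_
      rw [hdet, ← ha, ← hb, mul_mul_mul_comm, ← mul_pow, ← mul_pow, k0, k1, one_pow, one_pow, one_mul]
  have e : h = g0 ^ a * g1 ^ b * gP := Units.ext (by rw [Units.val_mul, hdiag, hprod])
  rw [e]
  exact Subgroup.mul_mem _ (Subgroup.mul_mem _ (Subgroup.pow_mem _ (mem_lineStab_of_perm hc aD0_perm hg0) a)
    (Subgroup.pow_mem _ (mem_lineStab_of_perm hc aD1_perm hg1) b)) (mem_lineStab_of_perm hc (perms_perm k) hgP)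

omit hF in
theorem sigma_map (z : ZMod 5) : σ (φ z) = φ z := by rw [hc.frob, ← map_pow, ZMod.pow_card]

/-- Rational orthogonal matrices of determinant one give special isometries. -/
theorem exists_rational {M : Matrix (Fin 3) (Fin 3) (ZMod 5)} (hM : Mᵀ * M = 1) (hdet : M.det = 1) :
    ∃ g : GL (Fin 3) F, (g : Matrix (Fin 3) (Fin 3) F) = M.map φ ∧
      g ∈ Cfsg.GU 3 F 5 ⊓ Cfsg.Geo.specialLinear (Fin 3) F := by
  have hinv : ∀ x, σ (σ x) = x := fun x => by
    rw [hc.frob, hc.frob, ← pow_mul, ← pow_two, ← hF, FiniteField.pow_card]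
  have hd : (M.map φ).det = 1 := by rw [← RingHom.mapMatrix_apply, ← RingHom.map_det, hdet, map_one]
  refine ⟨Matrix.GeneralLinearGroup.mk'' (M.map φ) (by rw [hd]; exact isUnit_one), rfl, ?_,
    (mem_specialLinear_iff _).mpr hd⟩
  change _ ∈ Cfsg.GU 3 F 5
  rw [mem_GU_iff hc.frob hinv]
  change (M.map φ)ᵀ.map σ * M.map φ = 1
  have h1 : (M.map φ)ᵀ.map σ = Mᵀ.map φ := by
    ext i j
    simp [sigma_map hc]
  rw [h1, ← Matrix.map_mul, hM, Matrix.map_one φ (map_zero φ) (map_one φ)]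

/-- Rational orthogonal matrices of determinant one lie in the subgroup. -/
theorem orth_mem {g : GL (Fin 3) F} {M : Matrix (Fin 3) (Fin 3) (ZMod 5)} (hM : Mᵀ * M = 1) (hdet : M.det = 1)
    (hg : (g : Matrix (Fin 3) (Fin 3) F) = M.map φ) : g ∈ group7 φ r := by
  classical
  have hgen : ∀ b : Bool, ∃ g : GL (Fin 3) F, g ∈ group7 φ r ∧
      (g : Matrix (Fin 3) (Fin 3) F) = (Matrix.of (bif b then ratB else ratA)).map φ ∧
      (Matrix.of (bif b then ratB else ratA))ᵀ * Matrix.of (bif b then ratB else ratA) = 1 ∧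
      (Matrix.of (bif b then ratB else ratA)).det = 1 := by
    intro b
    have horth : (Matrix.of (bif b then ratB else ratA))ᵀ * Matrix.of (bif b then ratB else ratA) = 1 := by
      ext i j
      cases b
      · simpa [Matrix.mul_apply, Matrix.one_apply] using rat_orth.1 i j
      · simpa [Matrix.mul_apply, Matrix.one_apply] using rat_orth.2 i j
    obtain ⟨g, hg, hgG, hmem⟩ : ∃ g : GL (Fin 3) F,
        (g : Matrix (Fin 3) (Fin 3) F) = (Matrix.of (bif b then ratB else ratA)).map φ ∧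
        g ∈ Cfsg.Geo.specialLinear (Fin 3) F ∧ g ∈ group7 φ r := by
      cases b
      · obtain ⟨g, hg, hgG⟩ := exists_GL hc hF aA_su
        refine ⟨g, ?_, hgG.2, mem_lineStab_of_perm hc aA_perm hg⟩
        rw [hg]; ext i j; simp [toM, (rat_code i j).1, el]
      · obtain ⟨g, hg, hgG⟩ := exists_GL hc hF aB_su
        refine ⟨g, ?_, hgG.2, mem_lineStab_of_perm hc aB_perm hg⟩
        rw [hg]; ext i j; simp [toM, (rat_code i j).2, el]
    refine ⟨g, hmem, hg, horth, φ.injective ?_⟩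
    rw [RingHom.map_det, RingHom.mapMatrix_apply, ← hg, (mem_specialLinear_iff _).mp hgG, map_one]
  have hreach : ∀ k : Fin 30, ∃ (g : GL (Fin 3) F) (N : Matrix (Fin 3) (Fin 3) (ZMod 5)), g ∈ group7 φ r ∧
      (g : Matrix (Fin 3) (Fin 3) F) = N.map φ ∧ Nᵀ * N = 1 ∧ N.det = 1 ∧ ∀ i, N i 0 = unitVec k i := by
    intro k
    induction k using Fin.strong_induction_on with
    | _ k ih =>
      rcases eq_or_ne k 0 with rfl | hk
      · exact ⟨1, 1, Subgroup.one_mem _, by rw [Units.val_one, Matrix.map_one φ (map_zero φ) (map_one φ)],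
          by simp, by simp, fun i => by rw [tree_root, Matrix.one_apply]⟩
      obtain ⟨hlt, hstep⟩ := tree_step k hk
      obtain ⟨g, N, hgX, hgN, hN, hNd, hcol⟩ := ih _ hlt
      obtain ⟨a, haX, haA, hA, hAd⟩ := hgen (viaB k)
      refine ⟨a * g, Matrix.of (bif viaB k then ratB else ratA) * N, Subgroup.mul_mem _ haX hgX,
        by rw [Units.val_mul, haA, hgN, ← Matrix.map_mul], ?_, by rw [det_mul, hAd, hNd, one_mul], fun i => ?_⟩
      · rw [Matrix.transpose_mul, Matrix.mul_assoc, ← Matrix.mul_assoc _ _ N, hA, Matrix.one_mul, hN]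
      · rw [Matrix.mul_apply]
        simp only [hcol, Matrix.of_apply]
        exact hstep i
  have hcol : M 0 0 * M 0 0 + M 1 0 * M 1 0 + M 2 0 * M 2 0 = 1 := by
    have h := congrFun (congrFun hM 0) 0
    simpa [Matrix.mul_apply, Fin.sum_univ_three] using h
  obtain ⟨k, k0, k1, k2⟩ := unitVec_cover _ _ _ hcol
  obtain ⟨gk, N, hgkX, hgk, hN, hNd, hNcol⟩ := hreach k
  have hNN : N * Nᵀ = 1 := mul_eq_one_comm.mp hN
  set L := Nᵀ * M with hL
  have hLo : Lᵀ * L = 1 := by
    rw [hL, Matrix.transpose_mul, Matrix.transpose_transpose, Matrix.mul_assoc, ← Matrix.mul_assoc N, hNN,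
      Matrix.one_mul, hM]
  have hLd : L.det = 1 := by rw [hL, det_mul, det_transpose, hNd, hdet, one_mul]
  have hL0 : ∀ i, L i 0 = if i = 0 then 1 else 0 := by
    intro i
    have h := congrFun (congrFun hN i) 0
    rw [Matrix.one_apply] at h
    rw [← h, hL, Matrix.mul_apply, Matrix.mul_apply]
    refine Finset.sum_congr rfl fun l _ => ?_
    congr 1
    rw [hNcol]
    fin_cases l <;> simp [k0, k1, k2]
  have hL00 : L 0 0 = 1 := by rw [hL0]; rfl
  have hL10 : L 1 0 = 0 := by rw [hL0]; rfl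
  have hL20 : L 2 0 = 0 := by rw [hL0]; rfl
  have horth : ∀ i j, L 0 i * L 0 j + L 1 i * L 1 j + L 2 i * L 2 j = if i = j then 1 else 0 := fun i j => by
    have h := congrFun (congrFun hLo i) j
    simpa [Matrix.mul_apply, Fin.sum_univ_three, Matrix.one_apply] using h
  have hL01 : L 0 1 = 0 := by simpa [hL00, hL10, hL20] using horth 0 1
  have hL02 : L 0 2 = 0 := by simpa [hL00, hL10, hL20] using horth 0 2
  have e11 := horth 1 1
  have e22 := horth 2 2
  have e12 := horth 1 2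
  simp [hL01, hL02] at e11 e22 e12
  obtain ⟨gL, hgL, hgLG⟩ := exists_rational hc hF hLo hLd
  obtain ⟨π, c, hmono⟩ : ∃ (π : Equiv.Perm (Fin 3)) (c : Fin 3 → F),
      (gL : Matrix (Fin 3) (Fin 3) F) = fun i j => if i = π j then c j else 0 := by
    rw [hgL]
    rcases block_monomial _ _ _ _ e11 e22 e12 with ⟨hb, hc'⟩ | ⟨ha, hd'⟩
    · refine ⟨1, fun j => φ (L j j), ?_⟩
      ext i j
      fin_cases i <;> fin_cases j <;> simp [hL00, hL10, hL20, hL01, hL02, hb, hc']
    · refine ⟨Equiv.swap 1 2, fun j => φ (L (Equiv.swap 1 2 j) j), ?_⟩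
      ext i j
      fin_cases i <;> fin_cases j <;> simp [hL00, hL10, hL20, hL01, hL02, ha, hd', Equiv.swap_apply_def]
  have e : g = gk * gL := Units.ext (by
    rw [hg, Units.val_mul, hgk, hgL, ← Matrix.map_mul, hL, ← Matrix.mul_assoc, hNN, Matrix.one_mul])
  rw [e]
  exact Subgroup.mul_mem _ hgkX (monomial_mem hc hF hgLG hmono)

end CfsgLib.Techniques.AschPrimeU.ThreeFive
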