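/-
The decomposition case does not occur in degree three for five, nor the subfield case of index two for three and
five.
-/
import Cfsg.Agent.Lib.Techniques.AschPrimeU.ThreeA7
import Cfsg.Agent.Lib.Classical.HermSplit

set_option autoImplicit false
set_option maxRecDepth 8000

namespace CfsgLib.Techniques.AschPrimeU

open Matrix CfsgLib.Transvec CfsgLib.Transvec.Unitary CfsgLib.Techniques.AschPrime QuadCode
open scoped MatrixGroups

variable {F : Type*} [Field F] [Fintype F]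

/-- Orthonormal coordinates adapted to an orthogonal decomposition into lines. -/
theorem exists_orth_coords {n q : ℕ} (hF : Fintype.card F = q ^ 2) {D : Fin n → Submodule F (Fin n → F)}
    (hD : Cfsg.Geo.IsNondegenerateMDecomposition (Cfsg.hermForm n F q) 1 D) :
    ∃ B : GL (Fin n) F, B ∈ Cfsg.GU n F q ∧ ∀ i, (B : Matrix (Fin n) (Fin n) F) *ᵥ Pi.single i 1 ∈ D i := by
  have h1 : ∀ i, ∃ v ∈ D i, Cfsg.hermForm n F q v v = 1 := by
    intro i
    obtain ⟨b, hb, hspan⟩ := CfsgLib.Classical.exists_orthonormal_span hF (D i) (fun u hu hz => by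
      by_contra h0
      obtain ⟨x, hx, hfx⟩ := (hD.nondegenerate i u hu h0).2
      exact hfx (hz x hx))
    have hr : Module.finrank F (D i) = 1 := hD.decomp.finrank_eq i
    let i0 : Fin (Module.finrank F (D i)) := ⟨0, by omega⟩
    refine ⟨b i0, ?_, by rw [hb, if_pos rfl]⟩
    have := Submodule.subset_span (R := F) (Set.mem_range_self (f := b) i0)
    rwa [hspan] at this
  choose v hv hvv using h1
  obtain ⟨B, hB, hBv⟩ := exists_GU_of_orthonormal hF (v := v) (fun i j => by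
    by_cases h : i = j
    · subst h; rw [if_pos rfl, hvv]
    · rw [if_neg h]; exact hD.orthogonal i j h _ (hv i) _ (hv j))
  exact ⟨B, hB, fun i => by rw [hBv]; exact hv i⟩

theorem eval_single {p : ℕ} [Fact p.Prime] {φ : ZMod p →+* F} {r : F} {i : Fin 3} {x : ZMod p} (hx : x ≠ 0) {a : F}
    (h : a = el φ r (x, 0)) : a ≠ 0 := by
  rw [h]
  exact fun h0 => hx (φ.injective (by simpa [el] using h0))

theorem exists_two_nonzero_five : ∃ i i' j, i ≠ i' ∧ (ThreeFive.ratA i j ≠ 0) ∧ ThreeFive.ratA i' j ≠ 0 := by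
  decide +kernel

theorem exists_two_nonzero_three : ∃ i i' j, i ≠ i' ∧ ThreeThree.bW i j ≠ (0, 0) ∧ ThreeThree.bW i' j ≠ (0, 0) := by
  decide +kernel

theorem unit_three : ∀ a b c : ZMod 3, a * a + b * b + c * c = 1 →
    (a ≠ 0 ∧ b = 0 ∧ c = 0) ∨ (a = 0 ∧ b ≠ 0 ∧ c = 0) ∨ (a = 0 ∧ b = 0 ∧ c ≠ 0) := by decide +kernel

/-- The decomposition case does not occur in degree three for five. -/
theorem not_maximal_decomp_three_five (hF : Fintype.card F = 5 ^ 2) {D : Fin 3 → Submodule F (Fin 3 → F)}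
    (hD : Cfsg.Geo.IsNondegenerateMDecomposition (Cfsg.hermForm 3 F 5) 1 D) {H : Subgroup (GL (Fin 3) F)}
    (hH : Cfsg.Geo.IsMaximalIn (Cfsg.GU 3 F 5 ⊓ Cfsg.Geo.specialLinear (Fin 3) F) H)
    (heq : H = Cfsg.Geo.decompositionStabilizer D ⊓ (Cfsg.GU 3 F 5 ⊓ Cfsg.Geo.specialLinear (Fin 3) F)) : False := by
  classical
  haveI : Fact (Nat.Prime 5) := ⟨Nat.prime_five⟩
  obtain ⟨φ, r, σ, hc⟩ := exists_coding (ν := (2 : ZMod 5)) (h := 2) Nat.prime_five hF rfl two_pow_five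
  obtain ⟨B, hB, hBD⟩ := exists_orth_coords hF hD
  have hcoord : ∀ i, (((B⁻¹)⁻¹ : GL (Fin 3) F) : Matrix (Fin 3) (Fin 3) F) *ᵥ Pi.single i 1 ∈ D (Equiv.refl _ i) :=
    fun i => by rw [inv_inv]; exact hBD i
  have hmono : ∀ h ∈ H, ∃ (π : Equiv.Perm (Fin 3)) (c : Fin 3 → F),
      ((B⁻¹ * h * B : GL (Fin 3) F) : Matrix (Fin 3) (Fin 3) F) = fun i j => if i = π j then c j else 0 := by
    intro h hh
    rw [heq] at hh
    obtain ⟨π, c, -, hm⟩ := monoB_of_stab hD.decomp hcoord hh.1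
    rw [inv_inv] at hm
    exact ⟨π, c, by rw [Units.val_mul, Units.val_mul, hm]⟩
  obtain ⟨U, hU, hUG⟩ := exists_GL hc hF ThreeFive.aA_su
  obtain ⟨W, hW, hWG⟩ := exists_GL hc hF ThreeFive.aW_su
  refine not_maximal_of_overgroup (X := ThreeFive.group7 φ r) hH hB (fun h hh => ?_) hUG
    (mem_lineStab_of_perm hc ThreeFive.aA_perm hU) (fun hu => ?_) hWG (not_mem_lineStab_of_move hc ThreeFive.aW_move hW)
  · obtain ⟨π, c, hm⟩ := hmono h hh
    exact ThreeFive.monomial_mem hc hF (conj_inv_mem_SU hB (hH.1.le hh)) hm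
  · obtain ⟨π, c, hm⟩ := hmono _ hu
    rw [show B⁻¹ * (B * U * B⁻¹) * B = U by group, hU] at hm
    obtain ⟨i, i', j, hii, hi, hi'⟩ := exists_two_nonzero_five
    have e1 := congrFun (congrFun hm i) j
    have e2 := congrFun (congrFun hm i') j
    simp only [toM, Matrix.of_apply, (ThreeFive.rat_code _ _).1] at e1 e2
    by_cases hj : i = π j
    · rw [if_neg (fun h => hii (hj.trans h.symm))] at e2
      exact eval_single (F := F) (i := i) hi' e2.symm rfl
    · rw [if_neg hj] at e1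
      exact eval_single (F := F) (i := i) hi e1.symm rfl

/-- The shapes used to equalise a diagonal form. -/
def mixShape {p : ℕ} (k : Fin 4) : Fin 3 → Fin 3 → ZMod p :=
  ![![![1, 0, 0], ![0, 1, 0], ![0, 0, 1]], ![![1, 1, 0], ![1, -1, 0], ![0, 0, 1]],
    ![![1, 0, 1], ![0, 1, 0], ![1, 0, -1]], ![![1, 0, 0], ![0, 1, 1], ![0, 1, -1]]] k

/-- The Gram entries of a scaled shape for a diagonal form. -/
def mixGram {p : ℕ} (k : Fin 4) (a s : Fin 3 → ZMod p) (i j : Fin 3) : ZMod p :=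
  a 0 * (s 0 * mixShape k 0 i) * (s 0 * mixShape k 0 j) + a 1 * (s 1 * mixShape k 1 i) * (s 1 * mixShape k 1 j) +
    a 2 * (s 2 * mixShape k 2 i) * (s 2 * mixShape k 2 j)

set_option synthInstance.maxSize 2048 in
theorem mix_three : ∀ a b c : ZMod 3, a ≠ 0 → b ≠ 0 → c ≠ 0 →
    ∃ (k : Fin 4) (s t u : ZMod 3), mixGram k ![a, b, c] ![s, t, u] 0 0 ≠ 0 ∧
      ∀ i j, mixGram k ![a, b, c] ![s, t, u] i j = if i = j then mixGram k ![a, b, c] ![s, t, u] 0 0 else 0 := by
  decide +kernel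

set_option synthInstance.maxSize 2048 in
theorem mix_five : ∀ a b c : ZMod 5, a ≠ 0 → b ≠ 0 → c ≠ 0 →
    ∃ (k : Fin 4) (s t u : ZMod 5), mixGram k ![a, b, c] ![s, t, u] 0 0 ≠ 0 ∧
      ∀ i j, mixGram k ![a, b, c] ![s, t, u] i j = if i = j then mixGram k ![a, b, c] ![s, t, u] 0 0 else 0 := by
  decide +kernel

theorem norm_three : ∀ a : ZMod 3, a ≠ 0 → ∃ x y : ZMod 3, qmul 2 (x, y) (qconj (x, y)) = (a, 0) := by decide +kernel

theorem norm_five : ∀ a : ZMod 5, a ≠ 0 → ∃ x y : ZMod 5, qmul 2 (x, y) (qconj (x, y)) = (a, 0) := by decide +kernel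

/-- Elements of the index-two subfield subgroup are rational orthogonal up to scalars in orthonormal coordinates. -/
theorem exists_rational_coords {p : ℕ} [Fact p.Prime] {φ : ZMod p →+* F} {ν : ZMod p} {r : F} {σ : F ≃+* F}
    (hc : Coding φ ν r σ) (hF : Fintype.card F = p ^ 2) (h2 : (2 : ZMod p) ≠ 0)
    (hmix : ∀ a b c : ZMod p, a ≠ 0 → b ≠ 0 → c ≠ 0 →
      ∃ (k : Fin 4) (s t u : ZMod p), mixGram k ![a, b, c] ![s, t, u] 0 0 ≠ 0 ∧
        ∀ i j, mixGram k ![a, b, c] ![s, t, u] i j = if i = j then mixGram k ![a, b, c] ![s, t, u] 0 0 else 0)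
    (hnorm : ∀ a : ZMod p, a ≠ 0 → ∃ x y : ZMod p, qmul ν (x, y) (qconj (x, y)) = (a, 0))
    {F₀ : Subfield F} (hcard : Fintype.card F = Nat.card F₀ ^ 2) {P : GL (Fin 3) F}
    (hform : Cfsg.Geo.IsFormRationalStructure (Cfsg.hermForm 3 F p) F₀ 1 P) :
    ∃ B : GL (Fin 3) F, B ∈ Cfsg.GU 3 F p ∧ ∀ h ∈ Cfsg.Geo.subfieldSubgroup F₀ P,
      h ∈ Cfsg.GU 3 F p ⊓ Cfsg.Geo.specialLinear (Fin 3) F →
      ∃ (z : F) (N : Matrix (Fin 3) (Fin 3) (ZMod p)), z ≠ 0 ∧ Nᵀ * N = 1 ∧ N.det = 1 ∧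
        ((B⁻¹ * h * B : GL (Fin 3) F) : Matrix (Fin 3) (Fin 3) F) = z • N.map φ := by
  classical
  haveI : Invertible (2 : ZMod p) := invertibleOfNonzero h2
  have hinv : ∀ x, σ (σ x) = x := fun x => by
    rw [hc.frob, hc.frob, ← pow_mul, ← pow_two, ← hF, FiniteField.pow_card]
  have hσφ : ∀ z : ZMod p, σ (φ z) = φ z := fun z => by rw [hc.frob, ← map_pow, ZMod.pow_card]
  have hF0 : ∀ x ∈ F₀, ∃ a, φ a = x := by
    have hF0p : Nat.card F₀ = p := by
      rw [hF] at hcard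
      exact (Nat.pow_left_injective two_ne_zero hcard).symm
    have hsub : Set.range φ ⊆ (F₀ : Set F) := by
      rintro _ ⟨a, rfl⟩
      rw [← ZMod.natCast_zmod_val a, map_natCast]
      exact natCast_mem F₀ _
    have hr : (Set.range φ).ncard = p := by
      rw [Set.ncard_range_of_injective φ.injective, Nat.card_zmod]
    have heq := Set.eq_of_subset_of_ncard_le hsub (by rw [hr, ← hF0p]; exact le_of_eq (Nat.card_coe_set_eq _).symm)
    intro x hx
    have h : x ∈ Set.range φ := by rw [heq]; exact hx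
    exact h
  set Pm : Matrix (Fin 3) (Fin 3) F := (P : Matrix (Fin 3) (Fin 3) F) with hPm
  have hgram : ∀ i j, ((Pmᵀ).map σ * Pm) j i =
      Cfsg.hermForm 3 F p (Pm *ᵥ Pi.single i 1) (Pm *ᵥ Pi.single j 1) := by
    intro i j
    simp [hermForm_eq hc.frob, Matrix.mul_apply, mul_comm]
  have hG : ∀ i j, ∃ a : ZMod p, φ a = ((Pmᵀ).map σ * Pm) i j := by
    intro i j
    apply hF0
    have h := hform (Pi.single j 1) (Pi.single i 1)
      (fun k => by rw [Pi.single_apply]; split_ifs <;> simp [F₀.one_mem, F₀.zero_mem])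
      (fun k => by rw [Pi.single_apply]; split_ifs <;> simp [F₀.one_mem, F₀.zero_mem])
    rw [one_mul] at h
    rwa [hgram]
  choose G0 hG0 using hG
  let Gm : Matrix (Fin 3) (Fin 3) (ZMod p) := Matrix.of G0
  have hGmap : Gm.map φ = (Pmᵀ).map σ * Pm := by ext i j; exact hG0 i j
  have hGsymm : Gmᵀ = Gm := by
    ext i j
    apply φ.injective
    rw [Matrix.transpose_apply, ← hσφ (Gm i j)]
    change φ (G0 j i) = σ (φ (G0 i j))
    rw [hG0, hG0]
    simp [Matrix.mul_apply, hinv, mul_comm]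
  have hGdet : Gm.det ≠ 0 := fun h => by
    have h1 : (Gm.map φ).det = 0 := by rw [← RingHom.mapMatrix_apply, ← RingHom.map_det, h, map_zero]
    rw [hGmap, det_mul, ← RingEquiv.coe_toRingHom, ← RingHom.mapMatrix_apply, ← RingHom.map_det, det_transpose] at h1
    have hP : Pm.det ≠ 0 := (Matrix.GeneralLinearGroup.det P).ne_zero
    exact mul_ne_zero ((map_ne_zero _).mpr hP) hP h1
  have hsymm : LinearMap.IsSymm (Matrix.toBilin' Gm) := ⟨fun x y => by
    rw [Matrix.toBilin'_apply', Matrix.toBilin'_apply', dotProduct_comm, dotProduct_mulVec, ← Matrix.mulVec_transpose,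
      hGsymm, RingHom.id_apply]⟩
  obtain ⟨v, hv⟩ := LinearMap.BilinForm.exists_orthogonal_basis hsymm
  have hrk : Module.finrank (ZMod p) (Fin 3 → ZMod p) = 3 := by simp
  let w : Fin 3 → Fin 3 → ZMod p := fun i => v (Fin.cast hrk.symm i)
  let T₁ : Matrix (Fin 3) (Fin 3) (ZMod p) := Matrix.of fun a i => w i a
  have hT₁ : IsUnit T₁.det := by
    rw [← Matrix.isUnit_iff_isUnit_det, ← Matrix.linearIndependent_cols_iff_isUnit]
    exact v.linearIndependent.comp _ (Fin.cast_injective _)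
  set A := T₁ᵀ * Gm * T₁ with hA
  have hAij : ∀ i j, A i j = Matrix.toBilin' Gm (w i) (w j) := fun i j => by
    rw [hA, Matrix.mul_assoc, Matrix.toBilin'_apply']
    rfl
  have hAoff : ∀ i j, i ≠ j → A i j = 0 := fun i j hij => by
    rw [hAij]
    exact hv fun h => hij (Fin.cast_injective _ h)
  have hAdiag : A = Matrix.diagonal fun i => A i i := by
    ext i j
    by_cases h : i = j
    · subst h; simp
    · rw [hAoff i j h, Matrix.diagonal_apply_ne _ h]
  have hAne : ∀ i, A i i ≠ 0 := fun i h => by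
    have h1 : A.det = 0 := by rw [hAdiag, det_diagonal]; exact Finset.prod_eq_zero (Finset.mem_univ i) h
    rw [hA, det_mul, det_mul, det_transpose] at h1
    simp [hGdet, hT₁.ne_zero] at h1
  obtain ⟨k, s, t, u, hl0, hl⟩ := hmix _ _ _ (hAne 0) (hAne 1) (hAne 2)
  set lam := mixGram k ![A 0 0, A 1 1, A 2 2] ![s, t, u] 0 0 with hlam
  set T : Matrix (Fin 3) (Fin 3) (ZMod p) := T₁ * (Matrix.diagonal ![s, t, u] * Matrix.of (mixShape k)) with hT
  have hTG : Tᵀ * Gm * T = lam • 1 := by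
    have e : Tᵀ * Gm * T = (Matrix.diagonal ![s, t, u] * Matrix.of (mixShape k))ᵀ * A *
        (Matrix.diagonal ![s, t, u] * Matrix.of (mixShape k)) := by
      rw [hT, Matrix.transpose_mul, hA]
      simp only [Matrix.mul_assoc]
    rw [e, hAdiag]
    ext i j
    rw [Matrix.smul_apply, Matrix.one_apply, smul_eq_mul, mul_ite, mul_one, mul_zero, ← hl i j]
    simp only [mixGram, Matrix.mul_apply, Fin.sum_univ_three, Matrix.transpose_apply]
    simp [Matrix.diagonal_apply]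
    ring
  obtain ⟨x, y, hxy⟩ := hnorm lam⁻¹ (inv_ne_zero hl0)
  set l := el φ r (x, y) with hldef
  have hll : σ l * l = φ lam⁻¹ := by
    rw [mul_comm, hldef, ← el_conj hc, ← el_mul hc, hxy]
    simp [el]
  set C : Matrix (Fin 3) (Fin 3) F := l • (Pm * T.map φ) with hCdef
  have hC : Cᵀ.map σ * C = 1 := by
    have e1 : Cᵀ.map σ = σ l • (Tᵀ.map φ * Pmᵀ.map σ) := by
      rw [hCdef, Matrix.transpose_smul, Matrix.transpose_mul, Matrix.map_smul' _ _ _ (map_mul σ), Matrix.map_mul]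
      congr 2
      ext i j
      simp [hσφ]
    rw [e1, hCdef, Matrix.smul_mul, Matrix.mul_smul, smul_smul, hll,
      show Tᵀ.map φ * Pmᵀ.map σ * (Pm * T.map φ) = Tᵀ.map φ * (Pmᵀ.map σ * Pm) * T.map φ by simp [Matrix.mul_assoc],
      ← hGmap, ← Matrix.map_mul, ← Matrix.map_mul, hTG]
    ext i j
    have hl0' : φ lam ≠ 0 := (map_ne_zero φ).mpr hl0
    simp [Matrix.smul_apply, Matrix.one_apply]
    split_ifs <;> simp [hl0']
  let B : GL (Fin 3) F := ⟨C, Cᵀ.map σ, mul_eq_one_comm.mp hC, hC⟩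
  refine ⟨B, (mem_GU_iff hc.frob hinv B).mpr hC, ?_⟩
  rintro h ⟨m, hm, rfl⟩ hhG
  set h' : GL (Fin 3) F := B⁻¹ * (MulAut.conj P).toMonoidHom m * B with hh'
  have hh'G : h' ∈ Cfsg.GU 3 F p ⊓ Cfsg.Geo.specialLinear (Fin 3) F :=
    conj_inv_mem_SU ((mem_GU_iff hc.frob hinv B).mpr hC) hhG
  obtain ⟨_, ⟨g0, rfl⟩, c, hcs, rfl⟩ := Subgroup.mem_sup_of_normal_right.mp hm
  obtain ⟨cz, hcz⟩ := (Cfsg.Geo.mem_scalars_iff c).mp hcs
  have hg0 : ∀ i j, ∃ a, φ a = F₀.subtype ((g0 : Matrix (Fin 3) (Fin 3) F₀) i j) := fun i j =>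
    hF0 _ (Subtype.coe_prop _)
  choose M0 hM0 using hg0
  have hTdet : IsUnit T.det := by
    refine isUnit_iff_ne_zero.mpr fun h0 => hl0 ?_
    have h1 := congrArg Matrix.det hTG
    rw [det_mul, det_mul, det_transpose, h0, det_smul, det_one, mul_one, Fintype.card_fin] at h1
    exact eq_zero_of_pow_eq_zero (n := 3) (by rw [← h1]; ring)
  set N0 := T⁻¹ * Matrix.of M0 * T with hN0
  have hCN : C * ((cz : F) • N0.map φ) =
      (((MulAut.conj P).toMonoidHom (Matrix.GeneralLinearGroup.map F₀.subtype g0 * c) : GL (Fin 3) F) :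
        Matrix (Fin 3) (Fin 3) F) * C := by
    simp only [MulEquiv.toMonoidHom_eq_coe, MonoidHom.coe_coe, MulAut.conj_apply, Units.val_mul, hcz,
      Matrix.mul_smul, Matrix.mul_one, Matrix.smul_mul, hCdef, smul_smul]
    rw [mul_comm (cz : F) l]
    congr 1
    have hMmap : ((Matrix.GeneralLinearGroup.map F₀.subtype g0 : GL (Fin 3) F) : Matrix (Fin 3) (Fin 3) F) =
        (Matrix.of M0).map φ := by
      ext i j
      exact (hM0 i j).symm
    rw [hMmap, ← hPm]
    simp only [Matrix.mul_assoc]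
    rw [← Matrix.mul_assoc ((P⁻¹ : GL (Fin 3) F) : Matrix (Fin 3) (Fin 3) F) Pm, hPm, Units.inv_mul, Matrix.one_mul,
      ← Matrix.map_mul, ← Matrix.map_mul, hN0, ← Matrix.mul_assoc T, ← Matrix.mul_assoc T,
      Matrix.mul_nonsing_inv _ hTdet, Matrix.one_mul]
  have hval : (h' : Matrix (Fin 3) (Fin 3) F) = (cz : F) • N0.map φ := by
    rw [hh', Units.val_mul, Units.val_mul, Matrix.mul_assoc]
    change Cᵀ.map σ * (_ * C) = _
    rw [← hCN, ← Matrix.mul_assoc, hC, Matrix.one_mul]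
  -- normalise
  have hiso := (mem_GU_iff hc.frob hinv h').mp hh'G.1
  rw [hval, Matrix.transpose_smul, Matrix.map_smul' _ _ _ (map_mul σ), Matrix.smul_mul, Matrix.mul_smul, smul_smul,
    show (N0.map φ)ᵀ.map σ = N0ᵀ.map φ by ext i j; simp [hσφ], ← Matrix.map_mul] at hiso
  set μ := (N0ᵀ * N0) 0 0 with hμ
  have hμφ : σ (cz : F) * (cz : F) * φ μ = 1 := by
    have := congrFun (congrFun hiso 0) 0
    rwa [Matrix.smul_apply, Matrix.map_apply, smul_eq_mul, Matrix.one_apply_eq] at this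
  have hNN : N0ᵀ * N0 = μ • 1 := by
    ext i j
    apply φ.injective
    have h1 := congrFun (congrFun hiso i) j
    rw [Matrix.smul_apply, Matrix.map_apply, smul_eq_mul] at h1
    refine mul_left_cancel₀ (left_ne_zero_of_mul_eq_one hμφ) ?_
    rw [h1, Matrix.smul_apply, smul_eq_mul, map_mul, ← mul_assoc, hμφ, one_mul]
    rw [Matrix.one_apply, Matrix.one_apply]
    split_ifs <;> simp
  have hμ0 : μ ≠ 0 := fun h => by rw [h, map_zero, mul_zero] at hμφ; exact zero_ne_one hμφ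
  have hd2 : N0.det * N0.det = μ ^ 3 := by
    have := congrArg Matrix.det hNN
    rwa [det_mul, det_transpose, det_smul, det_one, mul_one, Fintype.card_fin] at this
  have hd0 : N0.det ≠ 0 := fun h => by rw [h, mul_zero] at hd2; exact pow_ne_zero 3 hμ0 hd2.symm
  set s' := N0.det / μ with hs'
  have hs0 : s' ≠ 0 := div_ne_zero hd0 hμ0
  have hss : s' * s' = μ := by
    rw [hs', div_mul_div_comm, hd2, div_eq_iff (mul_ne_zero hμ0 hμ0)]
    ring
  refine ⟨(cz : F) * φ s', s'⁻¹ • N0, mul_ne_zero cz.ne_zero ((map_ne_zero φ).mpr hs0), ?_, ?_, ?_⟩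
  · rw [Matrix.transpose_smul, Matrix.smul_mul, Matrix.mul_smul, smul_smul, hNN, smul_smul, ← mul_inv, hss,
      inv_mul_cancel₀ hμ0, one_smul]
  · rw [det_smul, Fintype.card_fin, inv_pow, pow_succ, pow_two, hss, hs']
    field_simp
  · rw [hval, Matrix.map_smul' _ _ _ (map_mul φ), smul_smul, mul_assoc, ← map_mul, mul_inv_cancel₀ hs0, map_one,
      mul_one]

theorem not_rational {p : ℕ} [Fact p.Prime] {φ : ZMod p →+* F} {ν : ZMod p} {r : F} {σ : F ≃+* F} (hc : Coding φ ν r σ)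
    {A : Fin 3 → Fin 3 → ZMod p × ZMod p} {i j : Fin 3} (hi : A i i = (1, 0)) (hj : (A j j).2 ≠ 0) {z : F}
    {N : Matrix (Fin 3) (Fin 3) (ZMod p)} (h : toM φ r A = z • N.map φ) : False := by
  have e1 : el φ r (A i i) = z * φ (N i i) := congrFun (congrFun h i) i
  have e2 : el φ r (A j j) = z * φ (N j j) := congrFun (congrFun h j) j
  rw [hi, el_one] at e1
  simp only [el] at e2
  have h3 : φ ((A j j).1 * N i i - N j j) + φ ((A j j).2 * N i i) * r = 0 := by
    rw [map_sub, map_mul, map_mul]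
    linear_combination φ (N i i) * e2 - φ (N j j) * e1
  rcases mul_eq_zero.mp (hc.inj _ _ h3).2 with h4 | h4
  · exact hj h4
  · rw [h4, map_zero, mul_zero] at e1
    exact one_ne_zero e1

theorem diag_code_five : ThreeFive.aD0 1 1 = (1, 0) ∧ (ThreeFive.aD0 0 0).2 ≠ 0 := by decide +kernel

/-- The index-two subfield case does not occur in degree three for five. -/
theorem not_maximal_subfield_three_five (hF : Fintype.card F = 5 ^ 2) {F₀ : Subfield F}
    (hcard : Fintype.card F = Nat.card F₀ ^ 2) {P : GL (Fin 3) F}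
    (hform : Cfsg.Geo.IsFormRationalStructure (Cfsg.hermForm 3 F 5) F₀ 1 P) {H : Subgroup (GL (Fin 3) F)}
    (hH : Cfsg.Geo.IsMaximalIn (Cfsg.GU 3 F 5 ⊓ Cfsg.Geo.specialLinear (Fin 3) F) H)
    (heq : H = Cfsg.Geo.subfieldSubgroup F₀ P ⊓ (Cfsg.GU 3 F 5 ⊓ Cfsg.Geo.specialLinear (Fin 3) F)) : False := by
  classical
  haveI : Fact (Nat.Prime 5) := ⟨Nat.prime_five⟩
  obtain ⟨φ, r, σ, hc⟩ := exists_coding (ν := (2 : ZMod 5)) (h := 2) Nat.prime_five hF rfl two_pow_five
  have h2 : (2 : ZMod 5) ≠ 0 := fun h => by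
    have := two_pow_five
    rw [h, zero_pow two_ne_zero] at this
    exact one_ne_zero (neg_eq_zero.mp this.symm)
  obtain ⟨B, hB, hrat⟩ := exists_rational_coords hc hF h2 mix_five norm_five hcard hform
  obtain ⟨U, hU, hUG⟩ := exists_GL hc hF ThreeFive.aD0_su
  obtain ⟨W, hW, hWG⟩ := exists_GL hc hF ThreeFive.aW_su
  refine not_maximal_of_overgroup (X := ThreeFive.group7 φ r) hH hB (fun h hh => ?_) hUG
    (mem_lineStab_of_perm hc ThreeFive.aD0_perm hU) (fun hu => ?_) hWG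
    (not_mem_lineStab_of_move hc ThreeFive.aW_move hW)
  · have hh' := heq ▸ hh
    obtain ⟨z, N, hz, hN, hNd, hval⟩ := hrat h hh'.1 hh'.2
    obtain ⟨g, hg, -⟩ := ThreeFive.exists_rational hc hF hN hNd
    have hs : (B⁻¹ * h * B) * g⁻¹ ∈ Cfsg.Geo.scalars (Fin 3) F := scalars_of_matrix (z := z) (by
      rw [Units.val_mul, hval, ← hg, Matrix.smul_mul, Units.mul_inv])
    rw [show B⁻¹ * h * B = (B⁻¹ * h * B * g⁻¹) * g by group]
    exact Subgroup.mul_mem _ (scalars_le_lineStab _ hs) (ThreeFive.orth_mem hc hF hN hNd hg)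
  · have hu' := heq ▸ hu
    obtain ⟨z, N, -, -, -, hval⟩ := hrat _ hu'.1 hu'.2
    rw [show B⁻¹ * (B * U * B⁻¹) * B = U by group, hU] at hval
    exact not_rational hc diag_code_five.1 diag_code_five.2 hval

/-- A diagonal element outside the rational ones. -/
def diagThree : Fin 3 → Fin 3 → ZMod 3 × ZMod 3 :=
  ![![(0, 1), (0, 0), (0, 0)], ![(0, 0), (0, 2), (0, 0)], ![(0, 0), (0, 0), (1, 0)]]

theorem diagThree_su : IsSUCode 2 diagThree := by decide +kernel

theorem diagThree_shape : (∀ i j, i ≠ j → diagThree i j = (0, 0)) ∧ diagThree 2 2 = (1, 0) ∧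
    (diagThree 0 0).2 ≠ 0 := by decide +kernel

/-- The index-two subfield case does not occur in degree three for three. -/
theorem not_maximal_subfield_three_three (hF : Fintype.card F = 3 ^ 2) {F₀ : Subfield F}
    (hcard : Fintype.card F = Nat.card F₀ ^ 2) {P : GL (Fin 3) F}
    (hform : Cfsg.Geo.IsFormRationalStructure (Cfsg.hermForm 3 F 3) F₀ 1 P) {H : Subgroup (GL (Fin 3) F)}
    (hH : Cfsg.Geo.IsMaximalIn (Cfsg.GU 3 F 3 ⊓ Cfsg.Geo.specialLinear (Fin 3) F) H)
    (heq : H = Cfsg.Geo.subfieldSubgroup F₀ P ⊓ (Cfsg.GU 3 F 3 ⊓ Cfsg.Geo.specialLinear (Fin 3) F)) : False := by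
  classical
  haveI : Fact (Nat.Prime 3) := ⟨Nat.prime_three⟩
  obtain ⟨φ, r, σ, hc⟩ := exists_coding (ν := (2 : ZMod 3)) (h := 1) Nat.prime_three hF rfl two_pow_three
  have h2 : (2 : ZMod 3) ≠ 0 := fun h => by
    have := two_pow_three
    rw [h, pow_one] at this
    exact one_ne_zero (neg_eq_zero.mp this.symm)
  obtain ⟨B, hB, hrat⟩ := exists_rational_coords hc hF h2 mix_three norm_three hcard hform
  obtain ⟨U, hU, hUG⟩ := exists_GL hc hF diagThree_su
  obtain ⟨W, hW, hWG⟩ := exists_GL hc hF ThreeThree.bW_su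
  refine not_maximal_of_overgroup (X := lineStab fun k : Fin 3 => (Pi.single k 1 : Fin 3 → F)) hH hB (fun h hh => ?_) hUG
    (fun k => ⟨k, el φ r (diagThree k k), ?_⟩) (fun hu => ?_) hWG (fun hw => ?_)
  · have hh' := heq ▸ hh
    obtain ⟨z, N, hz, hN, -, hval⟩ := hrat h hh'.1 hh'.2
    intro k
    have hcol : N 0 k * N 0 k + N 1 k * N 1 k + N 2 k * N 2 k = 1 := by
      have h := congrFun (congrFun hN k) k
      simpa [Matrix.mul_apply, Fin.sum_univ_three] using h
    rcases unit_three _ _ _ hcol with ⟨-, h1, h2⟩ | ⟨h0, -, h2⟩ | ⟨h0, h1, -⟩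
    · refine ⟨0, z * φ (N 0 k), ?_⟩
      rw [hval]
      funext a
      fin_cases a <;> simp [h1, h2]
    · refine ⟨1, z * φ (N 1 k), ?_⟩
      rw [hval]
      funext a
      fin_cases a <;> simp [h0, h2]
    · refine ⟨2, z * φ (N 2 k), ?_⟩
      rw [hval]
      funext a
      fin_cases a <;> simp [h0, h1]
  · change (U : Matrix (Fin 3) (Fin 3) F) *ᵥ Pi.single k 1 = _
    rw [hU]
    funext a
    by_cases hak : a = k
    · subst hak; simp [toM]
    · simp [toM, diagThree_shape.1 a k hak, hak, el]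
  · have hu' := heq ▸ hu
    obtain ⟨z, N, -, -, -, hval⟩ := hrat _ hu'.1 hu'.2
    rw [show B⁻¹ * (B * U * B⁻¹) * B = U by group, hU] at hval
    exact not_rational hc diagThree_shape.2.1 diagThree_shape.2.2 hval
  · obtain ⟨i, i', j, hii, hi, hi'⟩ := exists_two_nonzero_three
    obtain ⟨l, c, hcw⟩ := hw j
    change (W : Matrix (Fin 3) (Fin 3) F) *ᵥ Pi.single j 1 = _ at hcw
    rw [hW] at hcw
    have hz : ∀ a, a ≠ l → ThreeThree.bW a j = (0, 0) := fun a ha => el_injective hc (by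
      have := congrFun hcw a
      simpa [toM, ha, el] using this)
    by_cases hil : i = l
    · exact hi' (hz i' fun h => hii (hil.trans h.symm))
    · exact hi (hz i hil)

end CfsgLib.Techniques.AschPrimeU
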