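/-
Normal forms of the extraspecial group of order 27 and the representatives of its normaliser.
-/
import Cfsg.Agent.Lib.Techniques.AschPrimeU.ThreeCert

set_option autoImplicit false
set_option maxRecDepth 8000

namespace CfsgLib.Techniques.AschPrimeU.ThreeFive

open QuadCode

/-- Powers of the cube root of unity. -/
def omegaPow : Fin 3 → ZMod 5 × ZMod 5 := ![(1, 0), mX 1 1, mX 2 2]

/-- The normal form of an element. -/
def formCode (k i j : Fin 3) (l m : Fin 3) : ZMod 5 × ZMod 5 := if l = m + j then omegaPow (k + i * l) else (0, 0)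

/-- Normaliser representatives, by the image of the first generator. -/
def repG : Fin 3 → Fin 3 → Fin 3 → Fin 3 → ZMod 5 × ZMod 5 := ![![mX, mG01, mG02], ![mG10, mG11, mG12], ![mG20, mG21, mG22]]

/-- The scalar part of that image. -/
def repK : Fin 3 → Fin 3 → Fin 3 := ![![0, mK01, mK02], ![mK10, mK11, mK12], ![mK20, mK21, mK22]]

/-- Their permutations. -/
def repPerm : Fin 3 → Fin 3 → Fin 36 → Fin 36 := ![![mXPerm, mG01Perm, mG02Perm], ![mG10Perm, mG11Perm, mG12Perm], ![mG20Perm, mG21Perm, mG22Perm]]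

/-- Their multipliers. -/
def repMult : Fin 3 → Fin 3 → Fin 36 → ZMod 5 × ZMod 5 := ![![mXMult, mG01Mult, mG02Mult], ![mG10Mult, mG11Mult, mG12Mult], ![mG20Mult, mG21Mult, mG22Mult]]

theorem form_generators : ∀ l m, formCode 0 1 0 l m = mX l m ∧ formCode 0 0 1 l m = mY l m ∧
    formCode 0 0 0 l m = one3 l m := by decide +kernel

theorem form_step : ∀ k : Fin 3, ∀ l m, mulM 2 (formCode k 0 0) (formCode 1 0 0) l m = formCode (k + 1) 0 0 l m ∧
    mulM 2 (formCode 0 k 0) (formCode 0 1 0) l m = formCode 0 (k + 1) 0 l m ∧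
    mulM 2 (formCode 0 0 k) (formCode 0 0 1) l m = formCode 0 0 (k + 1) l m := by decide +kernel

theorem form_mul : ∀ k i j, ∀ l m, mulM 2 (mulM 2 (formCode k 0 0) (formCode 0 i 0)) (formCode 0 0 j) l m =
    formCode k i j l m := by decide +kernel

theorem form_su : IsSUCode 2 (formCode 1 0 0) := by decide +kernel

theorem rep_twist : ∀ i j, (i ≠ 0 ∨ j ≠ 0) → ∀ l m,
    mulM 2 (repG i j) mX l m = mulM 2 (formCode (repK i j) i j) (repG i j) l m := by decide +kernel

theorem rep_normal : ∀ i j, ∃ k a b, ∀ l m,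
    mulM 2 (repG i j) mY l m = mulM 2 (formCode k a b) (repG i j) l m := by decide +kernel

theorem mU_twist : ∀ k i j, ∃ l m, mulM 2 mU mX l m ≠ mulM 2 (formCode k i j) mU l m := by decide +kernel

theorem omega_facts : omegaPow 1 ≠ (1, 0) ∧ qmul 2 (omegaPow 1) (omegaPow 1) = omegaPow 2 ∧
    qmul 2 (omegaPow 2) (omegaPow 1) = (1, 0) := by decide +kernel

theorem rep_su : ∀ i j, IsSUCode 2 (repG i j) := by
  intro i j
  fin_cases i <;> fin_cases j
  exacts [mX_su, mG01_su, mG02_su, mG10_su, mG11_su, mG12_su, mG20_su, mG21_su, mG22_su]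

theorem rep_perm : ∀ i j, PermCode 2 mPts (repG i j) (repPerm i j) (repMult i j) := by
  intro i j
  fin_cases i <;> fin_cases j
  exacts [mX_perm, mG01_perm, mG02_perm, mG10_perm, mG11_perm, mG12_perm, mG20_perm, mG21_perm, mG22_perm]

end CfsgLib.Techniques.AschPrimeU.ThreeFive
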