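/-
The symplectic type case does not occur in degree three for five.
-/
import Cfsg.Agent.Lib.Techniques.AschPrimeU.ThreeSympData
import Cfsg.Agent.Lib.Techniques.AschPrimeU.ThreeDecomp

set_option autoImplicit false
set_option maxRecDepth 8000

namespace CfsgLib.Techniques.AschPrimeU

open Matrix CfsgLib.Transvec CfsgLib.Transvec.Unitary CfsgLib.Techniques.AschPrime QuadCode
open scoped MatrixGroups Fin.NatCast

variable {F : Type*} [Field F]

/-- A matrix of order dividing three has an eigenvector. -/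
theorem exists_eigen_three {X : Matrix (Fin 3) (Fin 3) F} (hX : X ^ 3 = 1) {ω : F} (h1 : ω ^ 2 + ω + 1 = 0) :
    ∃ (k : ℕ) (v : Fin 3 → F), v ≠ 0 ∧ X *ᵥ v = ω ^ k • v := by
  set v0 : Fin 3 → F := Pi.single 0 1
  set u1 := X *ᵥ v0 - v0 with hu1
  by_cases e1 : u1 = 0
  · exact ⟨0, v0, by simp [v0], by rw [pow_zero, one_smul]; exact sub_eq_zero.mp e1⟩
  set u2 := X *ᵥ u1 - ω • u1 with hu2
  by_cases e2 : u2 = 0
  · exact ⟨1, u1, e1, by rw [pow_one]; exact sub_eq_zero.mp e2⟩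
  refine ⟨2, u2, e2, sub_eq_zero.mp ?_⟩
  have h3 : X *ᵥ (X *ᵥ (X *ᵥ v0)) = v0 := by
    rw [mulVec_mulVec, mulVec_mulVec, show X * X * X = X ^ 3 by rw [pow_succ, pow_two], hX, one_mulVec]
  have hω3 : ω ^ 3 = 1 := by linear_combination (ω - 1) * h1
  simp only [hu2, hu1, mulVec_sub, mulVec_smul]
  rw [h3]
  funext i
  simp only [Pi.sub_apply, Pi.smul_apply, smul_eq_mul, Pi.zero_apply]
  linear_combination ((X *ᵥ v0) i - (X *ᵥ (X *ᵥ v0)) i) * h1 + ((X *ᵥ v0) i - v0 i) * hω3 - (X *ᵥ v0) i * 0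

/-- Conjugation by powers in a twisted pair. -/
theorem twist_pow {G : Type*} [Group G] {a b z : G} (hz : ∀ g : G, z * g = g * z) (h : a * b * a⁻¹ = z * b) (j : ℕ) :
    a ^ j * b * (a ^ j)⁻¹ = z ^ j * b := by
  induction j with
  | zero => simp
  | succ k ih =>
    have hk : a ^ k * z = z * a ^ k := (hz _).symm
    calc a ^ (k + 1) * b * (a ^ (k + 1))⁻¹ = a ^ k * (a * b * a⁻¹) * (a ^ k)⁻¹ := by rw [pow_succ]; group
      _ = a ^ k * z * b * (a ^ k)⁻¹ := by rw [h]; group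
      _ = z * (a ^ k * b * (a ^ k)⁻¹) := by rw [hk]; group
      _ = z ^ (k + 1) * b := by rw [ih, pow_succ', mul_assoc]

variable [Fintype F]

/-- The symplectic type case does not occur in degree three for five. -/
theorem not_maximal_symp_three_five (hF : Fintype.card F = 5 ^ 2) {R : Subgroup (GL (Fin 3) F)}
    (hR : AbsIrr R) (hRGU : R ≤ Cfsg.GU 3 F 5) (hcard : Nat.card R = 27) (hcen : Nat.card (Subgroup.center R) = 3)
    (hexp : ∀ s ∈ R, s ^ 3 = 1) {H : Subgroup (GL (Fin 3) F)}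
    (hH : Cfsg.Geo.IsMaximalIn (Cfsg.GU 3 F 5 ⊓ Cfsg.Geo.specialLinear (Fin 3) F) H)
    (hle : H ≤ Cfsg.Geo.subgroupNormalizer R) : False := by
  classical
  haveI : Fact (Nat.Prime 5) := ⟨Nat.prime_five⟩
  obtain ⟨φ, r, σ, hc⟩ := exists_coding (ν := (2 : ZMod 5)) (h := 2) Nat.prime_five hF rfl two_pow_five
  set ω := el φ r (ThreeFive.omegaPow 1) with hω
  have hω2 : el φ r (ThreeFive.omegaPow 2) = ω ^ 2 := by
    rw [← ThreeFive.omega_facts.2.1, el_mul hc, pow_two]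
  have hω3 : ω ^ 3 = 1 := by
    rw [pow_succ, ← hω2, hω, ← el_mul hc, ThreeFive.omega_facts.2.2, el_one]
  have hω1 : ω ≠ 1 := fun h => ThreeFive.omega_facts.1 (el_injective hc (by rw [← hω, h, el_one]))
  have hωsum : ω ^ 2 + ω + 1 = 0 := by
    have h : (ω - 1) * (ω ^ 2 + ω + 1) = 0 := by linear_combination hω3
    exact (mul_eq_zero.mp h).resolve_left (sub_ne_zero.mpr hω1)
  haveI : Fact (Nat.Prime 3) := ⟨Nat.prime_three⟩
  have hprim : IsPrimitiveRoot ω 3 := orderOf_eq_prime hω3 hω1 ▸ IsPrimitiveRoot.orderOf ω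
  have hel : ∀ k : Fin 3, el φ r (ThreeFive.omegaPow k) = ω ^ (k : ℕ) := by
    intro k
    fin_cases k
    · change el φ r (1, 0) = ω ^ 0
      rw [pow_zero, el_one]
    · exact (pow_one ω).symm
    · exact hω2
  have hωσ : σ ω = ω ^ 2 := by
    rw [hc.frob, show ω ^ 5 = ω ^ 3 * ω ^ 2 by ring, hω3, one_mul]
  have hω0 : ω ≠ 0 := hprim.ne_zero (by norm_num)
  have h30 : (3 : F) ≠ 0 := fun h => hω1 (by
    have h2 : (ω - 1) ^ 2 = 0 := by linear_combination hωsum - ω * h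
    exact sub_eq_zero.mp (pow_eq_zero_iff two_ne_zero |>.mp h2))
  obtain ⟨σ', hσ', hinv', hne⟩ := exists_frob hF
  have hσeq : σ' = σ := RingEquiv.ext fun x => by rw [hσ', hc.frob]
  rw [hσeq] at hσ' hinv' hne
  have hf := isUnitaryForm_hermForm (n := 3) hc.frob hinv' hne
  -- commutators are scalar
  have hcomm : ∀ a ∈ R, ∀ b ∈ R, ∃ k < 3,
      ((a * b * a⁻¹ * b⁻¹ : GL (Fin 3) F) : Matrix (Fin 3) (Fin 3) F) = ω ^ k • 1 := by
    intro a ha b hb
    have hq : Nat.card (R ⧸ Subgroup.center R) = 3 ^ 2 := by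
      have h := Subgroup.card_eq_card_quotient_mul_card_subgroup (Subgroup.center R)
      rw [hcard, hcen] at h
      omega
    have h1 : (((⟨a, ha⟩ : R) * ⟨b, hb⟩ * (⟨a, ha⟩ : R)⁻¹ * (⟨b, hb⟩ : R)⁻¹ : R)) ∈ Subgroup.center R := by
      rw [← QuotientGroup.eq_one_iff]
      simp only [QuotientGroup.mk_mul, QuotientGroup.mk_inv]
      rw [IsPGroup.commutative_of_card_eq_prime_sq hq ((⟨a, ha⟩ : R) : R ⧸ Subgroup.center R),
        mul_inv_cancel_right, mul_inv_cancel]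
    have hsc : a * b * a⁻¹ * b⁻¹ ∈ Cfsg.Geo.scalars (Fin 3) F := hR.mem_scalars fun s hs =>
      congrArg Subtype.val (Subgroup.mem_center_iff.mp h1 ⟨s, hs⟩).symm
    obtain ⟨z, hz⟩ := (Cfsg.Geo.mem_scalars_iff _).mp hsc
    have h2 := congrArg Units.val (hexp _ (R.mul_mem (R.mul_mem (R.mul_mem ha hb) (R.inv_mem ha)) (R.inv_mem hb)))
    rw [Units.val_pow_eq_pow_val, hz, smul_pow, one_pow, Units.val_one] at h2
    obtain ⟨k, hk, hkz⟩ := hprim.eq_pow_of_pow_eq_one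
      (smul_left_injective F (one_ne_zero (α := Matrix (Fin 3) (Fin 3) F)) (h2.trans (one_smul F _).symm))
    exact ⟨k, hk, by rw [hz, hkz]⟩
  -- a twisted pair
  obtain ⟨x, hx, y, hy, hxy⟩ : ∃ x ∈ R, ∃ y ∈ R,
      ((x * y * x⁻¹ * y⁻¹ : GL (Fin 3) F) : Matrix (Fin 3) (Fin 3) F) = ω • 1 := by
    obtain ⟨x, hx, y, hy, hxy⟩ : ∃ x ∈ R, ∃ y ∈ R, x * y ≠ y * x := by
      by_contra h
      push Not at h
      have : (Subgroup.center R) = ⊤ := eq_top_iff.mpr fun a _ => Subgroup.mem_center_iff.mpr fun b =>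
        Subtype.ext (h b b.2 a a.2)
      rw [this, Nat.card_congr Subgroup.topEquiv.toEquiv, hcard] at hcen
      omega
    obtain ⟨k, hk, hkz⟩ := hcomm x hx y hy
    interval_cases k
    · refine absurd ?_ hxy
      have : x * y * x⁻¹ * y⁻¹ = 1 := Units.ext (by rw [hkz, pow_zero, one_smul, Units.val_one])
      rwa [mul_inv_eq_one, mul_inv_eq_iff_eq_mul] at this
    · exact ⟨x, hx, y, hy, by rw [hkz, pow_one]⟩
    · refine ⟨y, hy, x, hx, ?_⟩
      have e : (x * y * x⁻¹ * y⁻¹) * (y * x * y⁻¹ * x⁻¹) = 1 := by group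
      have e' := congrArg Units.val e
      rw [Units.val_mul, hkz, Matrix.smul_mul, Matrix.one_mul, Units.val_one] at e'
      calc _ = ω • (ω ^ 2 • ((y * x * y⁻¹ * x⁻¹ : GL (Fin 3) F) : Matrix (Fin 3) (Fin 3) F)) := by
              rw [smul_smul, ← pow_succ', hω3, one_smul]
        _ = ω • 1 := by rw [e']
  set c : GL (Fin 3) F := x * y * x⁻¹ * y⁻¹ with hcdef
  have hcR : c ∈ R := R.mul_mem (R.mul_mem (R.mul_mem hx hy) (R.inv_mem hx)) (R.inv_mem hy)
  have hcpow : ∀ m : ℕ, ((c ^ m : GL (Fin 3) F) : Matrix (Fin 3) (Fin 3) F) = ω ^ m • 1 := fun m => by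
    rw [Units.val_pow_eq_pow_val, hxy, smul_pow, one_pow]
  -- an eigenvector with eigenvalue one
  obtain ⟨k, v, hv, hkv⟩ := exists_eigen_three (X := (x : Matrix (Fin 3) (Fin 3) F))
    (by rw [← Units.val_pow_eq_pow_val, hexp x hx, Units.val_one]) hωsum
  set x1 := c ^ (2 * k) * x with hx1
  have hx1R : x1 ∈ R := R.mul_mem (R.pow_mem hcR _) hx
  set Xm : Matrix (Fin 3) (Fin 3) F := (x1 : Matrix (Fin 3) (Fin 3) F) with hXm
  set Ym : Matrix (Fin 3) (Fin 3) F := (y : Matrix (Fin 3) (Fin 3) F) with hYm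
  have hXv : Xm *ᵥ v = v := by
    rw [hXm, hx1, Units.val_mul, hcpow, Matrix.smul_mul, Matrix.one_mul, smul_mulVec, hkv, smul_smul, ← pow_add,
      show 2 * k + k = 3 * k by ring, pow_mul, hω3, one_pow, one_smul]
  have hXY : Xm * Ym = ω • (Ym * Xm) := by
    have e : x1 * y = c * (y * x1) := by
      have hcc : ∀ g : GL (Fin 3) F, c * g = g * c := fun g =>
        scalars_comm (scalars_of_matrix (z := ω) hxy) g
      have hcc' : ∀ g : GL (Fin 3) F, c ^ (2 * k) * g = g * c ^ (2 * k) := fun g =>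
        ((Commute.pow_left (hcc g) _)).eq
      calc x1 * y = c ^ (2 * k) * (x * y * x⁻¹ * y⁻¹) * (y * x) := by rw [hx1]; group
        _ = c * (c ^ (2 * k) * y) * x := by rw [← hcdef, hcc' c]; group
        _ = c * (y * x1) := by rw [hcc' y, hx1]; group
    have e' := congrArg Units.val e
    rw [Units.val_mul x1 y, Units.val_mul c, Units.val_mul y x1, hxy, Matrix.smul_mul, Matrix.one_mul] at e'
    exact e'
  have hX1 : Xm *ᵥ (Ym *ᵥ v) = ω • (Ym *ᵥ v) := by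
    rw [mulVec_mulVec, hXY, smul_mulVec, ← mulVec_mulVec, hXv]
  have hX2 : Xm *ᵥ (Ym *ᵥ (Ym *ᵥ v)) = ω ^ 2 • (Ym *ᵥ (Ym *ᵥ v)) := by
    rw [mulVec_mulVec _ Xm, hXY, smul_mulVec, ← mulVec_mulVec, hX1, mulVec_smul, smul_smul, pow_two]
  have hY3 : Ym *ᵥ (Ym *ᵥ (Ym *ᵥ v)) = v := by
    rw [mulVec_mulVec, mulVec_mulVec, show Ym * Ym * Ym = Ym ^ 3 by rw [pow_succ, pow_two], hYm,
      ← Units.val_pow_eq_pow_val, hexp y hy, Units.val_one, one_mulVec]
  set f := Cfsg.hermForm 3 F 5 with hfdef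
  have hisoX : ∀ a b, f (Xm *ᵥ a) (Xm *ᵥ b) = f a b := hRGU hx1R
  have hisoY : ∀ a b, f (Ym *ᵥ a) (Ym *ᵥ b) = f a b := hRGU hy
  have horth : ∀ (a b : Fin 3 → F) (i j : ℕ), Xm *ᵥ a = ω ^ i • a → Xm *ᵥ b = ω ^ j • b → (i + 2 * j) % 3 ≠ 0 →
      f a b = 0 := by
    intro a b i j ha hb hij
    have h := hisoX a b
    rw [ha, hb, hf.smul_left, smul_right' hf, map_pow, hωσ, ← pow_mul, ← mul_assoc, ← pow_add] at h
    by_contra h0
    exact hij (Nat.mod_eq_zero_of_dvd (hprim.dvd_of_pow_eq_one _ (mul_right_cancel₀ h0 (h.trans (one_mul _).symm))))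
  have hXv' : Xm *ᵥ v = ω ^ 0 • v := by rw [pow_zero, one_smul, hXv]
  have hX1' : Xm *ᵥ (Ym *ᵥ v) = ω ^ 1 • (Ym *ᵥ v) := by rw [pow_one, hX1]
  -- anisotropy
  have hvv : f v v ≠ 0 := by
    intro h0
    let vs : Fin 3 → Fin 3 → F := ![v, Ym *ᵥ v, Ym *ᵥ (Ym *ᵥ v)]
    have hli : LinearIndependent F vs := by
      rw [Fintype.linearIndependent_iff]
      intro g hg
      rw [Fin.sum_univ_three] at hg
      simp only [vs, Matrix.cons_val_zero, Matrix.cons_val_one, Matrix.cons_val] at hg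
      have h1 := congrArg (Xm *ᵥ ·) hg
      simp only [mulVec_add, mulVec_smul, hXv, hX1, hX2, mulVec_zero] at h1
      have h2 := congrArg (Xm *ᵥ ·) h1
      simp only [mulVec_add, mulVec_smul, hXv, hX1, hX2, mulVec_zero] at h2
      have hv1 : Ym *ᵥ v ≠ 0 := CfsgLib.Transvec.mulVec_ne_zero y hv
      have hv2 : Ym *ᵥ (Ym *ᵥ v) ≠ 0 := CfsgLib.Transvec.mulVec_ne_zero y hv1
      have key : ∀ (m : F) (w : Fin 3 → F), w ≠ 0 → (3 * m) • w = 0 → m = 0 := fun m w hw h =>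
        (mul_eq_zero.mp ((smul_eq_zero.mp h).resolve_right hw)).resolve_left h30
      intro i
      fin_cases i
      · change g 0 = 0
        refine key _ v hv (funext fun l => ?_)
        have a0 := congrFun hg l; have a1 := congrFun h1 l; have a2 := congrFun h2 l
        simp only [Pi.add_apply, Pi.smul_apply, smul_eq_mul, Pi.zero_apply] at a0 a1 a2 ⊢
        linear_combination a0 + a1 + a2 - (g 1 * (Ym *ᵥ v) l + g 2 * (Ym *ᵥ (Ym *ᵥ v)) l) * hωsum -
          (g 2 * ω * (Ym *ᵥ (Ym *ᵥ v)) l) * hω3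
      · change g 1 = 0
        refine key _ _ hv1 (funext fun l => ?_)
        have a0 := congrFun hg l; have a1 := congrFun h1 l; have a2 := congrFun h2 l
        simp only [Pi.add_apply, Pi.smul_apply, smul_eq_mul, Pi.zero_apply] at a0 a1 a2 ⊢
        linear_combination a0 + ω ^ 2 * a1 + ω * a2 - (g 0 * v l + g 2 * (Ym *ᵥ (Ym *ᵥ v)) l) * hωsum -
          (2 * g 1 * (Ym *ᵥ v) l + g 2 * ω * (Ym *ᵥ (Ym *ᵥ v)) l + g 2 * ω ^ 2 * (Ym *ᵥ (Ym *ᵥ v)) l) * hω3
      · change g 2 = 0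
        refine key _ _ hv2 (funext fun l => ?_)
        have a0 := congrFun hg l; have a1 := congrFun h1 l; have a2 := congrFun h2 l
        simp only [Pi.add_apply, Pi.smul_apply, smul_eq_mul, Pi.zero_apply] at a0 a1 a2 ⊢
        linear_combination a0 + ω * a1 + ω ^ 2 * a2 - (g 0 * v l + g 1 * (Ym *ᵥ v) l) * hωsum -
          (g 1 * ω * (Ym *ᵥ v) l + (ω ^ 3 + 2) * g 2 * (Ym *ᵥ (Ym *ᵥ v)) l) * hω3
    obtain ⟨w, hw⟩ := (hf.nondegenerate v hv).2
    have hsp : w ∈ Submodule.span F (Set.range vs) := by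
      rw [hli.span_eq_top_of_card_eq_finrank (by simp)]
      exact Submodule.mem_top
    obtain ⟨g, rfl⟩ := (Submodule.mem_span_range_iff_exists_fun F).mp hsp
    apply hw
    have e1 := horth _ _ 1 0 hX1' hXv' (by norm_num)
    have e2 := horth _ _ 2 0 hX2 hXv' (by norm_num)
    have e1' := horth _ _ 0 1 hXv' hX1' (by norm_num)
    have e2' := horth _ _ 0 2 hXv' hX2 (by norm_num)
    simp [vs, Fin.sum_univ_three, hf.add_left, hf.smul_left, add_right' hf, smul_right' hf, h0, e1, e2, e1', e2', -Matrix.mulVec_mulVec]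
  -- a vector of norm one
  obtain ⟨v0, hv0mem, hv0⟩ : ∃ w ∈ Submodule.span F {v}, f w w = 1 := by
    obtain ⟨b, hb, hspan⟩ := CfsgLib.Classical.exists_orthonormal_span hF (Submodule.span F {v}) (fun u hu hz => by
      obtain ⟨a, rfl⟩ := Submodule.mem_span_singleton.mp hu
      have h := hz v (Submodule.mem_span_singleton_self v)
      change f (a • v) v = 0 at h
      rw [hf.smul_left] at h
      rw [(mul_eq_zero.mp h).resolve_right hvv, zero_smul])
    let i0 : Fin (Module.finrank F (Submodule.span F {v})) := ⟨0, by rw [finrank_span_singleton hv]; norm_num⟩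
    refine ⟨b i0, ?_, by rw [hfdef, hb, if_pos rfl]⟩
    have := Submodule.subset_span (R := F) (Set.mem_range_self (f := b) i0)
    rwa [hspan] at this
  obtain ⟨a, rfl⟩ := Submodule.mem_span_singleton.mp hv0mem
  set v0 := a • v with hv0def
  have hA0 : Xm *ᵥ v0 = ω ^ 0 • v0 := by rw [pow_zero, one_smul, hv0def, mulVec_smul, hXv]
  have hA1 : Xm *ᵥ (Ym *ᵥ v0) = ω ^ 1 • (Ym *ᵥ v0) := by
    rw [pow_one, hv0def, mulVec_smul, mulVec_smul, hX1, smul_comm]
  have hA2 : Xm *ᵥ (Ym *ᵥ (Ym *ᵥ v0)) = ω ^ 2 • (Ym *ᵥ (Ym *ᵥ v0)) := by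
    rw [hv0def, mulVec_smul, mulVec_smul, mulVec_smul, hX2, smul_comm]
  have hA3 : Ym *ᵥ (Ym *ᵥ (Ym *ᵥ v0)) = v0 := by
    rw [hv0def, mulVec_smul, mulVec_smul, mulVec_smul, hY3]
  obtain ⟨B, hB, hBv⟩ := exists_GU_of_orthonormal hF (v := ![v0, Ym *ᵥ v0, Ym *ᵥ (Ym *ᵥ v0)]) (fun i j => by
    have n1 : f (Ym *ᵥ v0) (Ym *ᵥ v0) = 1 := by rw [hisoY, hv0]
    have n2 : f (Ym *ᵥ (Ym *ᵥ v0)) (Ym *ᵥ (Ym *ᵥ v0)) = 1 := by rw [hisoY, n1]
    fin_cases i <;> fin_cases j <;> first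
      | exact hv0
      | exact n1
      | exact n2
      | exact horth _ _ 0 1 hA0 hA1 (by norm_num)
      | exact horth _ _ 0 2 hA0 hA2 (by norm_num)
      | exact horth _ _ 1 0 hA1 hA0 (by norm_num)
      | exact horth _ _ 1 2 hA1 hA2 (by norm_num)
      | exact horth _ _ 2 0 hA2 hA0 (by norm_num)
      | exact horth _ _ 2 1 hA2 hA1 (by norm_num))
  have hB0 : (B : Matrix (Fin 3) (Fin 3) F) *ᵥ Pi.single 0 1 = v0 := hBv 0
  have hB1 : (B : Matrix (Fin 3) (Fin 3) F) *ᵥ Pi.single 1 1 = Ym *ᵥ v0 := hBv 1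
  have hB2 : (B : Matrix (Fin 3) (Fin 3) F) *ᵥ Pi.single 2 1 = Ym *ᵥ (Ym *ᵥ v0) := hBv 2
  -- the coded generators
  obtain ⟨gX, hgX, hXG⟩ := exists_GL hc hF ThreeFive.mX_su
  obtain ⟨gY, hgY, hYG⟩ := exists_GL hc hF ThreeFive.mY_su
  obtain ⟨gC, hgC, hCG⟩ := exists_GL hc hF ThreeFive.form_su
  have hone : toM φ r (ThreeFive.formCode 0 0 0) = 1 := by
    rw [toM_congr fun l m => (ThreeFive.form_generators l m).2.2, toM_one]
  have hXc : toM φ r ThreeFive.mX = toM φ r (ThreeFive.formCode 0 1 0) :=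
    toM_congr fun l m => (ThreeFive.form_generators l m).1.symm
  have hYc : toM φ r ThreeFive.mY = toM φ r (ThreeFive.formCode 0 0 1) :=
    toM_congr fun l m => (ThreeFive.form_generators l m).2.1.symm
  have pC : ∀ n : ℕ, ((gC ^ n : GL (Fin 3) F) : Matrix (Fin 3) (Fin 3) F) =
      toM φ r (ThreeFive.formCode (n : Fin 3) 0 0) := fun n => by
    rw [Units.val_pow_eq_pow_val, hgC]
    exact toM_pow hc (P := fun k => ThreeFive.formCode k 0 0) (fun l m => (ThreeFive.form_generators l m).2.2)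
      (fun k l m => (ThreeFive.form_step k l m).1) n
  have pX : ∀ n : ℕ, ((gX ^ n : GL (Fin 3) F) : Matrix (Fin 3) (Fin 3) F) =
      toM φ r (ThreeFive.formCode 0 (n : Fin 3) 0) := fun n => by
    rw [Units.val_pow_eq_pow_val, hgX, hXc]
    exact toM_pow hc (P := fun k => ThreeFive.formCode 0 k 0) (fun l m => (ThreeFive.form_generators l m).2.2)
      (fun k l m => (ThreeFive.form_step k l m).2.1) n
  have pY : ∀ n : ℕ, ((gY ^ n : GL (Fin 3) F) : Matrix (Fin 3) (Fin 3) F) =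
      toM φ r (ThreeFive.formCode 0 0 (n : Fin 3)) := fun n => by
    rw [Units.val_pow_eq_pow_val, hgY, hYc]
    exact toM_pow hc (P := fun k => ThreeFive.formCode 0 0 k) (fun l m => (ThreeFive.form_generators l m).2.2)
      (fun k l m => (ThreeFive.form_step k l m).2.2) n
  have hform : ∀ k i j : ℕ, ((gC ^ k * gX ^ i * gY ^ j : GL (Fin 3) F) : Matrix (Fin 3) (Fin 3) F) =
      toM φ r (ThreeFive.formCode (k : Fin 3) (i : Fin 3) (j : Fin 3)) := fun k i j => by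
    rw [Units.val_mul, Units.val_mul, pC, pX, pY, toM_mul hc, toM_mul hc, toM_congr (ThreeFive.form_mul _ _ _)]
  have hCval : (gC : Matrix (Fin 3) (Fin 3) F) = ω • 1 := by
    rw [hgC]
    ext l m
    by_cases h : l = m
    · subst h
      simp [toM, ThreeFive.formCode, hel]
    · simp [toM, ThreeFive.formCode, h, el]
  have hCsc : gC ∈ Cfsg.Geo.scalars (Fin 3) F := scalars_of_matrix hCval
  have hXe : ∀ l : Fin 3, (gX : Matrix (Fin 3) (Fin 3) F) *ᵥ Pi.single l 1 = ω ^ (l : ℕ) • Pi.single l 1 := by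
    intro l
    rw [hgX, hXc]
    funext m
    by_cases h : m = l
    · subst h
      simp [toM, ThreeFive.formCode, hel]
    · simp [toM, ThreeFive.formCode, h, el]
  have hYe : ∀ l : Fin 3, (gY : Matrix (Fin 3) (Fin 3) F) *ᵥ Pi.single l 1 = Pi.single (l + 1) 1 := by
    intro l
    rw [hgY, hYc]
    funext m
    by_cases h : m = l + 1
    · subst h
      simp [toM, ThreeFive.formCode, hel]
    · simp [toM, ThreeFive.formCode, h, el]
  set R' := R.comap (MulAut.conj B).toMonoidHom with hR'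
  have hR'mem : ∀ g, g ∈ R' ↔ B * g * B⁻¹ ∈ R := fun g => by simp [hR']
  have hXR : gX ∈ R' := by
    rw [hR'mem]
    suffices e : B * gX * B⁻¹ = x1 by rwa [e]
    rw [mul_inv_eq_iff_eq_mul]
    refine Units.ext (Matrix.ext_of_mulVec_single fun l => ?_)
    rw [Units.val_mul, Units.val_mul, ← mulVec_mulVec, ← mulVec_mulVec, hXe, mulVec_smul, ← hXm]
    fin_cases l
    · exact (hB0 ▸ hA0).symm
    · exact (hB1 ▸ hA1).symm
    · exact (hB2 ▸ hA2).symm
  have hYR : gY ∈ R' := by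
    rw [hR'mem]
    suffices e : B * gY * B⁻¹ = y by rwa [e]
    rw [mul_inv_eq_iff_eq_mul]
    refine Units.ext (Matrix.ext_of_mulVec_single fun l => ?_)
    rw [Units.val_mul, Units.val_mul, ← mulVec_mulVec, ← mulVec_mulVec, hYe, ← hYm]
    fin_cases l
    · change (B : Matrix (Fin 3) (Fin 3) F) *ᵥ Pi.single 1 1 = Ym *ᵥ ((B : Matrix (Fin 3) (Fin 3) F) *ᵥ Pi.single 0 1)
      rw [hB1, hB0]
    · change (B : Matrix (Fin 3) (Fin 3) F) *ᵥ Pi.single 2 1 = Ym *ᵥ ((B : Matrix (Fin 3) (Fin 3) F) *ᵥ Pi.single 1 1)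
      rw [hB2, hB1]
    · change (B : Matrix (Fin 3) (Fin 3) F) *ᵥ Pi.single 0 1 = Ym *ᵥ ((B : Matrix (Fin 3) (Fin 3) F) *ᵥ Pi.single 2 1)
      rw [hB0, hB2, hA3]
  have hCR : gC ∈ R' := by
    rw [hR'mem, ← scalars_comm hCsc B, mul_inv_cancel_right]
    rwa [show gC = c from Units.ext (hCval.trans hxy.symm)]
  have hCz : ∀ g : GL (Fin 3) F, gC * g = g * gC := scalars_comm hCsc
  have hCp : ∀ (n : ℕ) (g : GL (Fin 3) F), gC ^ n * g = g * gC ^ n := fun n g => (Commute.pow_left (hCz g) n).eq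
  have hC3 : gC ^ 3 = 1 := Units.ext (by rw [pC, show ((3 : ℕ) : Fin 3) = 0 from rfl, hone, Units.val_one])
  have hXY' : gX * gY * gX⁻¹ = gC * gY := by
    rw [mul_inv_eq_iff_eq_mul]
    refine Units.ext (Matrix.ext_of_mulVec_single fun l => ?_)
    rw [Units.val_mul, Units.val_mul, Units.val_mul, hCval, Matrix.smul_mul, Matrix.one_mul, Matrix.smul_mul,
      smul_mulVec, ← mulVec_mulVec, ← mulVec_mulVec, hYe, hXe, hXe, mulVec_smul, hYe, smul_smul, ← pow_succ']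
    congr 1
    fin_cases l <;> norm_num [hω3, Fin.val_add]
  have hYX' : gY * gX * gY⁻¹ = gC ^ 2 * gX := by
    have h1 : gC⁻¹ = gC ^ 2 := inv_eq_of_mul_eq_one_right (by rw [← pow_succ', hC3])
    rw [← h1]
    calc gY * gX * gY⁻¹ = (gX * gY * gX⁻¹ * gY⁻¹)⁻¹ * gX := by group
      _ = gC⁻¹ * gX := by rw [hXY']; group
  -- scalars among the diagonal matrices commuting with the shift
  have hdiag : ∀ g : GL (Fin 3) F, g * gX = gX * g →
      (g : Matrix (Fin 3) (Fin 3) F) = Matrix.diagonal fun l => (g : Matrix (Fin 3) (Fin 3) F) l l := by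
    intro g hg
    ext l m
    by_cases h : l = m
    · subst h; simp
    rw [Matrix.diagonal_apply_ne _ h]
    have h1 := congrFun (congrArg (fun M : GL (Fin 3) F => (M : Matrix (Fin 3) (Fin 3) F) *ᵥ Pi.single m 1) hg) l
    simp only [Units.val_mul, ← mulVec_mulVec, hXe, mulVec_smul] at h1
    have h2 : ((gX : Matrix (Fin 3) (Fin 3) F) *ᵥ ((g : Matrix (Fin 3) (Fin 3) F) *ᵥ Pi.single m 1)) l =
        ω ^ (l : ℕ) * (g : Matrix (Fin 3) (Fin 3) F) l m := by
      rw [hgX, hXc]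
      simp [toM, ThreeFive.formCode, Matrix.mulVec, dotProduct, Pi.single_apply, apply_ite (el φ r), el_zero, hel,
        Fin.sum_univ_three]
    rw [h2] at h1
    simp [Matrix.mulVec, dotProduct, Pi.single_apply] at h1
    by_contra h0
    have h3 : ω ^ (m : ℕ) = ω ^ (l : ℕ) := h1.resolve_right h0
    exact h (Fin.ext (hprim.pow_inj l.isLt m.isLt h3.symm))
  have hexp' : ∀ g ∈ R', g ^ 3 = 1 := fun g hg => by
    have h := hexp _ ((hR'mem g).mp hg)
    rw [conj_pow] at h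
    exact conj_eq_one_iff.mp h
  have hcomm' : ∀ g ∈ R', ∀ u ∈ R', ∃ k : ℕ, g * u * g⁻¹ = gC ^ k * u := by
    intro g hg u hu
    obtain ⟨k, -, hk⟩ := hcomm _ ((hR'mem g).mp hg) _ ((hR'mem u).mp hu)
    refine ⟨k, ?_⟩
    have e : B * g * B⁻¹ * (B * u * B⁻¹) * (B * g * B⁻¹)⁻¹ * (B * u * B⁻¹)⁻¹ = gC ^ k := Units.ext (by
      rw [hk, Units.val_pow_eq_pow_val, hCval, smul_pow, one_pow])
    calc g * u * g⁻¹ = B⁻¹ * (B * g * B⁻¹ * (B * u * B⁻¹) * (B * g * B⁻¹)⁻¹ * (B * u * B⁻¹)⁻¹) * B * u := by group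
      _ = gC ^ k * u := by rw [e, ← hCp k B⁻¹]; group
  have hnf : ∀ g ∈ R', ∃ k i j : ℕ, g = gC ^ k * gX ^ i * gY ^ j := by
    intro g hg
    obtain ⟨a, ha⟩ := hcomm' g hg gX hXR
    obtain ⟨b, hb⟩ := hcomm' g hg gY hYR
    set p := gX ^ b * gY ^ (2 * a) with hp
    have hpX : p * gX * p⁻¹ = gC ^ a * gX := by
      calc p * gX * p⁻¹ = gX ^ b * (gY ^ (2 * a) * gX * (gY ^ (2 * a))⁻¹) * (gX ^ b)⁻¹ := by rw [hp]; group
        _ = gX ^ b * ((gC ^ 2) ^ (2 * a)) * gX * (gX ^ b)⁻¹ := by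
          rw [twist_pow (fun g => hCp 2 g) hYX' (2 * a)]; group
        _ = (gC ^ 2) ^ (2 * a) * gX := by
          rw [← pow_mul, ← hCp _ (gX ^ b)]; group
        _ = gC ^ a * gX := by
          rw [← pow_mul, show 2 * (2 * a) = 3 * a + a by ring, pow_add, pow_mul, hC3, one_pow, one_mul]
    have hpY : p * gY * p⁻¹ = gC ^ b * gY := by
      calc p * gY * p⁻¹ = gX ^ b * gY * (gX ^ b)⁻¹ := by rw [hp]; group
        _ = gC ^ b * gY := twist_pow hCz hXY' b
    set g' := p⁻¹ * g with hg'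
    have hg'X : g' * gX = gX * g' := by
      calc g' * gX = p⁻¹ * (g * gX * g⁻¹) * g := by rw [hg']; group
        _ = p⁻¹ * (p * gX * p⁻¹) * g := by rw [ha, hpX]
        _ = gX * g' := by rw [hg']; group
    have hg'Y : g' * gY = gY * g' := by
      calc g' * gY = p⁻¹ * (g * gY * g⁻¹) * g := by rw [hg']; group
        _ = p⁻¹ * (p * gY * p⁻¹) * g := by rw [hb, hpY]
        _ = gY * g' := by rw [hg']; group
    have hd := hdiag g' hg'X
    have hstep : ∀ l : Fin 3, (g' : Matrix (Fin 3) (Fin 3) F) (l + 1) (l + 1) =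
        (g' : Matrix (Fin 3) (Fin 3) F) l l := by
      intro l
      have h1 := congrFun (congrArg (fun M : GL (Fin 3) F => (M : Matrix (Fin 3) (Fin 3) F) *ᵥ Pi.single l 1) hg'Y) (l + 1)
      simp only [Units.val_mul, ← mulVec_mulVec, hYe] at h1
      rw [hd, Matrix.diagonal_mulVec_single, Matrix.diagonal_mulVec_single, mul_one, mul_one,
        show (Pi.single l ((g' : Matrix (Fin 3) (Fin 3) F) l l) : Fin 3 → F) =
          (g' : Matrix (Fin 3) (Fin 3) F) l l • Pi.single l 1 by ext; simp [Pi.single_apply],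
        mulVec_smul, hYe] at h1
      simpa using h1
    have hsc : (g' : Matrix (Fin 3) (Fin 3) F) = (g' : Matrix (Fin 3) (Fin 3) F) 0 0 • 1 := by
      conv_lhs => rw [hd]
      rw [Matrix.smul_one_eq_diagonal]
      congr 1
      funext l
      fin_cases l
      · rfl
      · exact hstep 0
      · exact (hstep 1).trans (hstep 0)
    have hg'R : g' ∈ R' := R'.mul_mem (R'.inv_mem (R'.mul_mem (R'.pow_mem hXR b) (R'.pow_mem hYR _))) hg
    have h3 := congrArg Units.val (hexp' g' hg'R)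
    rw [Units.val_pow_eq_pow_val, hsc, smul_pow, one_pow, Units.val_one] at h3
    obtain ⟨k, -, hk⟩ := hprim.eq_pow_of_pow_eq_one
      (smul_left_injective F (one_ne_zero (α := Matrix (Fin 3) (Fin 3) F)) (h3.trans (one_smul F _).symm))
    refine ⟨k, b, 2 * a, ?_⟩
    have e : g' = gC ^ k := Units.ext (by rw [hsc, ← hk, Units.val_pow_eq_pow_val, hCval, smul_pow, one_pow])
    calc g = p * g' := by rw [hg']; group
      _ = gC ^ k * gX ^ b * gY ^ (2 * a) := by rw [e, ← hCp k p, hp]; group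
  -- the overgroup
  set X := lineStab fun k => toV φ r (ThreeFive.mPts k) with hXdef
  have hXX : gX ∈ X := mem_lineStab_of_perm hc ThreeFive.mX_perm hgX
  have hYX : gY ∈ X := mem_lineStab_of_perm hc ThreeFive.mY_perm hgY
  obtain ⟨gU, hgU, hUG⟩ := exists_GL hc hF ThreeFive.mU_su
  obtain ⟨gW, hgW, hWG⟩ := exists_GL hc hF ThreeFive.mW_su
  have hnorm : ∀ h ∈ H, ∀ u ∈ R', (B⁻¹ * h * B) * u * (B⁻¹ * h * B)⁻¹ ∈ R' := by
    intro h hh u hu
    rw [hR'mem] at hu ⊢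
    rw [show B * (B⁻¹ * h * B * u * (B⁻¹ * h * B)⁻¹) * B⁻¹ = h * (B * u * B⁻¹) * h⁻¹ by group]
    exact (Subgroup.mem_normalizer_iff.mp (hle hh) _).mp hu
  refine not_maximal_of_overgroup (X := X) hH hB (fun h hh => ?_) hUG
    (mem_lineStab_of_perm hc ThreeFive.mU_perm hgU) (fun hu => ?_) hWG
    (not_mem_lineStab_of_move hc ThreeFive.mW_move hgW)
  · set h' := B⁻¹ * h * B with hh'
    have hh'G := conj_inv_mem_SU hB (hH.1.le hh)
    rw [← hh'] at hh'G
    obtain ⟨k, i, j, hki⟩ := hnf _ (hnorm h hh gX hXR)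
    rw [← hh'] at hki
    have hij : (i : Fin 3) ≠ 0 ∨ (j : Fin 3) ≠ 0 := by
      by_contra hcon
      rw [not_or, not_not, not_not] at hcon
      have hP : gC ^ k * gX ^ i * gY ^ j = gC ^ k := Units.ext (by rw [hform, pC, hcon.1, hcon.2])
      rw [hP, mul_inv_eq_iff_eq_mul, hCp k h'] at hki
      have hXC : gX = gC ^ k := mul_left_cancel hki
      have e := congrArg (fun M : GL (Fin 3) F => (M : Matrix (Fin 3) (Fin 3) F)) hXC
      simp only [Units.val_pow_eq_pow_val, hCval, smul_pow, one_pow, hgX, hXc] at e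
      have e0 := congrFun (congrFun e 0) 0
      have e1 := congrFun (congrFun e 1) 1
      simp [toM, ThreeFive.formCode, hel] at e0 e1
      exact hω1 (e1.trans e0.symm)
    obtain ⟨gG, hgG, hGG⟩ := exists_GL hc hF (ThreeFive.rep_su (i : Fin 3) (j : Fin 3))
    set m := ThreeFive.repK (i : Fin 3) (j : Fin 3) with hm
    have hGX : gG * gX * gG⁻¹ = gC ^ (m : ℕ) * gX ^ i * gY ^ j := by
      rw [mul_inv_eq_iff_eq_mul]
      refine Units.ext ?_
      rw [Units.val_mul, Units.val_mul (gC ^ (m : ℕ) * gX ^ i * gY ^ j) gG, hform, hgG, hgX, toM_mul hc,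
        toM_mul hc, Fin.cast_val_eq_self]
      exact toM_congr (ThreeFive.rep_twist _ _ hij)
    set h2 := gG⁻¹ * h' with hh2
    obtain ⟨a, ha⟩ : ∃ a : ℕ, h2 * gX * h2⁻¹ = gC ^ a * gX := by
      refine ⟨k + 2 * (m : ℕ), ?_⟩
      have e1 : gC ^ (2 * (m : ℕ)) * gC ^ (m : ℕ) = 1 := by
        rw [← pow_add, show 2 * (m : ℕ) + m = 3 * m by ring, pow_mul, hC3, one_pow]
      calc h2 * gX * h2⁻¹ = gG⁻¹ * (h' * gX * h'⁻¹) * gG := by rw [hh2]; group
        _ = gG⁻¹ * (gC ^ k * (gC ^ (2 * (m : ℕ)) * gC ^ (m : ℕ)) * gX ^ i * gY ^ j) * gG := by rw [hki, e1, mul_one]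
        _ = gG⁻¹ * gC ^ (k + 2 * (m : ℕ)) * (gC ^ (m : ℕ) * gX ^ i * gY ^ j) * gG := by rw [pow_add]; group
        _ = gC ^ (k + 2 * (m : ℕ)) * gG⁻¹ * (gG * gX * gG⁻¹) * gG := by rw [← hCp _ gG⁻¹, hGX]
        _ = gC ^ (k + 2 * (m : ℕ)) * gX := by group
    set h3 := gY ^ a * h2 with hh3
    have hh3X : h3 * gX = gX * h3 := by
      have : h3 * gX * h3⁻¹ = gX := by
        calc h3 * gX * h3⁻¹ = gY ^ a * (h2 * gX * h2⁻¹) * (gY ^ a)⁻¹ := by rw [hh3]; group
          _ = gY ^ a * gC ^ a * gX * (gY ^ a)⁻¹ := by rw [ha]; group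
          _ = gC ^ a * (gY ^ a * gX * (gY ^ a)⁻¹) := by rw [← hCp a (gY ^ a)]; group
          _ = gX := by
            rw [twist_pow (fun g => hCp 2 g) hYX' a, ← mul_assoc, ← pow_mul, ← pow_add,
              show a + 2 * a = 3 * a by ring, pow_mul, hC3, one_pow, one_mul]
      rwa [mul_inv_eq_iff_eq_mul] at this
    have hh3G : h3 ∈ Cfsg.GU 3 F 5 ⊓ Cfsg.Geo.specialLinear (Fin 3) F :=
      Subgroup.mul_mem _ (Subgroup.pow_mem _ hYG a) (Subgroup.mul_mem _ (Subgroup.inv_mem _ hGG) hh'G)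
    suffices h3X : h3 ∈ X by
      rw [show h' = gG * ((gY ^ a)⁻¹ * h3) by rw [hh3, hh2]; group]
      exact X.mul_mem (mem_lineStab_of_perm hc (ThreeFive.rep_perm _ _) hgG)
        (X.mul_mem (X.inv_mem (X.pow_mem hYX a)) h3X)
    have hd := hdiag h3 hh3X
    set d := fun l => (h3 : Matrix (Fin 3) (Fin 3) F) l l with hddef
    have hd0 : ∀ l, d l ≠ 0 := fun l h0 => by
      have h1 := (mem_specialLinear_iff _).mp hh3G.2
      rw [hd, det_diagonal, Finset.prod_eq_zero (Finset.mem_univ l) h0] at h1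
      exact zero_ne_one h1
    have hd6 : ∀ l, d l ^ 6 = 1 := by
      intro l
      have h1 := congrFun (congrFun ((mem_GU_iff hc.frob hinv' h3).mp hh3G.1) l) l
      rw [hd] at h1
      simp [Matrix.diagonal_transpose, Matrix.diagonal_map, hc.frob] at h1
      rwa [pow_succ]
    -- the representative normalises the group
    have hGup : ∀ u ∈ R', gG * u * gG⁻¹ ∈ R' := by
      obtain ⟨k', a', b', hY'⟩ := ThreeFive.rep_normal (i : Fin 3) (j : Fin 3)
      have hGY : gG * gY * gG⁻¹ = gC ^ (k' : ℕ) * gX ^ (a' : ℕ) * gY ^ (b' : ℕ) := by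
        rw [mul_inv_eq_iff_eq_mul]
        refine Units.ext ?_
        rw [Units.val_mul, Units.val_mul (gC ^ (k' : ℕ) * gX ^ (a' : ℕ) * gY ^ (b' : ℕ)) gG, hform, hgG, hgY,
          toM_mul hc, toM_mul hc, Fin.cast_val_eq_self, Fin.cast_val_eq_self, Fin.cast_val_eq_self]
        exact toM_congr hY'
      intro u hu
      obtain ⟨c1, c2, c3, rfl⟩ := hnf u hu
      rw [show gG * (gC ^ c1 * gX ^ c2 * gY ^ c3) * gG⁻¹ =
        (gG * gC ^ c1 * gG⁻¹) * (gG * gX ^ c2 * gG⁻¹) * (gG * gY ^ c3 * gG⁻¹) by group,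
        ← conj_pow, ← conj_pow, ← conj_pow, ← hCz gG, mul_inv_cancel_right, hGX, hGY]
      refine R'.mul_mem (R'.mul_mem (R'.pow_mem hCR _) (R'.pow_mem ?_ _)) (R'.pow_mem ?_ _)
      · exact R'.mul_mem (R'.mul_mem (R'.pow_mem hCR _) (R'.pow_mem hXR _)) (R'.pow_mem hYR _)
      · exact R'.mul_mem (R'.mul_mem (R'.pow_mem hCR _) (R'.pow_mem hXR _)) (R'.pow_mem hYR _)
    have hGdown : ∀ n : ℕ, ∀ u ∈ R', gG ^ n * u * (gG ^ n)⁻¹ ∈ R' := by
      intro n
      induction n with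
      | zero => intro u hu; simpa using hu
      | succ n ih =>
        intro u hu
        rw [show gG ^ (n + 1) * u * (gG ^ (n + 1))⁻¹ = gG ^ n * (gG * u * gG⁻¹) * (gG ^ n)⁻¹ by rw [pow_succ]; group]
        exact ih _ (hGup u hu)
    have hGinv : gG⁻¹ = gG ^ (orderOf gG - 1) :=
      (eq_inv_of_mul_eq_one_left ((pow_sub_one_mul (orderOf_pos gG).ne' gG).trans (pow_orderOf_eq_one gG))).symm
    have hh3R : h3 * gY * h3⁻¹ ∈ R' := by
      rw [show h3 * gY * h3⁻¹ = gY ^ a * (gG⁻¹ * (h' * gY * h'⁻¹) * gG⁻¹⁻¹) * (gY ^ a)⁻¹ by rw [hh3, hh2]; group,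
        hGinv]
      exact R'.mul_mem (R'.mul_mem (R'.pow_mem hYR a) (hGdown _ _ (hnorm h hh gY hYR))) (R'.inv_mem (R'.pow_mem hYR a))
    obtain ⟨k1, i1, j1, hk1⟩ := hnf _ hh3R
    rw [mul_inv_eq_iff_eq_mul] at hk1
    have hmat := congrArg (fun g : GL (Fin 3) F => (g : Matrix (Fin 3) (Fin 3) F)) hk1
    simp only [Units.val_mul (gC ^ k1 * gX ^ i1 * gY ^ j1) h3, Units.val_mul h3 gY, hform, hgY, hYc] at hmat
    rw [hd] at hmat
    have e10 := congrFun (congrFun hmat 1) 0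
    have e21 := congrFun (congrFun hmat 2) 1
    simp only [Matrix.diagonal_mul, Matrix.mul_diagonal, toM, Matrix.of_apply, ThreeFive.formCode] at e10 e21
    have hj1 : (j1 : Fin 3) = 1 := by
      rcases (show (j1 : Fin 3) = 0 ∨ (j1 : Fin 3) = 1 ∨ (j1 : Fin 3) = 2 by generalize (j1 : Fin 3) = t; fin_cases t <;> simp)
        with h0 | h0 | h0
      · simp [h0, hel, el_zero] at e10
        exact absurd e10 (hd0 1)
      · exact h0
      · simp [h0, hel, el_zero] at e10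
        exact absurd e10 (hd0 1)
    simp [hj1, hel] at e10 e21
    set u1 := ω ^ ((k1 : Fin 3) : ℕ) with hu1
    set u2 := ω ^ ((i1 : Fin 3) : ℕ) with hu2
    have hpa : ∀ s t : Fin 3, ω ^ ((s + t : Fin 3) : ℕ) = ω ^ (s : ℕ) * ω ^ (t : ℕ) := fun s t => by
      rw [← pow_add, Fin.val_add, ← pow_eq_pow_mod _ hω3]
    have hpm : ∀ t : Fin 3, ω ^ ((t * 2 : Fin 3) : ℕ) = ω ^ (t : ℕ) * ω ^ (t : ℕ) := fun t => by
      rw [← pow_add, Fin.val_mul, ← pow_eq_pow_mod _ hω3, mul_comm]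
      congr 1
      exact two_mul _
    have hu13 : u1 ^ 3 = 1 := by rw [hu1, ← pow_mul, mul_comm, pow_mul, hω3, one_pow]
    have hu23 : u2 ^ 3 = 1 := by rw [hu2, ← pow_mul, mul_comm, pow_mul, hω3, one_pow]
    have d1 : d 1 = u1 * u2 * d 0 := by
      rw [e10, hpa]
    have d2 : d 2 = u1 * (u2 * u2) * d 1 := by
      rw [e21, hpa, hpm]
    have hdet : d 0 * d 1 * d 2 = 1 := by
      have h1 := (mem_specialLinear_iff _).mp hh3G.2
      rwa [hd, det_diagonal, Fin.prod_univ_three] at h1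
    have hd03 : d 0 ^ 3 * u2 = 1 := by
      rw [d2, d1] at hdet
      linear_combination hdet - d 0 ^ 3 * u2 * u2 ^ 3 * hu13 - d 0 ^ 3 * u2 * hu23
    have hd0' : d 0 ^ 3 = 1 := by
      have h9 : d 0 ^ 9 = 1 := by linear_combination ((d 0 ^ 3 * u2) ^ 2 + d 0 ^ 3 * u2 + 1) * hd03 - d 0 ^ 9 * hu23
      have h := pow_gcd_eq_one.mpr ⟨h9, hd6 0⟩
      simpa using h
    have hu2' : u2 = 1 := by rw [← hd03, hd0', one_mul]
    obtain ⟨e, he, he0⟩ := hprim.eq_pow_of_pow_eq_one hd0'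
    have hh3val : h3 = gC ^ e * gX ^ ((k1 : Fin 3) : ℕ) := Units.ext (by
      rw [hd, Units.val_mul, Units.val_pow_eq_pow_val, hCval, smul_pow, one_pow, Matrix.smul_mul, Matrix.one_mul,
        Units.val_pow_eq_pow_val, hgX]
      have hXd : toM φ r ThreeFive.mX = Matrix.diagonal fun l : Fin 3 => ω ^ (l : ℕ) := by
        rw [hXc]
        ext l l'
        by_cases h : l = l'
        · subst h; simp [toM, ThreeFive.formCode, hel]
        · simp [toM, ThreeFive.formCode, h, el]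
      rw [hXd, Matrix.diagonal_pow, ← Matrix.diagonal_smul]
      congr 1
      funext l
      simp only [Pi.smul_apply, Pi.pow_apply, smul_eq_mul]
      fin_cases l
      · change d 0 = ω ^ e * (ω ^ (0 : ℕ)) ^ ((k1 : Fin 3) : ℕ)
        rw [pow_zero, one_pow, mul_one, he0]
      · change d 1 = ω ^ e * (ω ^ (1 : ℕ)) ^ ((k1 : Fin 3) : ℕ)
        rw [pow_one, ← hu1, d1, hu2', mul_one, he0, mul_comm]
      · change d 2 = ω ^ e * (ω ^ (2 : ℕ)) ^ ((k1 : Fin 3) : ℕ)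
        rw [← pow_mul, mul_comm 2, pow_mul, ← hu1, d2, d1, hu2', he0]
        ring)
    rw [hh3val]
    exact X.mul_mem (scalars_le_lineStab _ (Subgroup.pow_mem _ hCsc e)) (X.pow_mem hXX _)
  · have hu' := hnorm _ hu gX hXR
    rw [show B⁻¹ * (B * gU * B⁻¹) * B = gU by group] at hu'
    obtain ⟨k, i, j, hki⟩ := hnf _ hu'
    rw [mul_inv_eq_iff_eq_mul] at hki
    have h' := congrArg (fun g : GL (Fin 3) F => (g : Matrix (Fin 3) (Fin 3) F)) hki
    simp only [Units.val_mul (gC ^ k * gX ^ i * gY ^ j) gU, Units.val_mul gU gX, hform, hgU, hgX, toM_mul hc] at h'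
    obtain ⟨l, m, hlm⟩ := ThreeFive.mU_twist (k : Fin 3) (i : Fin 3) (j : Fin 3)
    exact hlm (el_injective hc (congrFun (congrFun h' l) m))

end CfsgLib.Techniques.AschPrimeU
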